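import Cfsg.Agent.Lib.CoreKill.Defs
import Cfsg.Agent.Lib.Bender.Q.Main
import Cfsg.Agent.Lib.Bender.Q.FixCount
import Cfsg.Agent.Lib.Bender.GoodAll
import Cfsg.Agent.Lib.CoprimeGen
import Cfsg.Agent.Lib.Basic
import Cfsg.Agent.Lib.ZStar.Main

/-!
Section 1 of the core-killing theorem: the first facts on a minimal counterexample and END, a criterion of
Aschbacher's type contradicts it.

Blueprint: `blueprint/bender/CoreKill.md`, section 1.
-/

set_option autoImplicit false
set_option linter.unusedSectionVars false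
set_option linter.style.haveILetI false

namespace CfsgLib.CoreKill

open Cfsg MulAction
open CfsgLib.Bender.TwoClosed (IsInv mem_normalizer_of_conj conj_mem_of_normalizer)
open CfsgLib.Bender.Assembly (orderOf_two isInv_of_orderOf fix_iff)

universe u

variable {G : Type u} [Group G] [Finite G]

local notation "cent" v => Subgroup.centralizer ({v} : Set _)

/-- An odd subgroup normal in a normal subgroup lies in the core. -/
theorem le_oddCore_of_normal_sub {N K : Subgroup G} [N.Normal] (hKN : K ≤ N)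
    (hn : N ≤ Subgroup.normalizer (K : Set G)) (hodd : Odd (Nat.card K)) : K ≤ oddCore G := by
  haveI : (K.subgroupOf N).Normal := (Subgroup.normal_subgroupOf_iff_le_normalizer hKN).mpr hn
  have h : K.subgroupOf N ≤ pPrimeCore 2 ↥N := CfsgLib.le_oddCore (by
    rwa [Nat.card_congr (Subgroup.subgroupOfEquivOfLe hKN).toEquiv])
  intro k hk
  exact CfsgLib.ZStar.map_pPrimeCore_le_of_normal N ⟨⟨k, hKN hk⟩, h hk, rfl⟩

/-- Two commuting involutions generate a noncyclic commutative 2-group. -/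
theorem pair_group {x y : G} (hx : IsInv x) (hy : IsInv y) (hne : x ≠ y) (hxy : Commute x y) :
    ∃ U : Subgroup G, IsMulCommutative U ∧ ¬ IsCyclic U ∧ IsPGroup 2 U ∧ x ∈ U ∧ y ∈ U ∧
      ∀ a ∈ U, a = 1 ∨ a = x ∨ a = y ∨ a = x * y := by
  let U : Subgroup G :=
    { carrier := {a | a = 1 ∨ a = x ∨ a = y ∨ a = x * y}
      one_mem' := Or.inl rfl
      mul_mem' := by
        have h1 : x * (x * y) = y := by rw [← mul_assoc, hx.2, one_mul]
        have h2 : y * x = x * y := hxy.eq.symm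
        have h3 : y * (x * y) = x := by rw [← mul_assoc, h2, mul_assoc, hy.2, mul_one]
        have h4 : x * y * x = y := by rw [mul_assoc, h2, h1]
        have h5 : x * y * y = x := by rw [mul_assoc, hy.2, mul_one]
        have h6 : x * y * (x * y) = 1 := by rw [← mul_assoc, h4, hy.2]
        rintro a b (rfl | rfl | rfl | rfl) (rfl | rfl | rfl | rfl) <;>
          simp [hx.2, hy.2, h1, h2, h3, h4, h5, h6]
      inv_mem' := by
        rintro a (rfl | rfl | rfl | rfl)
        · exact Or.inl inv_one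
        · exact Or.inr (Or.inl hx.inv)
        · exact Or.inr (Or.inr (Or.inl hy.inv))
        · exact Or.inr (Or.inr (Or.inr (by rw [mul_inv_rev, hx.inv, hy.inv, hxy.eq]))) }
  have hmem : ∀ a ∈ U, a = 1 ∨ a = x ∨ a = y ∨ a = x * y := fun a h => h
  have hsq : ∀ a ∈ U, a * a = 1 := by
    intro a ha
    rcases hmem a ha with rfl | rfl | rfl | rfl
    · exact one_mul 1
    · exact hx.2
    · exact hy.2
    · rw [hxy.symm.mul_mul_mul_comm, hx.2, hy.2, one_mul]
  refine ⟨U, ⟨⟨fun a b => Subtype.ext ?_⟩⟩, ?_, fun a => ⟨1, Subtype.ext ?_⟩, Or.inr (Or.inl rfl),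
    Or.inr (Or.inr (Or.inl rfl)), hmem⟩
  · show (a : G) * b = b * a
    have hab := hsq _ (U.mul_mem a.2 b.2)
    calc (a : G) * b = ((a : G) * b)⁻¹ := (inv_eq_of_mul_eq_one_right hab).symm
      _ = b * a := by
        rw [mul_inv_rev, inv_eq_of_mul_eq_one_right (hsq _ a.2), inv_eq_of_mul_eq_one_right (hsq _ b.2)]
  · intro hc
    obtain ⟨g, hg⟩ := IsCyclic.exists_generator (α := U)
    have hx' : (⟨x, Or.inr (Or.inl rfl)⟩ : U) ∈ Subgroup.zpowers g := hg _
    have hy' : (⟨y, Or.inr (Or.inr (Or.inl rfl))⟩ : U) ∈ Subgroup.zpowers g := hg _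
    have key : ∀ z : U, z ∈ Subgroup.zpowers g → (z : G) = 1 ∨ (z : G) = g := by
      intro z hz
      rw [← mem_powers_iff_mem_zpowers] at hz
      obtain ⟨i, rfl⟩ := hz
      show ((g ^ i : U) : G) = 1 ∨ ((g ^ i : U) : G) = g
      induction i with
      | zero => left; simp
      | succ i ih =>
        rcases ih with h | h
        · right; rw [pow_succ, Subgroup.coe_mul, h, one_mul]
        · left; rw [pow_succ, Subgroup.coe_mul, h, hsq _ g.2]
    exact hne (((key _ hx').resolve_left hx.1).trans ((key _ hy').resolve_left hy.1).symm)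
  · rw [pow_one, pow_two]
    exact hsq _ a.2

theorem zpowers_inv {x : G} (hx : IsInv x) : IsPGroup 2 ↥(Subgroup.zpowers x) :=
  CfsgLib.AfterFT.CoreSep.zpowers_two hx.2

namespace Data

variable {S : Sylow 2 G} {E W : Subgroup G} {θ : G → Subgroup G} (D : Data S E W θ)
include D

local notation "M" => Subgroup.normalizer (W : Set G)

theorem conj_fix {g x : G} (hg : g ∈ M) {w : G} : g * w * g⁻¹ ∈ W ⊓ (cent g * x * g⁻¹) ↔ w ∈ W ⊓ (cent x) := by
  simp only [Subgroup.mem_inf, ← Subgroup.mem_normalizer_iff.mp hg w, Subgroup.mem_centralizer_singleton_iff]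
  refine and_congr_right fun _ => ⟨fun h => ?_, fun h => Bender.Q.conj_comm h⟩
  have h1 := Bender.Q.conj_comm (g := g⁻¹) h
  simpa [mul_assoc] using h1

/-- `C_W(v) = θ(v)` for every involution of `M`. -/
theorem cent_eq {v : G} (hv : IsInv v) (hvM : v ∈ M) : W ⊓ (cent v) = θ v := by
  obtain ⟨m, hm, hmS⟩ := Bender.Q.exists_conj_sylow D.W_inv (zpowers_inv hv) (Subgroup.zpowers_le.mpr hvM)
  have h := D.cent _ (hmS v (Subgroup.mem_zpowers v)) (hv.conj m)
  rw [D.equiv] at h
  ext w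
  rw [← conj_fix D hm (x := v) (w := w), h]
  exact ⟨fun ⟨y, hy, e⟩ => (show y = w from mul_left_cancel (mul_right_cancel e)) ▸ hy, fun hw => ⟨w, hw, rfl⟩⟩

theorem theta_le {v : G} (hv : IsInv v) (hvM : v ∈ M) : θ v ≤ W := (D.cent_eq hv hvM) ▸ inf_le_left

omit [Finite G] in
theorem theta_normal (v : G) : (cent v) ≤ Subgroup.normalizer (θ v : Set G) := fun g hg => by
  have hv : g * v * g⁻¹ = v := by rw [Subgroup.mem_centralizer_singleton_iff.mp hg, mul_inv_cancel_right]
  have h := D.equiv g v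
  rw [hv] at h
  refine Subgroup.mem_normalizer_iff.mpr fun w => ⟨fun hw => h ▸ ⟨w, hw, rfl⟩, fun hw => ?_⟩
  obtain ⟨y, hy, e⟩ := (h ▸ hw : g * w * g⁻¹ ∈ (θ v).map (MulAut.conj g).toMonoidHom)
  exact (show y = w from mul_left_cancel (mul_right_cancel e)) ▸ hy

theorem S_le : (S : Subgroup G) ≤ M := D.W_inv

/-- Every involution of `S` commutes with another one. -/
theorem exists_pair {v : G} (hvS : v ∈ (S : Subgroup G)) (hv : IsInv v) :
    ∃ u ∈ (S : Subgroup G), IsInv u ∧ u ≠ v ∧ Commute v u := by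
  classical
  haveI : Fact (Nat.Prime 2) := ⟨Nat.prime_two⟩
  obtain ⟨z, hzS, hz, hzc⟩ := CfsgLib.Comp.exists_central_in_normal (p := 2) S.isPGroup' le_rfl
    Subgroup.le_normalizer fun e => hv.1 (Subgroup.mem_bot.mp (e ▸ hvS))
  by_cases hzv : z = v
  · subst hzv
    by_contra hcon
    push Not at hcon
    let g : E → Bool := fun e => decide ((e : G) = 1)
    have hg : Function.Injective g := by
      intro a b h
      have h' := decide_eq_decide.mp h
      refine Subtype.ext ?_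
      have key : ∀ c : E, (c : G) ≠ 1 → (c : G) = z := fun c hc => by
        by_contra hcv
        exact hcon c (D.E_le c.2) ⟨hc, by rw [← pow_two]; exact D.E_elem.2 c c.2⟩ hcv (hzc c (D.E_le c.2)).symm
      by_cases ha : (a : G) = 1
      · rw [ha, h'.mp ha]
      · rw [key a ha, key b fun hb => ha (h'.mpr hb)]
    have h2 := Nat.card_le_card_of_injective g hg
    rw [Nat.card_eq_fintype_card (α := Bool), Fintype.card_bool] at h2
    have := D.E_card
    omega
  · exact ⟨z, hzS, isInv_of_orderOf hz, hzv, hzc v hvS⟩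

theorem pair_at {v : G} (hv : IsInv v) (hvM : v ∈ M) : ∃ u ∈ M, IsInv u ∧ u ≠ v ∧ Commute v u := by
  obtain ⟨m, hm, hmS⟩ := Bender.Q.exists_conj_sylow D.S_le (zpowers_inv hv) (Subgroup.zpowers_le.mpr hvM)
  obtain ⟨u, hu, hui, hne, hc⟩ := D.exists_pair (hmS v (Subgroup.mem_zpowers v)) (hv.conj m)
  refine ⟨m⁻¹ * u * m, mul_mem (mul_mem (inv_mem hm) (D.S_le hu)) hm, ?_, fun e => hne ?_, ?_⟩
  · simpa using hui.conj m⁻¹
  · rw [← e]; group
  · show v * (m⁻¹ * u * m) = m⁻¹ * u * m * v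
    calc v * (m⁻¹ * u * m) = m⁻¹ * ((m * v * m⁻¹) * u) * m := by group
      _ = m⁻¹ * (u * (m * v * m⁻¹)) * m := by rw [hc.eq]
      _ = _ := by group

/-- (F): `M` is the only conjugate of itself above two commuting involutions. -/
theorem mem_of_pair {x y g : G} (hx : IsInv x) (hy : IsInv y) (hne : x ≠ y) (hxy : Commute x y) (hxM : x ∈ M)
    (hyM : y ∈ M) (hgx : g * x * g⁻¹ ∈ M) (hgy : g * y * g⁻¹ ∈ M) : g ∈ M := by
  obtain ⟨U, hUc, hUn, hU2, hxU, hyU, hU⟩ := pair_group hx hy hne hxy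
  have hUM : U ≤ M := fun a ha => by
    rcases hU a ha with rfl | rfl | rfl | rfl
    · exact one_mem _
    · exact hxM
    · exact hyM
    · exact mul_mem hxM hyM
  haveI := hUc
  have hgen := coprime_generated_by_centralizers (K := W) hUn hUM (by
    obtain ⟨i, hi⟩ := IsPGroup.iff_card.mp hU2
    rw [hi]
    exact Nat.Coprime.pow_left i (Nat.coprime_two_left.mpr D.W_odd))
  refine Comp.mem_normalizer_of_maps fun w hw => ?_
  suffices h : W ≤ W.comap (MulAut.conj g).toMonoidHom from h hw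
  conv_lhs => rw [← hgen]
  refine iSup₂_le fun a ha => ?_
  obtain ⟨haU, ha1⟩ := ha
  have hsq : a * a = 1 := by
    rcases hU a haU with rfl | rfl | rfl | rfl
    · exact one_mul 1
    · exact hx.2
    · exact hy.2
    · rw [hxy.symm.mul_mul_mul_comm, hx.2, hy.2, one_mul]
  have hgaM : g * a * g⁻¹ ∈ M := by
    rcases hU a haU with rfl | rfl | rfl | rfl
    · exact absurd rfl ha1
    · exact hgx
    · exact hgy
    · rw [← conj_mul]; exact mul_mem hgx hgy
  rw [D.cent_eq ⟨ha1, hsq⟩ (hUM haU)]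
  intro z hz
  refine D.theta_le (IsInv.conj ⟨ha1, hsq⟩ g) hgaM ?_
  rw [D.equiv]
  exact ⟨z, hz, rfl⟩

/-- Growth: a 2-group meeting `M` in two commuting involutions lies in `M`. -/
theorem two_le {T : Subgroup G} (hT : IsPGroup 2 T) {x y : G} (hx : IsInv x) (hy : IsInv y) (hne : x ≠ y)
    (hxy : Commute x y) (hxT : x ∈ T) (hyT : y ∈ T) (hxM : x ∈ M) (hyM : y ∈ M) : T ≤ M := by
  haveI : Fact (Nat.Prime 2) := ⟨Nat.prime_two⟩
  by_contra hn
  haveI : Group.IsNilpotent ↥T := hT.isNilpotent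
  obtain ⟨g, hg, hg'⟩ := SetLike.exists_of_lt (Group.normalizerCondition_of_isNilpotent ((M).subgroupOf T)
    (lt_top_iff_ne_top.mpr fun e => hn (Subgroup.subgroupOf_eq_top.mp e)))
  refine hg' (show (g : G) ∈ M from D.mem_of_pair hx hy hne hxy hxM hyM ?_ ?_)
  · exact (Subgroup.mem_normalizer_iff.mp hg ⟨x, hxT⟩).mp hxM
  · exact (Subgroup.mem_normalizer_iff.mp hg ⟨y, hyT⟩).mp hyM

/-- A Sylow subgroup of the centralizer lies in `M`. -/
theorem exists_sylow_cent {v : G} (hv : IsInv v) (hvM : v ∈ M) :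
    ∃ T : Sylow 2 ↥(cent v), (T : Subgroup ↥(cent v)).map (cent v).subtype ≤ M := by
  haveI : Fact (Nat.Prime 2) := ⟨Nat.prime_two⟩
  obtain ⟨u, huM, hu, hne, hc⟩ := D.pair_at hv hvM
  obtain ⟨U, -, -, hU2, hvU, huU, hU⟩ := pair_group hv hu hne.symm hc
  have hUC : U ≤ (cent v) := fun a ha => by
    rw [Subgroup.mem_centralizer_singleton_iff]
    rcases hU a ha with rfl | rfl | rfl | rfl
    · simp
    · rfl
    · exact hc.eq.symm
    · calc v * u * v = v * (u * v) := mul_assoc _ _ _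
        _ = v * (v * u) := by rw [hc.eq]
  obtain ⟨T, hT⟩ := (hU2.comap_of_injective (cent v).subtype (cent v).subtype_injective).exists_le_sylow
  exact ⟨T, D.two_le (T.2.map _) hv hu hne.symm hc ⟨⟨v, hUC hvU⟩, hT hvU, rfl⟩ ⟨⟨u, hUC huU⟩, hT huU, rfl⟩ hvM huM⟩

/-- Conjugate involutions of `M` are conjugate in `M`. -/
theorem fused {v g : G} (hv : IsInv v) (hvM : v ∈ M) (hgv : g * v * g⁻¹ ∈ M) :
    ∃ m ∈ M, m * v * m⁻¹ = g * v * g⁻¹ := by
  haveI : Fact (Nat.Prime 2) := ⟨Nat.prime_two⟩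
  obtain ⟨u, huM, hu, hne, hc⟩ := D.pair_at hv hvM
  set w := g * v * g⁻¹ with hwdef
  set C := Subgroup.centralizer ({w} : Set G) with hCdef
  obtain ⟨T, hT⟩ : ∃ T : Sylow 2 ↥C, (T : Subgroup ↥C).map C.subtype ≤ M := D.exists_sylow_cent (hv.conj g) hgv
  have huC : g * u * g⁻¹ ∈ C := Subgroup.mem_centralizer_singleton_iff.mpr (Bender.Q.conj_comm hc.eq.symm)
  obtain ⟨T', hT'⟩ := ((zpowers_inv (hu.conj g)).comap_of_injective C.subtype C.subtype_injective).exists_le_sylow
  obtain ⟨c, hc'⟩ := MulAction.exists_smul_eq ↥C T' T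
  have hcu : (c : G) * (g * u * g⁻¹) * (c : G)⁻¹ ∈ M := by
    refine hT ⟨c * ⟨_, huC⟩ * c⁻¹, ?_, rfl⟩
    rw [← hc', Sylow.coe_subgroup_smul]
    exact Subgroup.smul_mem_pointwise_smul _ _ _ (hT' (Subgroup.mem_zpowers _))
  have hcv : (c : G) * w * (c : G)⁻¹ = w := by
    rw [Subgroup.mem_centralizer_singleton_iff.mp c.2, mul_inv_cancel_right]
  refine ⟨(c : G) * g, D.mem_of_pair hv hu hne.symm hc hvM huM ?_ ?_, ?_⟩
  · rw [show (c : G) * g * v * ((c : G) * g)⁻¹ = c * w * (c : G)⁻¹ by rw [hwdef]; group, hcv]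
    exact hgv
  · rw [show (c : G) * g * u * ((c : G) * g)⁻¹ = c * (g * u * g⁻¹) * (c : G)⁻¹ by group]
    exact hcu
  · rw [show (c : G) * g * v * ((c : G) * g)⁻¹ = c * w * (c : G)⁻¹ by rw [hwdef]; group, hcv]

/-- A good involution of `M` fuses inside `M` only through `M`. -/
theorem good_mem {v g : G} (hv : IsInv v) (hvM : v ∈ M) (hgood : IsGood W v) (hgv : g * v * g⁻¹ ∈ M) : g ∈ M := by
  obtain ⟨m, hm, he⟩ := D.fused hv hvM hgv
  have : m⁻¹ * g ∈ M := hgood (Subgroup.mem_centralizer_singleton_iff.mpr (by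
    calc m⁻¹ * g * v = m⁻¹ * (g * v * g⁻¹) * g := by group
      _ = m⁻¹ * (m * v * m⁻¹) * g := by rw [he]
      _ = v * (m⁻¹ * g) := by group))
  simpa using mul_mem hm this

omit [Finite G] in
theorem good_conj {v g : G} (hg : g ∈ M) (hgood : IsGood W v) : IsGood W (g * v * g⁻¹) := fun c hc => by
  have : g⁻¹ * c * g ∈ M := hgood (Subgroup.mem_centralizer_singleton_iff.mpr (by
    have h := Bender.Q.conj_comm (g := g⁻¹) (Subgroup.mem_centralizer_singleton_iff.mp hc)
    simpa [mul_assoc] using h))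
  simpa [mul_assoc] using mul_mem (mul_mem hg this) (inv_mem hg)

/-- An involution of `M` centralizing `W` is good. -/
theorem good_of_central {v : G} (hv : IsInv v) (hvM : v ∈ M) (h : ∀ w ∈ W, Commute w v) : IsGood W v := by
  have hW : θ v = W := (D.cent_eq hv hvM).symm.trans
    (inf_eq_left.mpr fun w hw => Subgroup.mem_centralizer_singleton_iff.mpr (h w hw).eq)
  intro c hc
  have := D.theta_normal v hc
  rwa [hW] at this

/-- The normalizer of the Sylow subgroup lies in `M`. -/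
theorem normalizer_S_le : Subgroup.normalizer ((S : Subgroup G) : Set G) ≤ M := by
  intro g hg
  obtain ⟨e, he⟩ : ∃ e ∈ E, IsInv e := by
    haveI : Nontrivial E := Finite.one_lt_card_iff_nontrivial.mp (by have := D.E_card; omega)
    obtain ⟨⟨e, he⟩, he1⟩ := exists_ne (1 : E)
    exact ⟨e, he, fun h => he1 (Subtype.ext h), by rw [← pow_two]; exact D.E_elem.2 e he⟩
  obtain ⟨u, hu, hui, hne, hc⟩ := D.exists_pair (D.E_le he.1) he.2
  exact D.mem_of_pair he.2 hui hne.symm hc (D.S_le (D.E_le he.1)) (D.S_le hu)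
    (D.S_le ((Subgroup.mem_normalizer_iff.mp hg e).mp (D.E_le he.1)))
    (D.S_le ((Subgroup.mem_normalizer_iff.mp hg u).mp hu))

end Data

namespace Ctx

variable {S : Sylow 2 G} {E W : Subgroup G} {θ : G → Subgroup G} (C : Ctx S E W θ)
include C

local notation "M" => Subgroup.normalizer (W : Set G)

theorem odd_bot {K : Subgroup G} [K.Normal] (h : Odd (Nat.card K)) : K = ⊥ :=
  le_bot_iff.mp (C.core ▸ CfsgLib.le_oddCore h)

theorem M_ne_top : M ≠ ⊤ := fun e => C.ne_bot (by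
  haveI : W.Normal := Subgroup.normalizer_eq_top_iff.mp e
  exact C.odd_bot C.data.W_odd)

theorem normalCore_eq_bot : (M).normalCore = ⊥ := by
  set K := (M).normalCore with hK
  haveI hKn : K.Normal := Subgroup.normalCore_normal _
  have hKM : K ≤ M := Subgroup.normalCore_le _
  by_contra hne
  have heven : Even (Nat.card K) := Nat.not_odd_iff_even.mp fun h => hne (C.odd_bot h)
  obtain ⟨s, hs, hsi⟩ := Bender.TwoClosed.exists_inv_of_even heven
  have hWK : W ⊓ K = ⊥ := le_bot_iff.mp (C.core ▸ le_oddCore_of_normal_sub inf_le_right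
    (fun k hk => Comp.mem_normalizer_of_maps fun z hz => ⟨(Subgroup.mem_normalizer_iff.mp (hKM hk) z).mp hz.1,
      hKn.conj_mem z hz.2 k⟩) (C.data.W_odd.of_dvd_nat (Subgroup.card_dvd_of_le inf_le_left)))
  have hcomm : ∀ w ∈ W, ∀ k ∈ K, Commute w k := fun w hw k hk => by
    have h : w * k * w⁻¹ * k⁻¹ ∈ W ⊓ K := by
      refine ⟨?_, K.mul_mem (hKn.conj_mem k hk w) (K.inv_mem hk)⟩
      rw [mul_assoc, mul_assoc, ← mul_assoc k]
      exact mul_mem hw ((Subgroup.mem_normalizer_iff.mp (hKM hk) _).mp (W.inv_mem hw))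
    rw [hWK, Subgroup.mem_bot, mul_inv_eq_one, mul_inv_eq_iff_eq_mul] at h
    exact h
  have hgood := C.data.good_of_central hsi (hKM hs) fun w hw => hcomm w hw s hs
  set CK := Subgroup.centralizer (K : Set G)
  have hle : W ≤ oddCore G := le_oddCore_of_normal_sub (N := CK)
    (fun w hw k hk => (hcomm w hw k hk).eq.symm)
    (fun c hc => hgood (Subgroup.mem_centralizer_singleton_iff.mpr (hc s hs).symm)) C.data.W_odd
  exact C.ne_bot (le_bot_iff.mp (C.core ▸ hle))

/-- END: no set of involutions satisfies Aschbacher's criterion for `M`. -/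
theorem false_of_crit {Z : Set G} (h : Bender.Q.Crit M Z) : False := by
  haveI : Fact (Nat.Prime 2) := ⟨Nat.prime_two⟩
  haveI := Bender.faithful C.normalCore_eq_bot
  have hQ := h.hyp
  set L := Subgroup.closure Z with hL
  haveI hLn : L.Normal := ⟨fun x hx g => by
    have hle : L ≤ L.comap (MulAut.conj g).toMonoidHom :=
      (Subgroup.closure_le _).mpr fun y hy => Subgroup.subset_closure (h.conj y hy g)
    exact hle hx⟩
  haveI : FaithfulSMul ↥L (G ⧸ M) := ⟨fun {a b} e => Subtype.ext (FaithfulSMul.eq_of_smul_eq_smul e)⟩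
  obtain ⟨T, hTM, z, hz, hzM, hzT⟩ := h.sylow
  have hzi := h.inv z hz
  -- a second member commuting with `z`
  obtain ⟨g, hgc, hgne⟩ : ∃ g : G, Commute z (g * z * g⁻¹) ∧ g * z * g⁻¹ ≠ z := by
    by_contra hcon
    push Not at hcon
    have hzc : ∀ g : G, g * z * g⁻¹ = z := fun g => by
      have h1 := ZStar.inZStar (orderOf_two hzi) hcon g
      change g * z * g⁻¹ * z⁻¹ ∈ oddCore G at h1
      rw [C.core, Subgroup.mem_bot, mul_inv_eq_one] at h1
      exact h1
    refine C.M_ne_top (top_le_iff.mp fun x _ => ?_)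
    have := h.fix z hz hzM x (by rw [hzc]; exact hzM)
    exact this
  have h1 : (1 : G) ∈ M := one_mem _
  have hfour : SuzukiRankOne.Four ↥L := ⟨⟨z, Subgroup.subset_closure hz⟩,
    ⟨g * z * g⁻¹, Subgroup.subset_closure (h.conj z hz g)⟩, fun e => hzi.1 (congrArg Subtype.val e),
    fun e => (hzi.conj g).1 (congrArg Subtype.val e), fun e => hgne (congrArg Subtype.val e).symm,
    Subtype.ext hzi.2, Subtype.ext (hzi.conj g).2, Subtype.ext hgc.eq⟩
  have hF : Bender.OneFix ↥L (G ⧸ M) := by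
    refine ⟨⟨fun c d => ?_⟩, fun x hx => ?_, hfour⟩
    · by_cases hcd : c = d
      · exact ⟨1, by rw [one_smul, hcd]⟩
      · obtain ⟨u, hu, huc, -⟩ := Bender.Q.exists_swap hQ hcd
        exact ⟨⟨u, Subgroup.subset_closure hu⟩, huc⟩
    · exact Bender.Q.theoremQ G (G ⧸ M) Z hQ x x.2 ⟨fun e => hx.1 (Subtype.ext e), congrArg Subtype.val hx.2⟩
  set a : G ⧸ M := ((1 : G) : G ⧸ M)
  obtain ⟨t, Q, hR, hQ2⟩ := Bender.Assembly.goodAll ↥L (G ⧸ M) hF a
  have hfixa : ∀ {x : G}, x • a = a ↔ x ∈ M := fun {x} => by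
    rw [fix_iff]; simp
  -- `M` normalizes `Q`
  have hQW : ∀ q ∈ Q, ∀ w ∈ W, (q : G) * w = w * q := by
    intro q hq w hw
    have hqM : (q : G) ∈ M := hfixa.mp (hR.le hq)
    have hwM : w ∈ M := Subgroup.le_normalizer hw
    obtain ⟨i, hi⟩ := hQ2 ⟨q, hq⟩
    set q' : ↥L := ⟨w * q * w⁻¹, hLn.conj_mem _ q.2 w⟩ with hq'
    have hq'Q : q' ∈ Q := by
      refine Bender.Q.mem_Q_of_pow_two hR (i := i) (hfixa.mpr (mul_mem (mul_mem hwM hqM) (inv_mem hwM))) ?_
      refine Subtype.ext ?_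
      rw [SubmonoidClass.coe_pow, conj_pow, ← SubmonoidClass.coe_pow,
        show q ^ 2 ^ i = 1 from congrArg Subtype.val hi]
      simp
    have hkey : ((q' * q⁻¹ : ↥L) : G) ∈ W := by
      show w * (q : G) * w⁻¹ * (q : G)⁻¹ ∈ W
      rw [mul_assoc, mul_assoc, ← mul_assoc (q : G)]
      exact mul_mem hw ((Subgroup.mem_normalizer_iff.mp hqM _).mp (W.inv_mem hw))
    obtain ⟨j, hj⟩ := IsPGroup.iff_card.mp hQ2
    have ho1 : orderOf (q' * q⁻¹) ∣ 2 ^ j := hj ▸ Subgroup.orderOf_dvd_natCard Q (mul_mem hq'Q (inv_mem hq))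
    have ho2 : orderOf (q' * q⁻¹) ∣ Nat.card W :=
      (Subgroup.orderOf_coe (q' * q⁻¹)).symm.dvd.trans (Subgroup.orderOf_dvd_natCard W hkey)
    have ho : orderOf (q' * q⁻¹) = 1 := Nat.eq_one_of_dvd_coprimes
      ((Nat.coprime_two_left.mpr C.data.W_odd).pow_left j) ho1 ho2
    have := congrArg Subtype.val (mul_inv_eq_one.mp (orderOf_eq_one_iff.mp ho))
    exact (mul_inv_eq_iff_eq_mul.mp this).symm
  -- `W` is trivial on the points
  refine C.ne_bot (eq_bot_iff.mpr fun w hw => ?_)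
  have hwa : w • a = a := hfixa.mpr (Subgroup.le_normalizer hw)
  set b := t • a
  have hba : b ≠ a := fun e => hR.not_mem e
  have hwb : w • b = b := by
    have hwb' : w • b ≠ a := fun e => hba (by
      have h2 : w • b = w • a := e.trans hwa.symm
      exact smul_left_cancel w h2)
    obtain ⟨q, hq, hqb⟩ := CfsgLib.RankOne.exists_Q_ta hR hwb'
    have hpow : ∀ k : ℕ, (w ^ k) • b = ((q : G) ^ k) • b := by
      intro k
      induction k with
      | zero => simp
      | succ k ih =>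
        rw [pow_succ', mul_smul, ih, ← mul_smul, ← ((show Commute (q : G) w from hQW q hq w hw).pow_left k).eq,
          mul_smul, ← hqb, pow_succ, mul_smul]
        rfl
    have h1 := hpow (orderOf w)
    rw [pow_orderOf_eq_one, one_smul] at h1
    have h2 : q ^ orderOf w = 1 := CfsgLib.RankOne.eq_one_of_fix_ta hR (pow_mem hq _) (by
      show (((q ^ orderOf w : ↥L) : G)) • b = b
      rw [SubmonoidClass.coe_pow]; exact h1.symm)
    obtain ⟨j, hj⟩ := hQ2 ⟨q, hq⟩
    have h3 : orderOf q = 1 := Nat.eq_one_of_dvd_coprimes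
      ((Nat.coprime_two_left.mpr (C.data.W_odd.of_dvd_nat (Subgroup.orderOf_dvd_natCard W hw))).pow_left j)
      (orderOf_dvd_of_pow_eq_one (congrArg Subtype.val hj)) (orderOf_dvd_of_pow_eq_one h2)
    rw [orderOf_eq_one_iff.mp h3, one_smul] at hqb
    exact hqb.symm
  rw [Subgroup.mem_bot]
  refine FaithfulSMul.eq_of_smul_eq_smul (α := G ⧸ M) fun c => ?_
  rw [one_smul]
  by_cases hca : c = a
  · rw [hca, hwa]
  · obtain ⟨q, hq, hqc⟩ := CfsgLib.RankOne.exists_Q_ta hR hca
    rw [← hqc]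
    show w • (q : G) • b = (q : G) • b
    rw [← mul_smul, ← hQW q hq w hw, mul_smul, hwb]

/-- If all involutions of `S` are good, END. -/
theorem false_of_all_good (h : ∀ v ∈ (S : Subgroup G), IsInv v → IsGood W v) : False := by
  haveI : Fact (Nat.Prime 2) := ⟨Nat.prime_two⟩
  haveI : Nontrivial E := Finite.one_lt_card_iff_nontrivial.mp (by have := C.data.E_card; omega)
  have hSne : (S : Subgroup G) ≠ ⊥ := fun e => by
    obtain ⟨⟨x, hx⟩, hx1⟩ := exists_ne (1 : E)
    exact hx1 (Subtype.ext (Subgroup.mem_bot.mp (e ▸ C.data.E_le hx)))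
  obtain ⟨z, hzS, hz, hzc⟩ := CfsgLib.Comp.exists_central_in_normal (p := 2) S.isPGroup' le_rfl
    Subgroup.le_normalizer hSne
  exact C.false_of_crit (Bender.Q.crit_closed C.M_ne_top ⟨le_rfl, fun _ _ _ h => h⟩
    (fun g hg => C.data.normalizer_S_le hg) C.data.S_le h hzS (isInv_of_orderOf hz) hzc)

/-- `C_M(W)` has odd order. -/
theorem exists_moved {v : G} (hv : IsInv v) (hvM : v ∈ M) : ∃ w ∈ W, ¬ Commute w v := by
  haveI : Fact (Nat.Prime 2) := ⟨Nat.prime_two⟩
  by_contra hcon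
  push Not at hcon
  set CW := Subgroup.centralizer (W : Set G)
  have hMC : ∀ g ∈ M, ∀ x ∈ CW, g * x * g⁻¹ ∈ CW := fun g hg x hx w hw => by
    have h1 := hx (g⁻¹ * w * g) ((Subgroup.mem_normalizer_iff''.mp hg w).mp hw)
    calc w * (g * x * g⁻¹) = g * ((g⁻¹ * w * g) * x) * g⁻¹ := by group
      _ = g * (x * (g⁻¹ * w * g)) * g⁻¹ := by rw [h1]
      _ = g * x * g⁻¹ * w := by group
  set T := (S : Subgroup G) ⊓ CW with hT
  have hgood : ∀ x ∈ T, IsInv x → IsGood W x := fun x hx hxi =>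
    C.data.good_of_central hxi (C.data.S_le hx.1) fun w hw => hx.2 w hw
  have hclosed : IsStronglyClosed T (S : Subgroup G) := by
    refine ⟨inf_le_left, fun x hx g hg => ⟨hg, ?_⟩⟩
    by_cases hx1 : x = 1
    · rw [hx1, mul_one, mul_inv_cancel]; exact one_mem _
    obtain ⟨k, hk⟩ := S.2 ⟨x, hx.1⟩
    obtain ⟨k', -, hk'⟩ := (Nat.dvd_prime_pow Nat.prime_two).mp
      (orderOf_dvd_of_pow_eq_one (show x ^ 2 ^ k = 1 from congrArg Subtype.val hk))
    rcases k' with - | k'
    · exact absurd (orderOf_eq_one_iff.mp (by rw [hk', pow_zero])) hx1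
    set y := x ^ 2 ^ k'
    have hyi : IsInv y := isInv_of_orderOf (by
      rw [orderOf_pow' x (by positivity), hk', Nat.gcd_eq_right (pow_dvd_pow 2 (Nat.le_succ k')), pow_succ]
      exact Nat.mul_div_cancel_left 2 (by positivity))
    have hgM : g ∈ M := C.data.good_mem hyi (C.data.S_le (pow_mem hx.1 _))
      (hgood y ⟨pow_mem hx.1 _, pow_mem hx.2 _⟩ hyi) (by
        rw [← conj_pow]; exact C.data.S_le (pow_mem hg _))
    exact hMC g hgM x hx.2
  obtain ⟨m, hm, hmS⟩ := Bender.Q.exists_conj_sylow C.data.S_le (zpowers_inv hv) (Subgroup.zpowers_le.mpr hvM)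
  have hTne : T ≠ ⊥ := fun e => (hv.conj m).1 (Subgroup.mem_bot.mp (e ▸
    (⟨hmS v (Subgroup.mem_zpowers v), hMC m hm v fun w hw => (hcon w hw).eq⟩ : m * v * m⁻¹ ∈ T)))
  obtain ⟨z, hzT, hz, hzc⟩ := CfsgLib.Comp.exists_central_in_normal (p := 2) S.isPGroup' hclosed.1
    (fun s hs => Comp.mem_normalizer_of_maps fun x hx => hclosed.2 x hx s
      (mul_mem (mul_mem hs (hclosed.1 hx)) (inv_mem hs))) hTne
  exact C.false_of_crit (Bender.Q.crit_closed C.M_ne_top hclosed (fun g hg => C.data.normalizer_S_le hg)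
    C.data.S_le hgood hzT (isInv_of_orderOf hz) hzc)

end Ctx

end CfsgLib.CoreKill
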