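import Cfsg.Agent.Lib.CoreKill.Functor
import Cfsg.Agent.Lib.RankThreeCentralizer
import Cfsg.Agent.Lib.CoreKill.Basic

/-!
A 2-group with a central involution `z` all whose involutions lie with `z` in elementary subgroups of order eight
has connected four groups.

Blueprint: `blueprint/bender/CoreKill.md`.
-/

set_option autoImplicit false
set_option linter.unusedSectionVars false
set_option linter.style.haveILetI false

universe u

namespace CfsgLib.CoreKill

open Cfsg Subgroup CfsgLib.Signalizer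
open CfsgLib.Bender.TwoClosed (IsInv)
open CfsgLib.Bender.Assembly (orderOf_two isInv_of_orderOf)

variable {S : Type u} [Group S] [Finite S]

/-- The four group of two commuting involutions, as a Klein four-group. -/
theorem klein_pair {a b : S} (ha : IsInv a) (hb : IsInv b) (hne : a ≠ b) (hc : Commute a b) :
    IsKleinFour ↥(zpowers a ⊔ zpowers b) ∧
      ∀ x ∈ zpowers a ⊔ zpowers b, x = 1 ∨ x = a ∨ x = b ∨ x = a * b := by
  obtain ⟨hA, h4⟩ := card_pair (orderOf_two ha) (orderOf_two hb) hne hc.eq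
  obtain ⟨U, -, -, -, haU, hbU, hU⟩ := pair_group ha hb hne hc
  exact ⟨TwoLocalSignalizer.klein_of_ea hA h4,
    fun x hx => hU x ((sup_le (zpowers_le.mpr haU) (zpowers_le.mpr hbU)) hx)⟩

theorem commute_pair {a b x : S} (ha : IsInv a) (hb : IsInv b) (hne : a ≠ b) (hc : Commute a b)
    (hxa : Commute a x) (hxb : Commute b x) : ∀ y ∈ zpowers a ⊔ zpowers b, Commute y x := fun y hy => by
  rcases (klein_pair ha hb hne hc).2 y hy with rfl | rfl | rfl | rfl
  exacts [Commute.one_left x, hxa, hxb, hxa.mul_left hxb]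

/-- **Connectedness from a central involution.** -/
theorem isFourConnected_of_central (hS : IsPGroup 2 S) {z : S} (hz : IsInv z) (hzc : ∀ s, Commute s z)
    {E : Subgroup S} (hE : IsElementaryAbelian 2 E) (hE8 : 8 ≤ Nat.card E)
    (hover : ∀ v : S, IsInv v → v ≠ z →
      ∃ B : Subgroup S, IsElementaryAbelian 2 B ∧ 8 ≤ Nat.card B ∧ z ∈ B ∧ v ∈ B) :
    IsFourConnected S := by
  classical
  haveI : Fact (Nat.Prime 2) := ⟨Nat.prime_two⟩
  haveI := hS.isNilpotent
  have hdvd : 2 ^ 3 ∣ Nat.card E := by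
    obtain ⟨k, hk⟩ := IsPGroup.iff_card.mp (hS.to_subgroup E)
    rw [hk] at hE8 ⊢
    refine pow_dvd_pow 2 ?_
    by_contra hlt
    have := Nat.pow_le_pow_right (show 0 < 2 by norm_num) (show k ≤ 2 by omega)
    omega
  obtain ⟨E₈, hE₈⟩ := Sylow.exists_subgroup_card_pow_prime (G := E) 2 hdvd
  obtain ⟨U, hUn, hU4, hU2⟩ := RankThreeCent.exists_normal_four hS (E₈.map E.subtype)
    (by rw [Subgroup.card_map_of_injective E.subtype_injective, hE₈]; norm_num)
    (by rintro _ ⟨e, -, rfl⟩; exact hE.2 _ e.2)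
  haveI := hUn
  have hUe : IsElementaryAbelian 2 U := SolvSF.ea_of_comm (fun a ha b hb => by
    have h1 : a * b * (a * b) = 1 := by rw [← pow_two]; exact hU2 _ (mul_mem ha hb)
    have ea : a * a = 1 := by rw [← pow_two]; exact hU2 _ ha
    have eb : b * b = 1 := by rw [← pow_two]; exact hU2 _ hb
    calc a * b = (a * b)⁻¹ := (inv_eq_of_mul_eq_one_right h1).symm
      _ = b * a := by rw [mul_inv_rev, inv_eq_of_mul_eq_one_right ea, inv_eq_of_mul_eq_one_right eb]) hU2
  have hUk := TwoLocalSignalizer.klein_of_ea hUe hU4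
  -- a central involution of `U`
  obtain ⟨c, hcU, hc⟩ : ∃ c ∈ U, IsInv c ∧ ∀ s : S, Commute s c := by
    have hne : U ≠ ⊥ := fun e => by rw [e, Subgroup.card_bot] at hU4; omega
    obtain ⟨c, hcm, hc1⟩ := SetLike.exists_of_lt (bot_lt_iff_ne_bot.mpr (CfsgLib.inf_center_ne_bot_of_nilpotent hne))
    obtain ⟨hcU, hcc⟩ := Subgroup.mem_inf.mp hcm
    exact ⟨c, hcU, ⟨fun e => hc1 (Subgroup.mem_bot.mpr e), by rw [← pow_two]; exact hU2 c hcU⟩,
      fun s => Subgroup.mem_center_iff.mp hcc s⟩
  obtain ⟨hci, hcc⟩ := hc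
  obtain ⟨u, hu, hu1, huc⟩ : ∃ u ∈ U, u ≠ 1 ∧ u ≠ c := by
    by_contra hno
    push Not at hno
    have h1 : U ≤ zpowers c := fun x hx => by
      by_cases hx1 : x = 1
      · exact hx1 ▸ one_mem _
      · exact (hno x hx hx1).symm ▸ mem_zpowers c
    have := Subgroup.card_le_of_le h1
    rw [Nat.card_zpowers, orderOf_two hci, hU4] at this
    omega
  have hui : IsInv u := ⟨hu1, by rw [← pow_two]; exact hU2 u hu⟩
  have hUmem : ∀ x ∈ U, x = 1 ∨ x = c ∨ x = u ∨ x = c * u := by
    obtain ⟨hA, h4⟩ := card_pair (orderOf_two hci) (orderOf_two hui) huc.symm (hcc u).eq.symm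
    have he : zpowers c ⊔ zpowers u = U := Subgroup.eq_of_le_of_card_ge
      (sup_le (zpowers_le.mpr hcU) (zpowers_le.mpr hu)) (by omega)
    intro x hx
    exact (klein_pair hci hui huc.symm (hcc u).symm).2 x (he.symm ▸ hx)
  -- `S` moves `u` within `u <c>`
  have hmove : ∀ s : S, s * u * s⁻¹ = u ∨ s * u * s⁻¹ = c * u := by
    intro s
    rcases hUmem _ (hUn.conj_mem u hu s) with e | e | e | e
    · exact absurd (conj_eq_one_iff.mp e) hu1
    · refine absurd ?_ huc
      calc u = s⁻¹ * (s * u * s⁻¹) * s := by group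
        _ = s⁻¹ * c * s := by rw [e]
        _ = c := by rw [(hcc s⁻¹).eq, inv_mul_cancel_right]
    · exact Or.inl e
    · exact Or.inr e
  have hUcomm : ∀ w : S, Commute w u → ∀ x ∈ U, Commute x w := by
    intro w hw x hx
    rcases hUmem x hx with rfl | rfl | rfl | rfl
    exacts [Commute.one_left w, (hcc w).symm, hw.symm, (hcc w).symm.mul_left hw.symm]
  let R := fun A B : Subgroup S => IsKleinFour A ∧ IsKleinFour B ∧ ∀ a ∈ A, ∀ b ∈ B, a * b = b * a
  have hsymm : ∀ {A B : Subgroup S}, Relation.ReflTransGen R A B → Relation.ReflTransGen R B A := by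
    intro A B h
    induction h with
    | refl => exact Relation.ReflTransGen.refl
    | tail _ h2 ih => exact Relation.ReflTransGen.head ⟨h2.2.1, h2.1, fun a ha b hb => (h2.2.2 b hb a ha).symm⟩ ih
  -- a four group through `z`
  have hpair : ∀ v : S, IsInv v → v ≠ z → Relation.ReflTransGen R (zpowers z ⊔ zpowers v) U := by
    intro v hv hvz
    have hk := (klein_pair hz hv hvz.symm (hzc v).symm).1
    obtain ⟨w, hwi, hwz, hvw, hwu⟩ : ∃ w, IsInv w ∧ w ≠ z ∧ Commute v w ∧ Commute w u := by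
      by_cases hvu : Commute v u
      · exact ⟨v, hv, hvz, Commute.refl v, hvu⟩
      obtain ⟨B, hB, hB8, hzB, hvB⟩ := hover v hv hvz
      obtain ⟨b, hbB, hb⟩ := SetLike.not_le_iff_exists.mp (show ¬ B ≤ zpowers z ⊔ zpowers v from fun hle => by
        have h1 := Subgroup.card_le_of_le hle
        rw [(card_pair (orderOf_two hz) (orderOf_two hv) hvz.symm (hzc v).eq.symm).2] at h1
        omega)
      have hmem1 : (1 : S) ∈ zpowers z ⊔ zpowers v := one_mem _
      have hzm : z ∈ zpowers z ⊔ zpowers v := mem_sup_left (mem_zpowers z)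
      have hvm : v ∈ zpowers z ⊔ zpowers v := mem_sup_right (mem_zpowers v)
      have hinvB : ∀ x ∈ B, x ∉ zpowers z ⊔ zpowers v → IsInv x ∧ x ≠ z := fun x hx hxn =>
        ⟨⟨fun e => hxn (e ▸ hmem1), by rw [← pow_two]; exact hB.2 x hx⟩, fun e => hxn (e ▸ hzm)⟩
      have hvb : Commute v b := ea_comm hB hvB hbB
      rcases hmove b with e | e
      · obtain ⟨h1, h2⟩ := hinvB b hbB hb
        exact ⟨b, h1, h2, hvb, mul_inv_eq_iff_eq_mul.mp e⟩
      · obtain ⟨h1, h2⟩ := hinvB (b * v) (mul_mem hbB hvB) fun h => hb (by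
          have h3 := mul_mem h hvm
          rwa [mul_assoc, hv.2, mul_one] at h3)
        refine ⟨b * v, h1, h2, hvb.mul_right (Commute.refl v), (mul_inv_eq_iff_eq_mul.mp ?_ : b * v * u = _)⟩
        have e' := (hmove v).resolve_left fun e' => hvu (mul_inv_eq_iff_eq_mul.mp e')
        calc b * v * u * (b * v)⁻¹ = b * (v * u * v⁻¹) * b⁻¹ := by group
          _ = (b * c * b⁻¹) * (b * u * b⁻¹) := by rw [e']; group
          _ = c * (c * u) := by rw [(hcc b).eq, mul_inv_cancel_right, e]
          _ = u := by rw [← mul_assoc, hci.2, one_mul]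
    have hk' := (klein_pair hz hwi hwz.symm (hzc w).symm).1
    have h1 : R (zpowers z ⊔ zpowers v) (zpowers z ⊔ zpowers w) := ⟨hk, hk', fun a ha b hb => by
      refine ((commute_pair hz hwi hwz.symm (hzc w).symm ((hzc a).symm) ?_ b hb).symm).eq
      exact (commute_pair hz hv hvz.symm (hzc v).symm (hzc w).symm hvw a ha).symm⟩
    have h2 : R (zpowers z ⊔ zpowers w) U := ⟨hk', hUk, fun a ha b hb =>
      (commute_pair hz hwi hwz.symm (hzc w).symm (hzc b).symm (hUcomm w hwu b hb).symm a ha).eq⟩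
    exact (Relation.ReflTransGen.single h1).tail h2
  have hall : ∀ X : Subgroup S, IsKleinFour X → Relation.ReflTransGen R X U := by
    intro X hX
    obtain ⟨hXe, hX4⟩ := TwoLocalSignalizer.ea_of_klein hX
    obtain ⟨x, hx, hx'⟩ := SetLike.not_le_iff_exists.mp (show ¬ X ≤ zpowers z from fun hle => by
      have h1 := Subgroup.card_le_of_le hle
      rw [Nat.card_zpowers, orderOf_two hz] at h1
      omega)
    have hxi : IsInv x := ⟨fun e => hx' (e ▸ one_mem _), by rw [← pow_two]; exact hXe.2 x hx⟩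
    have hxz : x ≠ z := fun e => hx' (e ▸ mem_zpowers z)
    exact (Relation.ReflTransGen.single ⟨hX, (klein_pair hz hxi hxz.symm (hzc x).symm).1, fun a ha b hb =>
      ((commute_pair hz hxi hxz.symm (hzc x).symm (hzc a).symm (ea_comm hXe hx ha) b hb)).symm.eq⟩).trans
      (hpair x hxi hxz)
  exact fun X Y hX hY => (hall X hX).trans (hsymm (hall Y hY))

end CfsgLib.CoreKill
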