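import Cfsg.Agent.Lib.CoreKill.Functor
import Cfsg.Agent.Lib.CoreKill.Basic

/-!
From a minimal counterexample with the rigid local structure to the hypotheses of `FinishHyp`: restart with
`θ = O(C(·))`.

Blueprint: `blueprint/bender/CoreKill.md` 5.
-/

set_option autoImplicit false
set_option linter.unusedSectionVars false
set_option linter.style.haveILetI false

universe u

namespace CfsgLib.CoreKill

open Cfsg Subgroup CfsgLib.Signalizer
open CfsgLib.Bender.Assembly (orderOf_two isInv_of_orderOf)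
open CfsgLib.Bender.TwoClosed (IsInv)

variable {G : Type u} [Group G] [Finite G] {S : Sylow 2 G} {E W : Subgroup G} {θ : G → Subgroup G} {t : G}

theorem core_conj_le (g a : G) :
    (centralizerPPrimeCore 2 a).map (MulAut.conj g).toMonoidHom ≤ centralizerPPrimeCore 2 (g * a * g⁻¹) := by
  refine le_qOf (p := 2) (K := centralizer ({g * a * g⁻¹} : Set G)) ?_ ?_ ?_
  · rintro _ ⟨y, hy, rfl⟩
    refine Subgroup.mem_centralizer_singleton_iff.mpr ?_
    show g * y * g⁻¹ * (g * a * g⁻¹) = g * a * g⁻¹ * (g * y * g⁻¹)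
    rw [show g * y * g⁻¹ * (g * a * g⁻¹) = g * (y * a) * g⁻¹ by group, CharTwoEarly.core_comm hy]
    group
  · intro c hc
    refine Comp.mem_normalizer_of_maps ?_
    rintro _ ⟨y, hy, rfl⟩
    refine ⟨(g⁻¹ * c * g) * y * (g⁻¹ * c * g)⁻¹, CharTwoEarly.conj_mem_core ?_ hy, ?_⟩
    · calc g⁻¹ * c * g * a = g⁻¹ * (c * (g * a * g⁻¹)) * g := by group
        _ = g⁻¹ * (g * a * g⁻¹ * c) * g := by rw [Subgroup.mem_centralizer_singleton_iff.mp hc]
        _ = a * (g⁻¹ * c * g) := by group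
    · simp only [MulEquiv.coe_toMonoidHom, MulAut.conj_apply]
      group
  · rw [Subgroup.card_map_of_injective (MulAut.conj g).injective]
    exact Nat.coprime_two_right.mpr (CharTwoEarly.odd_core a)

theorem core_equi (g a : G) :
    centralizerPPrimeCore 2 (g * a * g⁻¹) = (centralizerPPrimeCore 2 a).map (MulAut.conj g).toMonoidHom := by
  refine le_antisymm (fun x hx => ?_) (core_conj_le g a)
  have h1 := core_conj_le g⁻¹ (g * a * g⁻¹) ⟨x, hx, rfl⟩
  rw [show g⁻¹ * (g * a * g⁻¹) * g⁻¹⁻¹ = a by group] at h1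
  refine ⟨_, h1, ?_⟩
  simp only [MulEquiv.coe_toMonoidHom, MulAut.conj_apply]
  group

/-- In a balanced group the cores give a functor. -/
theorem sig_core (hbal : IsBalanced G) : Sig (centralizerPPrimeCore 2 : G → Subgroup G) := by
  haveI := Fact.mk Nat.prime_two
  refine ⟨core_equi, fun B hB _ => ⟨fun a _ _ => CharTwoEarly.core_le a, fun a _ _ hd => ?_,
    fun a ha _ b hb x hx => CharTwoEarly.conj_mem_core (ea_comm hB hb ha) hx, fun a ha ha1 b hb hb1 => ?_⟩⟩
  · exact (Nat.not_even_iff_odd.mpr (CharTwoEarly.odd_core a)) (even_iff_two_dvd.mpr hd)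
  · rw [hbal a b (orderOf_eq_prime_of_ea hB ha ha1) (orderOf_eq_prime_of_ea hB hb hb1) (ea_comm hB ha hb)]
    exact inf_le_left

theorem Data.theta_le_core (D : Data S E W θ) {v : G} (hvS : v ∈ (S : Subgroup G)) (hv : orderOf v = 2) :
    θ v ≤ centralizerPPrimeCore 2 v := by
  have he := D.cent v hvS (isInv_of_orderOf hv)
  have hC : θ v ≤ centralizer ({v} : Set G) := he ▸ inf_le_right
  have hn : centralizer ({v} : Set G) ≤ normalizer (θ v : Set G) := fun g hg =>
    Subgroup.mem_normalizer_iff_map_conj_eq.mpr (by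
      have h1 := D.equiv g v
      rw [show g * v * g⁻¹ = v by rw [Subgroup.mem_centralizer_singleton_iff.mp hg, mul_inv_cancel_right]] at h1
      exact h1.symm)
  intro x hx
  obtain ⟨y, hy, rfl⟩ := le_qOf hC hn (Nat.coprime_two_right.mpr (odd_of_le (he ▸ inf_le_left) D.W_odd)) hx
  exact ⟨y, hy, rfl⟩

/-- The induction hypothesis at a proper subgroup over `S`. -/
theorem Ctx.ind (C : Ctx S E W θ) (hconn : IsFourConnected ↥(S : Subgroup G)) (J : Subgroup G) (hSJ : (S : Subgroup G) ≤ J) (hJ : J ≠ ⊤) :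
    W ⊓ J ≤ qOf 2 J := by
  haveI := Fact.mk Nat.prime_two
  have D := C.data
  have hn : ∀ {A : Subgroup G}, (S : Subgroup G) ≤ normalizer (A : Set G) →
      ((S.subtype hSJ : Sylow 2 J) : Subgroup J) ≤ normalizer ((A.subgroupOf J : Subgroup J) : Set J) := by
    intro A hA s hs
    refine Subgroup.mem_normalizer_iff.mpr fun y => ?_
    simpa [Subgroup.mem_subgroupOf] using Subgroup.mem_normalizer_iff.mp (hA hs) (y : G)
  have hEJ := D.E_le.trans hSJ
  have hdata : Data (S.subtype hSJ) (E.subgroupOf J) (W.subgroupOf J) (fun a : J => (θ a).subgroupOf J) := by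
    have hEJ' : IsElementaryAbelian 2 (E.subgroupOf J) :=
      SolvSF.ea_of_comm (fun a ha b hb => Subtype.ext (ea_comm D.E_elem ha hb))
        fun a ha => Subtype.ext (D.E_elem.2 (a : G) ha)
    have hE8 : 8 ≤ Nat.card (E.subgroupOf J) := by
      rw [Nat.card_congr (Subgroup.subgroupOfEquivOfLe hEJ).toEquiv]
      exact D.E_card
    refine ⟨fun x hx => D.E_le hx, fun x hx => deep_of_conn (S := S.subtype hSJ) (E := E.subgroupOf J)
      (fun y hy => D.E_le hy) hEJ' hE8 (isFourConnected_of_equiv (Subgroup.subgroupOfEquivOfLe hSJ).symm hconn)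
      (orderOf_two hx), hEJ', hE8, ?_, hn D.W_inv, fun g a => ?_, fun v hv hvi => ?_⟩
    · exact D.W_odd.of_dvd_nat (Subgroup.card_dvd_of_injective (J.subtype.subgroupComap W)
        (fun u v e => Subtype.ext (Subtype.ext (congrArg (fun z : W => (z : G)) e))))
    · ext x
      simp only [Subgroup.mem_subgroupOf, Subgroup.coe_mul, Subgroup.coe_inv, D.equiv]
      constructor
      · rintro ⟨y, hy, e⟩
        have e' : (g : G) * y * (g : G)⁻¹ = x := e
        have hy' : y ∈ J := by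
          rw [show y = (g : G)⁻¹ * ((g : G) * y * (g : G)⁻¹) * g by group, e']
          exact mul_mem (mul_mem (inv_mem g.2) x.2) g.2
        exact ⟨⟨y, hy'⟩, hy, Subtype.ext e'⟩
      · rintro ⟨y, hy, rfl⟩
        exact ⟨(y : G), hy, rfl⟩
    · ext x
      have h1 : IsInv (v : G) := ⟨fun e => hvi.1 (Subtype.ext e), congrArg Subtype.val hvi.2⟩
      simp only [Subgroup.mem_inf, Subgroup.mem_subgroupOf, Subgroup.mem_centralizer_singleton_iff,
        ← D.cent (v : G) hv h1, Subtype.ext_iff, Subgroup.coe_mul]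
  have hlt : Nat.card J < Nat.card G := lt_of_le_of_ne (Subgroup.card_le_card_group J)
    fun e => hJ (Subgroup.card_eq_iff_eq_top J |>.mp e)
  have h1 := C.below J (S.subtype hSJ) _ _ _ hlt hdata
  exact fun x hx => ⟨⟨x, hx.2⟩, h1 hx.1, rfl⟩

/-- **Section 5.**  The rigid local structure is impossible. -/
theorem Ctx.false_of_rigid_of_end
    (hend : ∀ (W' : Subgroup G) (θ' : G → Subgroup G) (Z : Set G), Ctx S E W' θ' →
      Bender.Q.Crit (normalizer (W' : Set G)) Z → False)
    (C : Ctx S E W θ) (hconn : IsFourConnected ↥(S : Subgroup G)) (R : Rigid S t) : False := by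
  haveI := Fact.mk Nat.prime_two
  have D := C.data
  have ht := orderOf_two R.inv
  have hsig := sig_core R.bal
  have h4 : 1 < Nat.card E := by have := D.E_card; omega
  -- the subgroup generated by all the cores
  set W' := Wθ (centralizerPPrimeCore 2) E
  obtain ⟨hodd, -, hc⟩ := hsig.closure_spec D.E_elem D.E_card
  have hfour : ∀ w ∈ (S : Subgroup G), orderOf w = 2 →
      ∃ U ≤ (S : Subgroup G), IsElementaryAbelian 2 U ∧ 4 ≤ Nat.card U ∧ U ≤ centralizer ({w} : Set G) :=
    fun w hwS hw => by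
      obtain ⟨U, hUS, hU, hU4, hwU⟩ := exists_four_with D.E_le D.E_elem D.E_card hwS hw
      exact ⟨U, hUS, hU, hU4.ge, fun x hx => Subgroup.mem_centralizer_singleton_iff.mpr (ea_comm hU hx hwU)⟩
  have hW'inv : (S : Subgroup G) ≤ normalizer (W' : Set G) := hsig.Wθ_inv D.E_le D.E_elem D.E_card hconn
  have hcent : ∀ w ∈ (S : Subgroup G), orderOf w = 2 →
      W' ⊓ centralizer ({w} : Set G) = centralizerPPrimeCore 2 w :=
    hsig.cent_eq D.E_le D.E_elem D.E_card hconn
  have hWW' : W ≤ W' := by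
    refine SolvSF.gen_le D.E_elem (by have := D.E_card; omega) D.W_odd.not_two_dvd_nat (D.E_le.trans D.W_inv)
      fun e he he1 => ?_
    rw [D.cent e (D.E_le he) ⟨he1, mul_self_of_orderOf (orderOf_eq_two_of_ea D.E_elem he he1)⟩]
    exact (D.theta_le_core (D.E_le he) (orderOf_eq_two_of_ea D.E_elem he he1)).trans (le_Wθ he he1)
  have C' : Ctx S E W' (centralizerPPrimeCore 2) :=
    ⟨⟨D.E_le, D.deep, D.E_elem, D.E_card, hodd, hW'inv, core_equi,
      fun v hv hvi => hcent v hv (orderOf_two hvi)⟩, C.below, C.core,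
      fun e => C.ne_bot (le_bot_iff.mp (e ▸ hWW'))⟩
  have hM : normalizer (W' : Set G) ≠ ⊤ := fun e => by
    haveI : W'.Normal := Subgroup.normalizer_eq_top_iff.mp e
    exact C'.ne_bot (le_bot_iff.mp (C.core ▸ CfsgLib.le_oddCore (N := W') hodd))
  -- two four groups of `S` in the same orbit are conjugate in `N(W')`
  have hgen : ∀ U ≤ (S : Subgroup G), IsElementaryAbelian 2 U → 4 ≤ Nat.card U →
      Wθ (centralizerPPrimeCore 2) U = W' := by
    intro U hUS hU hU4
    refine le_antisymm (iSup_le fun b => ?_) ?_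
    · exact (hcent b (hUS b.2.1) (orderOf_eq_two_of_ea hU b.2.1 b.2.2)).ge.trans inf_le_left
    · exact SolvSF.gen_le hU (by omega) hodd.not_two_dvd_nat (hUS.trans hW'inv) fun a ha ha1 =>
        (hcent a (hUS ha) (orderOf_eq_two_of_ea hU ha ha1)).le.trans (le_Wθ ha ha1)
  have hmove : ∀ g : G, ∀ U ≤ (S : Subgroup G), IsElementaryAbelian 2 U → 4 ≤ Nat.card U →
      (∀ x ∈ U, g * x * g⁻¹ ∈ (S : Subgroup G)) → g ∈ normalizer (W' : Set G) := by
    intro g U hUS hU hU4 hg
    have hU' : IsElementaryAbelian 2 (U.map (MulAut.conj g).toMonoidHom) := by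
      refine SolvSF.ea_of_comm ?_ ?_
      · rintro _ ⟨x, hx, rfl⟩ _ ⟨y, hy, rfl⟩
        rw [← map_mul, ea_comm hU hx hy, map_mul]
      · rintro _ ⟨x, hx, rfl⟩
        rw [← map_pow, hU.2 x hx, map_one]
    have h1 : (Wθ (centralizerPPrimeCore 2) U).map (MulAut.conj g).toMonoidHom ≤
        Wθ (centralizerPPrimeCore 2) (U.map (MulAut.conj g).toMonoidHom) := by
      rw [Subgroup.map_le_iff_le_comap]
      refine iSup_le fun b => ?_
      rw [← Subgroup.map_le_iff_le_comap, ← core_equi]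
      exact le_Wθ ⟨b, b.2.1, rfl⟩ fun e => b.2.2 (by simpa using e)
    rw [hgen U hUS hU hU4, hgen _ (by rintro _ ⟨x, hx, rfl⟩; exact hg x hx) hU'
      (by rwa [Subgroup.card_map_of_injective (MulAut.conj g).injective])] at h1
    exact Comp.mem_normalizer_of_maps fun x hx => h1 ⟨x, hx, rfl⟩
  have hconj : ∀ u ∈ (S : Subgroup G), orderOf u = 2 → ∃ m ∈ normalizer (W' : Set G), m * t * m⁻¹ = u := by
    intro u huS hu
    obtain ⟨g, rfl⟩ := R.fused u huS (isInv_of_orderOf hu)
    obtain ⟨U, hUS, hU, hU4, hUu⟩ := hfour _ huS hu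
    -- a Sylow subgroup of `C(u)` containing `U`
    set Cu := centralizer ({g * t * g⁻¹} : Set G)
    have hgS : ((g • S : Sylow 2 G) : Subgroup G) ≤ Cu := by
      rintro _ ⟨s, hs, rfl⟩
      refine Subgroup.mem_centralizer_singleton_iff.mpr ?_
      show g * s * g⁻¹ * (g * t * g⁻¹) = g * t * g⁻¹ * (g * s * g⁻¹)
      rw [show g * s * g⁻¹ * (g * t * g⁻¹) = g * (s * t) * g⁻¹ by group, (R.central s hs).eq]
      group
    obtain ⟨c, hc', hcU⟩ := Bender.Q.exists_conj_sylow (S := g • S) hgS (isPGroup_ea hU) hUu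
    refine ⟨c⁻¹ * g, ?_, ?_⟩
    · have h1 := inv_mem (hmove (g⁻¹ * c) U hUS hU hU4 fun x hx => ?_)
      · rwa [mul_inv_rev, inv_inv] at h1
      · obtain ⟨s, hs, e⟩ := hcU x hx
        have e' : g * s * g⁻¹ = c * x * c⁻¹ := e
        have e2 : g⁻¹ * c * x * (g⁻¹ * c)⁻¹ = s := by
          calc g⁻¹ * c * x * (g⁻¹ * c)⁻¹ = g⁻¹ * (c * x * c⁻¹) * g := by group
            _ = g⁻¹ * (g * s * g⁻¹) * g := by rw [e']
            _ = s := by group
        rw [e2]; exact hs
    · have e := Subgroup.mem_centralizer_singleton_iff.mp hc'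
      calc c⁻¹ * g * t * (c⁻¹ * g)⁻¹ = c⁻¹ * ((g * t * g⁻¹) * c) := by group
        _ = c⁻¹ * (c * (g * t * g⁻¹)) := by rw [e]
        _ = g * t * g⁻¹ := inv_mul_cancel_left c _
  have hinS : ∀ x ∈ normalizer (W' : Set G), orderOf x = 2 →
      ∃ k ∈ normalizer (W' : Set G), k * t * k⁻¹ = x := by
    intro x hx hx2
    obtain ⟨m, hm, hmS⟩ := Bender.Q.exists_conj_sylow hW'inv
      (IsPGroup.of_card (n := 1) (by rw [Nat.card_zpowers, hx2, pow_one]) : IsPGroup 2 (zpowers x))
      (Subgroup.zpowers_le.mpr hx)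
    obtain ⟨k, hk, e⟩ := hconj _ (hmS x (mem_zpowers x)) (((MulAut.conj m).orderOf_eq x).trans hx2)
    refine ⟨m⁻¹ * k, mul_mem (inv_mem hm) hk, ?_⟩
    calc m⁻¹ * k * t * (m⁻¹ * k)⁻¹ = m⁻¹ * (k * t * k⁻¹) * m := by group
      _ = m⁻¹ * (m * x * m⁻¹) * m := by rw [e]
      _ = x := by group
  have hconjC : ∀ k : G, ∀ y ∈ centralizer ({k * t * k⁻¹} : Set G), k⁻¹ * y * k ∈ centralizer ({t} : Set G) :=
    fun k y hy => Subgroup.mem_centralizer_singleton_iff.mpr (by
      have e := Subgroup.mem_centralizer_singleton_iff.mp hy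
      calc k⁻¹ * y * k * t = k⁻¹ * (y * (k * t * k⁻¹)) * k := by group
        _ = k⁻¹ * (k * t * k⁻¹ * y) * k := by rw [e]
        _ = t * (k⁻¹ * y * k) := by group)
  have hbad : ∀ v ∈ (S : Subgroup G), orderOf v = 2 →
      ¬ centralizer ({v} : Set G) ≤ normalizer (W' : Set G) := by
    intro v hvS hv hgood
    obtain ⟨k, hk, e⟩ := hconj v hvS hv
    have htgood : centralizer ({t} : Set G) ≤ normalizer (W' : Set G) := fun y hy => by
      have h1 : k * y * k⁻¹ ∈ centralizer ({v} : Set G) := Subgroup.mem_centralizer_singleton_iff.mpr (by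
        rw [← e]
        calc k * y * k⁻¹ * (k * t * k⁻¹) = k * (y * t) * k⁻¹ := by group
          _ = k * (t * y) * k⁻¹ := by rw [Subgroup.mem_centralizer_singleton_iff.mp hy]
          _ = _ := by group)
      have h2 := mul_mem (mul_mem (inv_mem hk) (hgood h1)) hk
      rwa [show k⁻¹ * (k * y * k⁻¹) * k = y by group] at h2
    have hgood' : ∀ x ∈ normalizer (W' : Set G), orderOf x = 2 →
        centralizer ({x} : Set G) ≤ normalizer (W' : Set G) := by
      intro x hx hx2 y hy
      obtain ⟨j, hj, rfl⟩ := hinS x hx hx2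
      have h2 := mul_mem (mul_mem hj (htgood (hconjC j y hy))) (inv_mem hj)
      rwa [show j * (j⁻¹ * y * j) * j⁻¹ = y by group] at h2
    refine hend W' _ (conjugatesOf t) C' (Bender.Q.crit_class hM ht (hW'inv R.mem) ⟨S, R.mem, R.central⟩
      (fun g hg => ?_) (fun g hcomm hne => ?_))
    · obtain ⟨j, hj, e⟩ := hinS _ hg (((MulAut.conj g).orderOf_eq t).trans ht)
      have h1 : j⁻¹ * g ∈ centralizer ({t} : Set G) := Subgroup.mem_centralizer_singleton_iff.mpr (by
        calc j⁻¹ * g * t = j⁻¹ * (g * t * g⁻¹) * g := by group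
          _ = j⁻¹ * (j * t * j⁻¹) * g := by rw [e]
          _ = t * (j⁻¹ * g) := by group)
      simpa using mul_mem hj (htgood h1)
    · have h1 : g * t * g⁻¹ ∈ normalizer (W' : Set G) :=
        htgood (Subgroup.mem_centralizer_singleton_iff.mpr hcomm.eq.symm)
      refine hgood' _ (mul_mem (hW'inv R.mem) h1) (orderOf_eq_prime ?_ ?_)
      · rw [hcomm.mul_pow, pow_two, pow_two, mul_self_of_orderOf ht, one_mul]
        exact mul_self_of_orderOf (((MulAut.conj g).orderOf_eq t).trans ht)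
      · intro e1
        refine hne ?_
        have h2 := eq_inv_of_mul_eq_one_right e1
        rwa [inv_eq_of_mul_eq_one_right (mul_self_of_orderOf ht)] at h2
  refine FinishHyp.false (S := S) (E := E) (W := W') (t := t) ?_ ht R.mem (fun s hs => (R.central s hs).eq)
  refine ⟨?_, D.E_le, D.E_elem, D.E_card, hodd, C'.ne_bot, hW'inv, hcent, hbad, ?_, C'.ind hconn, ?_⟩
  · refine le_bot_iff.mp fun x hx => ?_
    haveI : (qOf 2 (⊤ : Subgroup G)).Normal := Subgroup.normalizer_eq_top_iff.mp (top_le_iff.mp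
      ((Subgroup.le_normalizer (H := (⊤ : Subgroup G))).trans (normalizer_le_qOf 2 ⊤)))
    exact C.core ▸ CfsgLib.le_oddCore (N := qOf 2 (⊤ : Subgroup G)) (odd_qOf ⊤) hx
  · intro u hu hu2 v hv hv2
    obtain ⟨j, hj, e⟩ := hconj u hu hu2
    obtain ⟨k, hk, e'⟩ := hconj v hv hv2
    refine ⟨k * j⁻¹, mul_mem hk (inv_mem hj), ?_⟩
    rw [← e, ← e']
    group
  · exact fun v hv hv2 hne B hB h1 h2 h3 h4 => R.rigid v hv (isInv_of_orderOf hv2) hne B h1 h2 hB h3 h4

/-- **Section 5**, closed with END. -/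
theorem Ctx.false_of_rigid (C : Ctx S E W θ) (hconn : IsFourConnected ↥(S : Subgroup G)) (R : Rigid S t) :
    False :=
  C.false_of_rigid_of_end (fun _ _ _ C' h => C'.false_of_crit h) hconn R

end CfsgLib.CoreKill
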