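import Cfsg.Prelude.Def_CaseTheorems
import Cfsg.Prelude.Def_Transfer
import Cfsg.Agent.Lib.Bender.Assembly

/-!
The interfaces of the core-killing theorem: a group with a proper 2-generated core, seen through an odd subgroup `W`
whose fixed points under the involutions of a Sylow 2-subgroup are given by a conjugation equivariant assignment.

Blueprint: `blueprint/bender/CoreKill.md`.
-/

set_option autoImplicit false

namespace CfsgLib.CoreKill

open Cfsg
open CfsgLib.Bender.TwoClosed (IsInv)

universe u

variable {G : Type u} [Group G]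

/-- The hypotheses of THEOREM CK: `W` is odd and `S`-invariant, every involution lies in an elementary abelian subgroup of
order at least eight, `E` is one in `S`, and `C_W(v) = θ(v)` at the involutions `v` of `S`, with `θ` equivariant. -/
structure Data (S : Sylow 2 G) (E W : Subgroup G) (θ : G → Subgroup G) : Prop where
  E_le : E ≤ (S : Subgroup G)
  deep : ∀ t : G, IsInv t → ∃ B : Subgroup G, IsElementaryAbelian 2 B ∧ 8 ≤ Nat.card B ∧ t ∈ B
  E_elem : IsElementaryAbelian 2 E
  E_card : 8 ≤ Nat.card E
  W_odd : Odd (Nat.card W)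
  W_inv : (S : Subgroup G) ≤ Subgroup.normalizer (W : Set G)
  equiv : ∀ g a : G, θ (g * a * g⁻¹) = (θ a).map (MulAut.conj g).toMonoidHom
  cent : ∀ v ∈ (S : Subgroup G), IsInv v → W ⊓ Subgroup.centralizer ({v} : Set G) = θ v

/-- THEOREM CK: the subgroup `W` lies in the core. -/
def CK : Prop :=
  ∀ (G : Type u) [Group G] [Finite G] (S : Sylow 2 G) (E W : Subgroup G) (θ : G → Subgroup G),
    Data S E W θ → W ≤ oddCore G

/-- THEOREM CK for the groups of order less than `n`. -/
def Below (n : ℕ) : Prop :=
  ∀ (G : Type u) [Group G] [Finite G] (S : Sylow 2 G) (E W : Subgroup G) (θ : G → Subgroup G),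
    Nat.card G < n → Data S E W θ → W ≤ oddCore G

/-- A minimal counterexample. -/
structure Ctx (S : Sylow 2 G) (E W : Subgroup G) (θ : G → Subgroup G) : Prop where
  data : Data S E W θ
  below : Below.{u} (Nat.card G)
  core : oddCore G = ⊥
  ne_bot : W ≠ ⊥

/-- A good involution of `M = N(W)` has its centralizer in `M`. -/
def IsGood (W : Subgroup G) (v : G) : Prop :=
  Subgroup.centralizer ({v} : Set G) ≤ Subgroup.normalizer (W : Set G)

/-- What the local analysis leaves for the end game (section 5): all involutions are conjugate to the central `t`,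
`G` is balanced, and an odd subgroup `B` between `O(C(v))` and `C(v)` that is normalized by `C(v) ∩ C(t)` is
`O(C(v))` as soon as `C_B(t)` lies in it. -/
structure Rigid (S : Sylow 2 G) (t : G) : Prop where
  mem : t ∈ (S : Subgroup G)
  inv : IsInv t
  central : ∀ s ∈ (S : Subgroup G), Commute s t
  fused : ∀ u ∈ (S : Subgroup G), IsInv u → ∃ g : G, g * t * g⁻¹ = u
  bal : IsBalanced G
  rigid : ∀ v ∈ (S : Subgroup G), IsInv v → v ≠ t → ∀ B : Subgroup G, centralizerPPrimeCore 2 v ≤ B →
    B ≤ Subgroup.centralizer ({v} : Set G) → Odd (Nat.card B) →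
    Subgroup.centralizer ({v} : Set G) ⊓ Subgroup.centralizer ({t} : Set G) ≤ Subgroup.normalizer (B : Set G) →
    B ⊓ Subgroup.centralizer ({t} : Set G) ≤ centralizerPPrimeCore 2 v → B ≤ centralizerPPrimeCore 2 v

end CfsgLib.CoreKill
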