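import Cfsg.Agent.Lib.CoreKill.Finish
import Cfsg.Agent.Lib.CoreKill.Defs
import Cfsg.Agent.S0502
import Cfsg.Agent.Lib.TwoLocalSignalizer.Connected

/-!
Theorem CK as a proposition, and its use for an equivariant signalizer functor on the elementary abelian
2-subgroups of order at least eight.

Blueprint: `blueprint/bender/CoreKill.md`, rows.
-/

set_option autoImplicit false
set_option linter.unusedSectionVars false
set_option linter.style.haveILetI false

universe u

namespace CfsgLib.CoreKill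

open Cfsg Subgroup CfsgLib.Signalizer

variable {G : Type u} [Group G] [Finite G]

/-- An equivariant signalizer functor on all elementary abelian 2-subgroups of order at least eight. -/
structure Sig (θ : G → Subgroup G) : Prop where
  equi : ∀ g a : G, θ (g * a * g⁻¹) = (θ a).map (MulAut.conj g).toMonoidHom
  functor : ∀ B : Subgroup G, IsElementaryAbelian 2 B → 8 ≤ Nat.card B → IsSignalizerFunctor 2 B θ

variable {θ : G → Subgroup G}

/-- The subgroup generated by the values on `B`. -/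
def Wθ (θ : G → Subgroup G) (B : Subgroup G) : Subgroup G := ⨆ b : {b : G // b ∈ B ∧ b ≠ 1}, θ b

theorem le_Wθ {B : Subgroup G} {b : G} (hb : b ∈ B) (hb1 : b ≠ 1) : θ b ≤ Wθ θ B :=
  le_iSup (fun b : {b : G // b ∈ B ∧ b ≠ 1} => θ b) ⟨b, hb, hb1⟩

/-- The image of a four group. -/
theorem isKleinFour_map {R T : Type*} [Group R] [Group T] (f : R ≃* T) {X : Subgroup R} (hX : IsKleinFour X) :
    IsKleinFour ↥(X.map f.toMonoidHom) := by
  haveI := hX
  exact ⟨by rw [Subgroup.card_map_of_injective f.injective]; exact hX.card_four,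
    by rw [← Monoid.exponent_eq_of_mulEquiv (X.equivMapOfInjective f.toMonoidHom f.injective)]
       exact hX.exponent_two⟩

/-- Four-connectivity is invariant under isomorphisms. -/
theorem isFourConnected_of_equiv {P Q : Type*} [Group P] [Group Q] (e : P ≃* Q) (h : IsFourConnected P) :
    IsFourConnected Q := by
  intro U V hU hV
  have hback : ∀ Z : Subgroup Q, (Z.map e.symm.toMonoidHom).map e.toMonoidHom = Z := fun Z => by
    rw [Subgroup.map_map]
    exact (congrArg (Z.map ·) (show e.toMonoidHom.comp e.symm.toMonoidHom = MonoidHom.id Q from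
      MonoidHom.ext fun q => e.apply_symm_apply q)).trans (Subgroup.map_id Z)
  rw [← hback U, ← hback V]
  have hr := h _ _ (isKleinFour_map e.symm hU) (isKleinFour_map e.symm hV)
  generalize V.map e.symm.toMonoidHom = X at hr ⊢
  induction hr with
  | refl => exact .refl
  | @tail A B _ hAB ih =>
    refine ih.tail ⟨isKleinFour_map e hAB.1, isKleinFour_map e hAB.2.1, ?_⟩
    rintro _ ⟨a, ha, rfl⟩ _ ⟨b, hb, rfl⟩
    rw [← map_mul, ← map_mul, hAB.2.2 a ha b hb]

/-- A normal `E_8` makes the fours of a Sylow subgroup connected. -/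
theorem isFourConnected_of_normal_eight {S : Sylow 2 G} {E : Subgroup G} (hES : E ≤ (S : Subgroup G))
    (hEn : (S : Subgroup G) ≤ normalizer (E : Set G)) (hE : IsElementaryAbelian 2 E) (hE8 : 8 ≤ Nat.card E) :
    IsFourConnected ↥(S : Subgroup G) := by
  haveI : (E.subgroupOf (S : Subgroup G)).Normal := (normal_subgroupOf_iff_le_normalizer hES).mpr hEn
  exact Cfsg.Agent.S0502.result S.isPGroup' (E.subgroupOf (S : Subgroup G))
    ⟨⟨fun a b => Subtype.ext (Subtype.ext (ea_comm hE a.2 b.2))⟩⟩ (fun e he => Subtype.ext (hE.2 _ he))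
    (by rwa [Nat.card_congr (subgroupOfEquivOfLe hES).toEquiv])

theorem not_prank_two_of_eight {E : Subgroup G} (hE : IsElementaryAbelian 2 E) (hE8 : 8 ≤ Nat.card E) :
    ¬ PRankLE 2 2 G := fun hr => by
  have := hr E hE.1 hE.2
  omega

theorem ea_zpowers {w : G} (hw : w * w = 1) : IsElementaryAbelian 2 (zpowers w) :=
  SolvSF.ea_of_comm
    (fun a ha b hb => by
      obtain ⟨i, rfl⟩ := mem_zpowers_iff.mp ha
      obtain ⟨j, rfl⟩ := mem_zpowers_iff.mp hb
      exact (Commute.zpow_zpow (Commute.refl w) i j).eq)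
    fun a ha => by
      obtain ⟨i, rfl⟩ := mem_zpowers_iff.mp ha
      rw [← zpow_natCast, ← zpow_mul, mul_comm, zpow_mul, zpow_natCast, pow_two, hw, one_zpow]

theorem card_pair {a b : G} (ha : orderOf a = 2) (hb : orderOf b = 2) (hne : a ≠ b) (hc : a * b = b * a) :
    IsElementaryAbelian 2 (zpowers a ⊔ zpowers b) ∧ Nat.card ↥(zpowers a ⊔ zpowers b) = 4 := by
  have hA := TwoLocalSignalizer.ea_sup (ea_zpowers (mul_self_of_orderOf ha)) (ea_zpowers (mul_self_of_orderOf hb))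
    fun x hx y hy => by
      obtain ⟨i, rfl⟩ := mem_zpowers_iff.mp hx
      obtain ⟨j, rfl⟩ := mem_zpowers_iff.mp hy
      exact (Commute.zpow_zpow hc i j).eq
  refine ⟨hA, le_antisymm ?_ ?_⟩
  · have h1 := Signalizer.card_sup_zpowers_le hA (le_sup_left (b := zpowers b))
      (mem_sup_right (mem_zpowers b) : b ∈ zpowers a ⊔ zpowers b)
    rw [Nat.card_zpowers, ha] at h1
    omega
  · refine TwoLocalSignalizer.four_le_of_two_lt (isPGroup_ea hA) (lt_of_le_of_ne ?_ fun e => hne ?_)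
    · rw [← ha, ← Nat.card_zpowers]
      exact Subgroup.card_le_of_le le_sup_left
    · have h1 := Subgroup.eq_of_le_of_card_ge (le_sup_left : zpowers a ≤ zpowers a ⊔ zpowers b)
        (by rw [← e, Nat.card_zpowers, ha])
      obtain ⟨i, hi⟩ := mem_zpowers_iff.mp (h1.ge (mem_sup_right (mem_zpowers b)))
      rcases Int.even_or_odd i with ⟨j, rfl⟩ | ⟨j, rfl⟩
      · rw [← two_mul, zpow_mul, zpow_two, mul_self_of_orderOf ha, one_zpow] at hi
        rw [← hi, orderOf_one] at hb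
        omega
      · rw [zpow_add, zpow_mul, zpow_two, mul_self_of_orderOf ha, one_zpow, one_mul, zpow_one] at hi
        exact hi

/-- Every involution of `S` lies in a four group of `S`. -/
theorem exists_four_with {S : Sylow 2 G} {E : Subgroup G} (hES : E ≤ (S : Subgroup G))
    (hE : IsElementaryAbelian 2 E) (hE8 : 8 ≤ Nat.card E) {w : G} (hwS : w ∈ (S : Subgroup G))
    (hw : orderOf w = 2) :
    ∃ U ≤ (S : Subgroup G), IsElementaryAbelian 2 U ∧ Nat.card U = 4 ∧ w ∈ U := by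
  haveI := Fact.mk Nat.prime_two
  obtain ⟨z, hzS, hz, hzc⟩ := Comp.exists_central_in_normal (p := 2) S.isPGroup' (le_refl (S : Subgroup G))
    Subgroup.le_normalizer fun e => by
      rw [e, Subgroup.mem_bot] at hwS
      rw [hwS, orderOf_one] at hw
      omega
  obtain ⟨u, huS, hu, hne, hc⟩ : ∃ u ∈ (S : Subgroup G), orderOf u = 2 ∧ w ≠ u ∧ w * u = u * w := by
    by_cases hwz : w = z
    · obtain ⟨e, he, hez⟩ := SetLike.not_le_iff_exists.mp (show ¬ E ≤ zpowers z from fun h => by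
        have := Subgroup.card_le_of_le h
        rw [Nat.card_zpowers, hz] at this
        omega)
      refine ⟨e, hES he, orderOf_eq_two_of_ea hE he (fun e1 => hez (e1 ▸ one_mem _)), fun h => hez ?_, ?_⟩
      · rw [← h, hwz]; exact mem_zpowers z
      · rw [hwz]; exact (hzc e (hES he)).symm
    · exact ⟨z, hzS, hz, hwz, hzc w hwS⟩
  obtain ⟨hA, h4⟩ := card_pair hw hu hne hc
  exact ⟨_, sup_le (zpowers_le.mpr hwS) (zpowers_le.mpr huS), hA, h4, mem_sup_left (mem_zpowers w)⟩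

/-- An elementary abelian subgroup of order at least eight in a given Sylow subgroup. -/
theorem exists_eight_in (S : Sylow 2 G) (h3 : ¬ PRankLE 2 2 G) :
    ∃ E ≤ (S : Subgroup G), IsElementaryAbelian 2 E ∧ 8 ≤ Nat.card E := by
  haveI := Fact.mk Nat.prime_two
  simp only [PRankLE, not_forall, not_le] at h3
  obtain ⟨E₀, hEc, hEe, hElt⟩ := h3
  have hE₀ : IsElementaryAbelian 2 E₀ := ⟨hEc, hEe⟩
  obtain ⟨R, hR⟩ := (isPGroup_ea hE₀).exists_le_sylow
  obtain ⟨g, hg⟩ := MulAction.exists_smul_eq G R S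
  refine ⟨E₀.map (MulAut.conj g).toMonoidHom, ?_, SolvSF.ea_of_comm ?_ ?_, ?_⟩
  · rintro _ ⟨a, ha, rfl⟩
    rw [← hg]
    exact ⟨a, hR ha, rfl⟩
  · rintro _ ⟨a, ha, rfl⟩ _ ⟨b, hb, rfl⟩
    rw [← map_mul, ea_comm hE₀ ha hb, map_mul]
  · rintro _ ⟨a, ha, rfl⟩
    rw [← map_pow, hEe a ha, map_one]
  · rw [Subgroup.card_map_of_injective (MulAut.conj g).injective]
    exact TwoLocalSignalizer.eight_le_of_four_lt (isPGroup_ea hE₀) (by simpa using hElt)

/-- A four group lies in an elementary abelian subgroup of order eight when the fours of `G` are connected. -/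
theorem exists_eight_over (hconn : IsFourConnected G) {V : Subgroup G} (hV : IsElementaryAbelian 2 V)
    (hV4 : Nat.card V = 4) (h3 : ¬ PRankLE 2 2 G) :
    ∃ B : Subgroup G, IsElementaryAbelian 2 B ∧ 8 ≤ Nat.card B ∧ V ≤ B := by
  haveI := Fact.mk Nat.prime_two
  obtain ⟨S⟩ : Nonempty (Sylow 2 G) := inferInstance
  obtain ⟨E, -, hE, hE8⟩ := exists_eight_in S h3
  by_cases hVE : V ≤ E
  · exact ⟨E, hE, hE8, hVE⟩
  obtain ⟨F, hFE, hF, hF4⟩ := TwoLocalSignalizer.exists_four (isPGroup_ea hE) fun hr => by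
    have := hr ⊤ ⟨⟨fun x y => Subtype.ext (Subtype.ext (ea_comm hE (x : E).2 (y : E).2))⟩⟩
      fun x _ => Subtype.ext (by simpa using hE.2 (x : G) x.2)
    rw [Subgroup.card_top] at this
    omega
  have key : ∀ {X Y : Subgroup G}, Relation.ReflTransGen
      (fun A B : Subgroup G => IsKleinFour A ∧ IsKleinFour B ∧ ∀ a ∈ A, ∀ b ∈ B, a * b = b * a) X Y →
      X ≠ Y → ∃ B : Subgroup G, IsKleinFour B ∧ B ≠ X ∧ ∀ a ∈ X, ∀ b ∈ B, a * b = b * a := by
    intro X Y hr
    induction hr with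
    | refl => exact fun h => absurd rfl h
    | @tail Y Y' _ hstep ih =>
      intro hXY
      rcases eq_or_ne X Y with rfl | hne
      · exact ⟨Y', hstep.2.1, hXY.symm, hstep.2.2⟩
      · exact ih hne
  obtain ⟨B, hB, hBV, hc⟩ := key (hconn V F (TwoLocalSignalizer.klein_of_ea hV hV4)
    (TwoLocalSignalizer.klein_of_ea hF hF4)) fun e => hVE (e ▸ hFE)
  obtain ⟨hBe, hB4⟩ := TwoLocalSignalizer.ea_of_klein hB
  have hC := TwoLocalSignalizer.ea_sup hV hBe hc
  refine ⟨_, hC, TwoLocalSignalizer.eight_le_of_four_lt (isPGroup_ea hC)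
    (lt_of_le_of_ne (hV4 ▸ Subgroup.card_le_of_le le_sup_left) fun e => hBV ?_), le_sup_left⟩
  have h1 := Subgroup.eq_of_le_of_card_ge (le_sup_left : V ≤ V ⊔ B) (by omega)
  exact Subgroup.eq_of_le_of_card_ge (h1 ▸ le_sup_right : B ≤ V) (by omega)

/-- When the four groups of a Sylow subgroup are connected, every involution lies in an elementary abelian
subgroup of order eight. -/
theorem deep_of_conn {S : Sylow 2 G} {E : Subgroup G} (hES : E ≤ (S : Subgroup G)) (hE : IsElementaryAbelian 2 E)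
    (hE8 : 8 ≤ Nat.card E) (hconn : IsFourConnected ↥(S : Subgroup G)) {t : G} (ht : orderOf t = 2) :
    ∃ B : Subgroup G, IsElementaryAbelian 2 B ∧ 8 ≤ Nat.card B ∧ t ∈ B := by
  haveI := Fact.mk Nat.prime_two
  obtain ⟨R, hR⟩ := (IsPGroup.of_card (n := 1) (by rw [Nat.card_zpowers, ht, pow_one]) :
    IsPGroup 2 (zpowers t)).exists_le_sylow
  obtain ⟨g, hg⟩ := MulAction.exists_smul_eq G R S
  have htS : g * t * g⁻¹ ∈ (S : Subgroup G) := by
    rw [← hg]
    exact ⟨t, hR (mem_zpowers t), rfl⟩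
  obtain ⟨U, hUS, hU, hU4, htU⟩ := exists_four_with hES hE hE8 htS (((MulAut.conj g).orderOf_eq t).trans ht)
  obtain ⟨B, -, hB, hB8, hUB⟩ :=
    TwoLocalSignalizer.exists_eight_above S (not_prank_two_of_eight hE hE8) hconn hUS hU hU4
  refine ⟨B.map (MulAut.conj g⁻¹).toMonoidHom, SolvSF.ea_of_comm ?_ ?_, ?_, g * t * g⁻¹, hUB htU, by simp [mul_assoc]⟩
  · rintro _ ⟨x, hx, rfl⟩ _ ⟨y, hy, rfl⟩
    rw [← map_mul, ea_comm hB hx hy, map_mul]
  · rintro _ ⟨x, hx, rfl⟩
    rw [← map_pow, hB.2 x hx, map_one]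
  · rwa [Subgroup.card_map_of_injective (MulAut.conj g⁻¹).injective]

namespace Sig

variable (h : Sig θ)
include h

theorem closure_spec {B : Subgroup G} (hB : IsElementaryAbelian 2 B) (hB8 : 8 ≤ Nat.card B) :
    Odd (Nat.card (Wθ θ B)) ∧ B ≤ normalizer (Wθ θ B : Set G) ∧
      ∀ b ∈ B, b ≠ 1 → Wθ θ B ⊓ centralizer ({b} : Set G) = θ b := by
  haveI := Fact.mk Nat.prime_two
  have hf := h.functor B hB hB8
  have hsol : IsSolvableSignalizerFunctor 2 B θ := ⟨hf, fun a ha ha1 =>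
    Cfsg.Agent.S0205.result (Nat.odd_iff.mpr (Nat.two_dvd_ne_zero.mp (hf.2.1 a ha ha1)))⟩
  obtain ⟨hX, hc⟩ := SolvSF.closure_spec hB (by simpa using hB8) hsol
  exact ⟨Nat.not_even_iff_odd.mp fun he => hX.2.1 (even_iff_two_dvd.mp he), SolvSF.mem_normalizes hX, hc⟩

theorem Wθ_eq {B U : Subgroup G} (hB : IsElementaryAbelian 2 B) (hB8 : 8 ≤ Nat.card B) (hUB : U ≤ B)
    (hU4 : 4 ≤ Nat.card U) : Wθ θ U = Wθ θ B := by
  haveI := Fact.mk Nat.prime_two
  obtain ⟨hodd, hn, hc⟩ := h.closure_spec hB hB8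
  refine le_antisymm (iSup_le fun b => le_Wθ (hUB b.2.1) b.2.2) ?_
  exact SolvSF.gen_le (Signalizer.ea_le hB hUB) (by omega) hodd.not_two_dvd_nat (hUB.trans hn)
    fun a ha ha1 => (hc a (hUB ha) ha1).le.trans (le_Wθ ha ha1)

theorem Wθ_conj (g : G) {B : Subgroup G} (hg : ∀ b ∈ B, g * b * g⁻¹ ∈ B) :
    g ∈ normalizer (Wθ θ B : Set G) := by
  refine Comp.mem_normalizer_of_maps fun y hy => ?_
  have hle : Wθ θ B ≤ (Wθ θ B).comap (MulAut.conj g).toMonoidHom := by
    refine iSup_le fun b => ?_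
    rw [← Subgroup.map_le_iff_le_comap, ← h.equi]
    exact le_Wθ (hg b b.2.1) fun e => b.2.2 (by simpa using e)
  exact hle hy

/-- All four groups of a connected Sylow subgroup give the same subgroup. -/
theorem Wθ_four {S : Sylow 2 G} {E : Subgroup G} (hES : E ≤ (S : Subgroup G)) (hE : IsElementaryAbelian 2 E)
    (hE8 : 8 ≤ Nat.card E) (hconn : IsFourConnected ↥(S : Subgroup G)) {U : Subgroup G}
    (hUS : U ≤ (S : Subgroup G)) (hU : IsElementaryAbelian 2 U) (hU4 : Nat.card U = 4) :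
    Wθ θ U = Wθ θ E := by
  haveI := Fact.mk Nat.prime_two
  obtain ⟨F, hFE, hF, hF4⟩ := TwoLocalSignalizer.exists_four (isPGroup_ea hE) fun hr => by
    have := hr ⊤ ⟨⟨fun x y => Subtype.ext (Subtype.ext (ea_comm hE (x : E).2 (y : E).2))⟩⟩
      fun x _ => Subtype.ext (by simpa using hE.2 (x : G) x.2)
    rw [Subgroup.card_top] at this
    omega
  rw [← h.Wθ_eq hE hE8 hFE hF4.ge]
  have hsub : ∀ {X : Subgroup G}, X ≤ (S : Subgroup G) → IsElementaryAbelian 2 X → Nat.card X = 4 →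
      IsKleinFour ↥(X.subgroupOf (S : Subgroup G)) := fun {X} hXS hX hX4 => by
    refine TwoLocalSignalizer.klein_of_ea (SolvSF.ea_of_comm (fun a ha b hb => Subtype.ext (ea_comm hX ha hb))
      fun a ha => Subtype.ext (hX.2 _ ha)) ?_
    rw [Nat.card_congr (subgroupOfEquivOfLe hXS).toEquiv, hX4]
  have hstep : ∀ X Y : Subgroup ↥(S : Subgroup G), IsKleinFour X → IsKleinFour Y →
      (∀ x ∈ X, ∀ y ∈ Y, x * y = y * x) →
      Wθ θ (X.map (S : Subgroup G).subtype) = Wθ θ (Y.map (S : Subgroup G).subtype) := by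
    intro X Y hX hY hXY
    by_cases hne : X = Y
    · rw [hne]
    obtain ⟨hXe, hX4⟩ := TwoLocalSignalizer.ea_of_klein hX
    obtain ⟨hYe, hY4⟩ := TwoLocalSignalizer.ea_of_klein hY
    have hC := TwoLocalSignalizer.ea_sup hXe hYe hXY
    have h8 : 8 ≤ Nat.card ↥(X ⊔ Y) := by
      refine TwoLocalSignalizer.eight_le_of_four_lt (isPGroup_ea hC)
        (lt_of_le_of_ne (hX4 ▸ Subgroup.card_le_of_le le_sup_left) fun e => hne ?_)
      have h1 := Subgroup.eq_of_le_of_card_ge (le_sup_left : X ≤ X ⊔ Y) (by omega)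
      exact (Subgroup.eq_of_le_of_card_ge (h1 ▸ le_sup_right : Y ≤ X) (by omega)).symm
    have hC' : IsElementaryAbelian 2 ((X ⊔ Y).map (S : Subgroup G).subtype) := by
      refine SolvSF.ea_of_comm ?_ ?_
      · rintro _ ⟨x, hx, rfl⟩ _ ⟨y, hy, rfl⟩
        exact congrArg Subtype.val (ea_comm hC hx hy)
      · rintro _ ⟨x, hx, rfl⟩
        exact congrArg Subtype.val (hC.2 x hx)
    have hinj := (S : Subgroup G).subtype_injective
    rw [h.Wθ_eq hC' (by rwa [Subgroup.card_map_of_injective hinj]) (Subgroup.map_mono le_sup_left)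
        (by rw [Subgroup.card_map_of_injective hinj]; omega),
      h.Wθ_eq hC' (by rwa [Subgroup.card_map_of_injective hinj]) (Subgroup.map_mono le_sup_right)
        (by rw [Subgroup.card_map_of_injective hinj]; omega)]
  have hall : ∀ Y : Subgroup ↥(S : Subgroup G), IsKleinFour Y →
      Wθ θ U = Wθ θ (Y.map (S : Subgroup G).subtype) := by
    intro Y hY
    have hr := hconn _ Y (hsub hUS hU hU4) hY
    induction hr with
    | refl => rw [Subgroup.map_subgroupOf_eq_of_le hUS]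
    | tail _ hst ih => exact (ih hst.1).trans (hstep _ _ hst.1 hst.2.1 hst.2.2)
  rw [hall _ (hsub (hFE.trans hES) hF hF4), Subgroup.map_subgroupOf_eq_of_le (hFE.trans hES)]

/-- The subgroup generated by the values is invariant under `S`. -/
theorem Wθ_inv {S : Sylow 2 G} {E : Subgroup G} (hES : E ≤ (S : Subgroup G)) (hE : IsElementaryAbelian 2 E)
    (hE8 : 8 ≤ Nat.card E) (hconn : IsFourConnected ↥(S : Subgroup G)) :
    (S : Subgroup G) ≤ normalizer (Wθ θ E : Set G) := by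
  intro s hs
  haveI := Fact.mk Nat.prime_two
  refine Comp.mem_normalizer_of_maps fun y hy => ?_
  have hE' : IsElementaryAbelian 2 (E.map (MulAut.conj s).toMonoidHom) := by
    refine SolvSF.ea_of_comm ?_ ?_
    · rintro _ ⟨x, hx, rfl⟩ _ ⟨z, hz, rfl⟩
      rw [← map_mul, ea_comm hE hx hz, map_mul]
    · rintro _ ⟨x, hx, rfl⟩
      rw [← map_pow, hE.2 x hx, map_one]
  have hE8' : 8 ≤ Nat.card ↥(E.map (MulAut.conj s).toMonoidHom) := by
    rwa [Subgroup.card_map_of_injective (MulAut.conj s).injective]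
  obtain ⟨F, hFE, hF, hF4⟩ := TwoLocalSignalizer.exists_four (isPGroup_ea hE') fun hr => by
    have := hr ⊤ ⟨⟨fun a b => Subtype.ext (Subtype.ext (ea_comm hE'
      (a : E.map (MulAut.conj s).toMonoidHom).2 (b : E.map (MulAut.conj s).toMonoidHom).2))⟩⟩
      fun a _ => Subtype.ext (by rw [SubgroupClass.coe_pow]; exact hE'.2 _ a.2)
    rw [Subgroup.card_top] at this
    omega
  have hFS : F ≤ (S : Subgroup G) := hFE.trans (by
    rintro _ ⟨x, hx, rfl⟩
    exact mul_mem (mul_mem hs (hES hx)) (inv_mem hs))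
  have hle : Wθ θ E ≤ (Wθ θ (E.map (MulAut.conj s).toMonoidHom)).comap (MulAut.conj s).toMonoidHom := by
    refine iSup_le fun b => ?_
    rw [← Subgroup.map_le_iff_le_comap, ← h.equi]
    exact le_Wθ ⟨b, b.2.1, rfl⟩ fun e => b.2.2 (by simpa using e)
  rw [← h.Wθ_four hES hE hE8 hconn hFS hF hF4, h.Wθ_eq hE' hE8' hFE hF4.ge]
  exact hle hy

/-- The fixed points on the subgroup of a connected Sylow subgroup. -/
theorem cent_eq {S : Sylow 2 G} {E : Subgroup G} (hES : E ≤ (S : Subgroup G)) (hE : IsElementaryAbelian 2 E)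
    (hE8 : 8 ≤ Nat.card E) (hconn : IsFourConnected ↥(S : Subgroup G)) :
    ∀ w ∈ (S : Subgroup G), orderOf w = 2 → Wθ θ E ⊓ centralizer ({w} : Set G) = θ w := by
  intro w hwS hw
  have hw1 : w ≠ 1 := fun e => by rw [e, orderOf_one] at hw; omega
  obtain ⟨U, hUS, hU, hU4, hwU⟩ := exists_four_with hES hE hE8 hwS hw
  obtain ⟨B, -, hB, hB8, hUB⟩ :=
    TwoLocalSignalizer.exists_eight_above S (not_prank_two_of_eight hE hE8) hconn hUS hU hU4
  rw [← h.Wθ_four hES hE hE8 hconn hUS hU hU4, h.Wθ_eq hB hB8 hUB hU4.ge]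
  exact (h.closure_spec hB hB8).2.2 w (hUB hwU) hw1

/-- The functor vanishes on the involutions of a connected Sylow subgroup. -/
theorem eq_bot_of_conn_sylow (hCK : CK.{u}) (hO : oddCore G = ⊥) {S : Sylow 2 G} {E : Subgroup G}
    (hES : E ≤ (S : Subgroup G)) (hE : IsElementaryAbelian 2 E)
    (hE8 : 8 ≤ Nat.card E) (hconn : IsFourConnected ↥(S : Subgroup G)) {v : G} (hvS : v ∈ (S : Subgroup G)) (hv : orderOf v = 2) : θ v = ⊥ := by
  haveI := Fact.mk Nat.prime_two
  obtain ⟨hodd, -, -⟩ := h.closure_spec hE hE8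
  have hcent := h.cent_eq hES hE hE8 hconn
  have hW : Wθ θ E ≤ oddCore G := hCK G S E (Wθ θ E) θ
    ⟨hES, fun x hx => deep_of_conn hES hE hE8 hconn (CfsgLib.Bender.Assembly.orderOf_two hx), hE, hE8, hodd,
      h.Wθ_inv hES hE hE8 hconn, h.equi,
      fun w hw hwi => hcent w hw (CfsgLib.Bender.Assembly.orderOf_two hwi)⟩
  rw [hO, le_bot_iff] at hW
  rw [← hcent v hvS hv, hW, bot_inf_eq]

/-- A 2-element conjugate into `S`: the functor vanishes on every involution. -/
theorem eq_bot_everywhere (hCK : CK.{u}) (hO : oddCore G = ⊥) {S : Sylow 2 G} {E : Subgroup G}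
    (hES : E ≤ (S : Subgroup G)) (hE : IsElementaryAbelian 2 E)
    (hE8 : 8 ≤ Nat.card E) (hconn : IsFourConnected ↥(S : Subgroup G)) {a : G} (ha : orderOf a = 2) : θ a = ⊥ := by
  haveI := Fact.mk Nat.prime_two
  have hp : IsPGroup 2 (zpowers a) := IsPGroup.of_card (n := 1) (by rw [Nat.card_zpowers, ha, pow_one])
  obtain ⟨R, hR⟩ := hp.exists_le_sylow
  obtain ⟨g, hg⟩ := MulAction.exists_smul_eq G R S
  have hgS : g * a * g⁻¹ ∈ (S : Subgroup G) := by
    rw [← hg]
    exact ⟨a, hR (mem_zpowers a), rfl⟩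
  have h1 := h.eq_bot_of_conn_sylow hCK hO hES hE hE8 hconn hgS
    ((MulAut.conj g).orderOf_eq a ▸ ha)
  rw [h.equi] at h1
  exact (Subgroup.map_eq_bot_iff_of_injective _ (MulAut.conj g).injective).mp h1

/-- If the fours of `G` are connected the functor is trivial (no theorem CK needed). -/
theorem eq_bot_of_connected (hO : oddCore G = ⊥) (hconn : IsFourConnected G) {B : Subgroup G}
    (hB : IsElementaryAbelian 2 B) (hB8 : 8 ≤ Nat.card B) {a : G} (haB : a ∈ B) (ha1 : a ≠ 1) : θ a = ⊥ := by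
  haveI := Fact.mk Nat.prime_two
  obtain ⟨V, hVB, hV, hV4⟩ := TwoLocalSignalizer.exists_four (Signalizer.isPGroup_ea hB) fun hr => by
    have := hr ⊤ ⟨⟨fun x y => Subtype.ext (Subtype.ext (ea_comm hB (x : B).2 (y : B).2))⟩⟩
      fun x _ => Subtype.ext (by simpa using hB.2 (x : G) x.2)
    rw [Subgroup.card_top] at this
    omega
  have hstep : ∀ X Y : Subgroup G, IsKleinFour X → IsKleinFour Y → (∀ x ∈ X, ∀ y ∈ Y, x * y = y * x) →
      Wθ θ X = Wθ θ Y := by
    intro X Y hX hY hXY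
    obtain ⟨hXe, hX4⟩ := TwoLocalSignalizer.ea_of_klein hX
    obtain ⟨hYe, hY4⟩ := TwoLocalSignalizer.ea_of_klein hY
    by_cases hne : X = Y
    · rw [hne]
    have hC := TwoLocalSignalizer.ea_sup hXe hYe hXY
    have h8 : 8 ≤ Nat.card ↥(X ⊔ Y) := by
      refine TwoLocalSignalizer.eight_le_of_four_lt (Signalizer.isPGroup_ea hC)
        (lt_of_le_of_ne (hX4 ▸ Subgroup.card_le_of_le le_sup_left) fun e => hne ?_)
      have h1 := Subgroup.eq_of_le_of_card_ge (le_sup_left : X ≤ X ⊔ Y) (by omega)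
      exact (Subgroup.eq_of_le_of_card_ge (h1 ▸ le_sup_right : Y ≤ X) (by omega)).symm
    rw [h.Wθ_eq hC h8 le_sup_left hX4.ge, h.Wθ_eq hC h8 le_sup_right hY4.ge]
  have hall : ∀ Y : Subgroup G, IsKleinFour Y → Wθ θ V = Wθ θ Y := by
    intro Y hY
    have hr := hconn V Y (TwoLocalSignalizer.klein_of_ea hV hV4) hY
    induction hr with
    | refl => rfl
    | tail _ hst ih => exact (ih hst.1).trans (hstep _ _ hst.1 hst.2.1 hst.2.2)
  have hnorm : normalizer (Wθ θ V : Set G) = ⊤ := by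
    refine eq_top_iff.mpr fun g _ => Comp.mem_normalizer_of_maps fun y hy => ?_
    have hV' : IsKleinFour ↥(V.map (MulAut.conj g).toMonoidHom) := by
      refine TwoLocalSignalizer.klein_of_ea (SolvSF.ea_of_comm ?_ ?_) ?_
      · rintro _ ⟨x, hx, rfl⟩ _ ⟨z, hz, rfl⟩
        rw [← map_mul, ea_comm hV hx hz, map_mul]
      · rintro _ ⟨x, hx, rfl⟩
        rw [← map_pow, hV.2 x hx, map_one]
      · rw [Subgroup.card_map_of_injective (MulAut.conj g).injective, hV4]
    rw [hall _ hV']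
    have hle : Wθ θ V ≤ (Wθ θ (V.map (MulAut.conj g).toMonoidHom)).comap (MulAut.conj g).toMonoidHom := by
      refine iSup_le fun b => ?_
      rw [← Subgroup.map_le_iff_le_comap, ← h.equi]
      exact le_Wθ ⟨b, b.2.1, rfl⟩ fun e => b.2.2 (by simpa using e)
    exact hle hy
  obtain ⟨hodd, -, hc⟩ := h.closure_spec hB hB8
  haveI : (Wθ θ V).Normal := Subgroup.normalizer_eq_top_iff.mp hnorm
  have hW : Wθ θ V = ⊥ := le_bot_iff.mp (hO ▸ CfsgLib.le_oddCore (N := Wθ θ V)
    ((h.Wθ_eq hB hB8 hVB hV4.ge) ▸ hodd))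
  rw [← hc a haB ha1, ← h.Wθ_eq hB hB8 hVB hV4.ge, hW, bot_inf_eq]

end Sig

end CfsgLib.CoreKill
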