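import Cfsg.Agent.Lib.CoreKill.FromStruct
import Cfsg.Agent.Lib.CoreKill.Fail.Outcome

/-!
Theorem CK from the core of case (B).

Blueprint: `blueprint/bender/CoreKill.md`.
-/

set_option autoImplicit false

universe u

namespace CfsgLib.CoreKill

open Cfsg

/-- Theorem CK from balance and rigidity in case (B). -/
theorem ck_of_twinCore (h : ∀ (X : Type u) [Group X] [Finite X] (H : Subgroup X) (P : Sylow 2 X) (t : X),
    Local.Pt H P t → Local.TwinCore H P t) : CK.{u} :=
  ck_of_outcome fun _ _ _ _ _ W _ _ t _ _ _ P hPt => hPt.localOutcome (h _ _ P _ hPt)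

end CfsgLib.CoreKill
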