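import Cfsg.Agent.Lib.Bender.ExtZJ
import Cfsg.Agent.Lib.Bender.B1.RankOneEnd
import Cfsg.Agent.Lib.PLocal.ConstrainedLocal
import Cfsg.Agent.Lib.CharTwoEarly

/-!
Facts on an odd-order subgroup `W` used to finish the core theorem: primes of the Fitting subgroup.

Blueprint: `blueprint/bender/CoreKill.md` 5 (P).
-/

set_option autoImplicit false
set_option linter.unusedSectionVars false
set_option linter.style.haveILetI false

universe u

namespace CfsgLib.CoreKill

open Cfsg Subgroup CfsgLib.Bender.Ext CfsgLib.Bender.B1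

variable {G : Type u} [Group G] [Finite G]

/-- `O_{p'}(K)` of a subgroup, inside `G`. -/
def qOf (p : ℕ) (K : Subgroup G) : Subgroup G := (pPrimeCore p K).map K.subtype

theorem qOf_le (p : ℕ) (K : Subgroup G) : qOf p K ≤ K := map_subtype_le _

theorem normalizer_le_qOf (p : ℕ) (K : Subgroup G) :
    normalizer (K : Set G) ≤ normalizer (qOf p K : Set G) := by
  intro g hg
  let φ : MulAut K :=
    { toFun := fun c => ⟨g * c * g⁻¹, (Subgroup.mem_normalizer_iff.mp hg c).mp c.2⟩
      invFun := fun c => ⟨g⁻¹ * c * g, by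
        simpa using (Subgroup.mem_normalizer_iff.mp ((normalizer (K : Set G)).inv_mem hg) c).mp c.2⟩
      left_inv := fun c => Subtype.ext (by simp [mul_assoc])
      right_inv := fun c => Subtype.ext (by simp [mul_assoc])
      map_mul' := fun c d => Subtype.ext (by simp [mul_assoc]) }
  rw [Subgroup.mem_normalizer_iff_map_conj_eq, qOf, Subgroup.map_map]
  have h3 : (↑(MulAut.conj g) : G →* G).comp K.subtype = K.subtype.comp φ.toMonoidHom := by
    ext c
    rfl
  rw [h3, ← Subgroup.map_map, CfsgLib.pPrimeCore_map_equiv]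

theorem card_qOf_coprime (p : ℕ) (K : Subgroup G) : (Nat.card (qOf p K)).Coprime p := by
  rw [qOf, Subgroup.card_map_of_injective K.subtype_injective]
  exact CfsgLib.card_pPrimeCore_coprime p

theorem le_qOf {p : ℕ} {K N : Subgroup G} (hN : N ≤ K) (hn : K ≤ normalizer (N : Set G))
    (hc : (Nat.card N).Coprime p) : N ≤ qOf p K := fun x hx => by
  haveI : (N.subgroupOf K).Normal := (normal_subgroupOf_iff_le_normalizer hN).mpr hn
  exact ⟨⟨x, hN hx⟩, CfsgLib.le_pPrimeCore (N := N.subgroupOf K)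
    (by rwa [Nat.card_congr (subgroupOfEquivOfLe hN).toEquiv]) hx, rfl⟩

theorem pCoreOf_le_qOf {r s : ℕ} (hr : r.Prime) (hs : s.Prime) (h : r ≠ s) (K : Subgroup G) :
    pCoreOf r K ≤ qOf s K :=
  Subgroup.map_mono (CfsgLib.pCore_le_pPrimeCore_of_ne hs hr (Ne.symm h))

theorem isSolvable_of_le {A B : Subgroup G} (h : A ≤ B) [Group.IsSolvable B] : Group.IsSolvable A :=
  Group.isSolvable_of_isSolvable_injective (f := Subgroup.inclusion h) (Subgroup.inclusion_injective _)

/-- A solvable subgroup with trivial cores is trivial. -/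
theorem eq_bot_of_cores {K : Subgroup G} [Group.IsSolvable K] (h : ∀ r : ℕ, r.Prime → pCoreOf r K = ⊥) : K = ⊥ := by
  have hF : fittingSubgroup K = ⊥ := by
    rw [CfsgLib.fittingSubgroup_eq_iSup_pCore, iSup_eq_bot]
    exact fun p => (Subgroup.map_eq_bot_iff_of_injective _ K.subtype_injective).mp (h p p.2)
  refine (Subgroup.eq_bot_iff_forall _).mpr fun x hx => ?_
  have h1 : (⟨x, hx⟩ : K) ∈ fittingSubgroup K := CfsgLib.centralizer_fitting_le (by
    rw [hF]
    intro y hy
    rw [SetLike.mem_coe, Subgroup.mem_bot] at hy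
    rw [hy, one_mul, mul_one])
  rw [hF, Subgroup.mem_bot] at h1
  exact congrArg Subtype.val h1

/-- Normal subgroups of `W` with trivial intersection commute. -/
theorem commute_of_inf_bot {W A B : Subgroup G} (hA : A ≤ W) (hB : B ≤ W) (hWA : W ≤ normalizer (A : Set G))
    (hWB : W ≤ normalizer (B : Set G)) (h : A ⊓ B = ⊥) {a b : G} (ha : a ∈ A) (hb : b ∈ B) : a * b = b * a := by
  have h1 : a * b * a⁻¹ * b⁻¹ ∈ A := by
    rw [show a * b * a⁻¹ * b⁻¹ = a * (b * a⁻¹ * b⁻¹) by group]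
    exact mul_mem ha ((Subgroup.mem_normalizer_iff.mp (hWA (hB hb)) _).mp (inv_mem ha))
  have h2 : a * b * a⁻¹ * b⁻¹ ∈ B := mul_mem ((Subgroup.mem_normalizer_iff.mp (hWB (hA ha)) _).mp hb) (inv_mem hb)
  have h3 : a * b * a⁻¹ * b⁻¹ ∈ A ⊓ B := ⟨h1, h2⟩
  rw [h, Subgroup.mem_bot, mul_inv_eq_one, mul_inv_eq_iff_eq_mul] at h3
  exact h3

variable {W D : Subgroup G}

/-- The part of `W` seen by the prime `r` among the primes of `F(W)`. -/
def part (W : Subgroup G) (r : ℕ) : Subgroup G :=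
  W ⊓ ⨅ (s : ℕ) (_ : s.Prime) (_ : s ≠ r) (_ : pCoreOf s W ≠ ⊥), qOf s W

theorem mem_part {r : ℕ} {x : G} :
    x ∈ part W r ↔ x ∈ W ∧ ∀ s : ℕ, s.Prime → s ≠ r → pCoreOf s W ≠ ⊥ → x ∈ qOf s W := by
  simp [part, Subgroup.mem_iInf]

theorem le_normalizer_part (W : Subgroup G) (r : ℕ) : W ≤ normalizer (part W r : Set G) := by
  intro g hg
  refine Subgroup.mem_normalizer_iff.mpr fun x => ?_
  rw [mem_part, mem_part]
  refine and_congr (Subgroup.mem_normalizer_iff.mp (Subgroup.le_normalizer hg) x) ?_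
  refine forall_congr' fun s => imp_congr_right fun _ => imp_congr_right fun _ => imp_congr_right fun _ => ?_
  exact Subgroup.mem_normalizer_iff.mp ((Subgroup.le_normalizer.trans (normalizer_le_qOf s W)) hg) x

theorem part_inf_eq_bot [Group.IsSolvable W] {r s : ℕ} (hrs : r ≠ s) : part W r ⊓ part W s = ⊥ := by
  set I := part W r ⊓ part W s
  have hIW : I ≤ W := fun x hx => (mem_part.mp hx.1).1
  have hn : W ≤ normalizer (I : Set G) := fun g hg => Subgroup.mem_normalizer_iff.mpr fun x => by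
    simp only [I, Subgroup.mem_inf]
    exact and_congr (Subgroup.mem_normalizer_iff.mp (le_normalizer_part W r hg) x)
      (Subgroup.mem_normalizer_iff.mp (le_normalizer_part W s hg) x)
  haveI : Group.IsSolvable I := isSolvable_of_le hIW
  refine eq_bot_of_cores fun q hq => ?_
  haveI := Fact.mk hq
  have h1 : pCoreOf q I ≤ pCoreOf q W :=
    le_pCoreOf' ((pCoreOf_le q I).trans hIW) (hn.trans (normalizer_le_pCoreOf q I))
      (isPGroup_pCoreOf q I)
  by_cases hbot : pCoreOf q W = ⊥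
  · exact le_bot_iff.mp (h1.trans hbot.le)
  refine (Subgroup.eq_bot_iff_forall _).mpr fun x hx => ?_
  have hxI := pCoreOf_le q I hx
  have hxq : x ∈ qOf q W := by
    rcases eq_or_ne q r with rfl | h
    · exact (mem_part.mp hxI.2).2 q hq hrs hbot
    · exact (mem_part.mp hxI.1).2 q hq h hbot
  obtain ⟨k, hk⟩ := IsPGroup.iff_card.mp (isPGroup_pCoreOf q W)
  exact orderOf_eq_one_iff.mp (Nat.eq_one_of_dvd_coprimes
    ((card_qOf_coprime q W).pow_right k) (Subgroup.orderOf_dvd_natCard _ hxq)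
    (hk ▸ Subgroup.orderOf_dvd_natCard _ (h1 hx)))

theorem pCoreOf_le_part {r : ℕ} (hr : r.Prime) : pCoreOf r W ≤ part W r := fun _ hx =>
  mem_part.mpr ⟨pCoreOf_le r W hx, fun _ hs hsr _ => pCoreOf_le_qOf hr hs (Ne.symm hsr) W hx⟩

theorem qOf_le_of_selfNorm [Group.IsSolvable W] (hDW : D ≤ W) {s : ℕ} (hs : s.Prime)
    (hsn : W ⊓ normalizer (pCoreOf s D : Set G) = D) : qOf s D ≤ qOf s W := by
  haveI := Fact.mk hs
  set R : Subgroup W := (pCoreOf s D).subgroupOf W
  have hR : IsPGroup s R := (isPGroup_pCoreOf s D).comap_of_injective W.subtype W.subtype_injective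
  haveI : Group.IsSolvable (W ⧸ pPrimeCore s W) :=
    Group.isSolvable_of_surjective (f := QuotientGroup.mk' _) (QuotientGroup.mk'_surjective _)
  have key := CfsgLib.PLocal.pPrimeCore_normalizer
    (CfsgLib.centralizer_pCore_le hs (CfsgLib.pPrimeCore_quotient_eq_bot s)) hR
  intro x hx
  have hxD := qOf_le s D hx
  have hmem : ∀ d : G, d ∈ D → ∃ hd : d ∈ W, (⟨d, hd⟩ : W) ∈ normalizer (R : Set W) := fun d hd =>
    ⟨hDW hd, Subgroup.mem_normalizer_iff.mpr fun y => by
      simpa [R, Subgroup.mem_subgroupOf] using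
        Subgroup.mem_normalizer_iff.mp ((Subgroup.le_normalizer.trans (normalizer_le_pCoreOf s D)) hd) (y : G)⟩
  have hback : ∀ y : W, y ∈ normalizer (R : Set W) → (y : G) ∈ D := fun y hy => by
    rw [← hsn]
    refine ⟨y.2, Subgroup.mem_normalizer_fintype fun z hz => ?_⟩
    have hzW : z ∈ W := hDW (pCoreOf_le s D hz)
    exact (Subgroup.mem_normalizer_iff.mp hy ⟨z, hzW⟩).mp hz
  -- the normaliser inside `W` is `D`
  let e : ↥(normalizer (R : Set W)) ≃* D :=
    { toFun := fun y => ⟨((y : W) : G), hback y y.2⟩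
      invFun := fun d => ⟨⟨d, (hmem d d.2).1⟩, (hmem d d.2).2⟩
      left_inv := fun _ => rfl
      right_inv := fun _ => rfl
      map_mul' := fun _ _ => rfl }
  obtain ⟨d, hd, rfl⟩ := hx
  rw [← CfsgLib.pPrimeCore_map_equiv s e] at hd
  obtain ⟨y, hy, rfl⟩ := hd
  have h1 : (y : W) ∈ pPrimeCore s W := (key.le ⟨y, hy, rfl⟩).1
  exact ⟨y, h1, rfl⟩

/-- If every core of `W` meets `D` and `D` is the normaliser in `W` of each of its nontrivial cores, then `F(W)` is
a group of prime power order or some core of `D` is the core of `W`. -/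
theorem pCoreOf_eq [Group.IsSolvable W] (hDW : D ≤ W)
    (hmeet : ∀ r : ℕ, r.Prime → pCoreOf r W ≠ ⊥ → pCoreOf r D ≠ ⊥)
    (hsn : ∀ r : ℕ, r.Prime → pCoreOf r D ≠ ⊥ → W ⊓ normalizer (pCoreOf r D : Set G) = D)
    {r s : ℕ} (hr : r.Prime) (hs : s.Prime) (hrs : r ≠ s) (hsW : pCoreOf s W ≠ ⊥) :
    pCoreOf r D = pCoreOf r W := by
  haveI := Fact.mk hr
  have hcore : ∀ q : ℕ, q.Prime → pCoreOf q D ≤ part W q := fun q hq x hx =>
    mem_part.mpr ⟨hDW (pCoreOf_le q D hx), fun u hu huq huW =>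
      qOf_le_of_selfNorm hDW hu (hsn u hu (hmeet u hu huW)) (pCoreOf_le_qOf hq hu (Ne.symm huq) D hx)⟩
  have hle : part W r ≤ D := fun x hx => by
    rw [← hsn s hs (hmeet s hs hsW)]
    refine ⟨(mem_part.mp hx).1, Subgroup.mem_normalizer_fintype fun z hz => ?_⟩
    have hc := commute_of_inf_bot (fun y hy => (mem_part.mp hy).1) (fun y hy => (mem_part.mp hy).1)
      (le_normalizer_part W r) (le_normalizer_part W s) (part_inf_eq_bot hrs) hx (hcore s hs hz)
    simpa [hc] using hz
  have hPW : part W r ≤ W := fun x hx => (mem_part.mp hx).1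
  refine le_antisymm ?_ ?_
  · refine le_trans ?_ (le_pCoreOf'
      ((pCoreOf_le r (part W r)).trans hPW)
      ((le_normalizer_part W r).trans (normalizer_le_pCoreOf r _)) (isPGroup_pCoreOf r _))
    exact le_pCoreOf' (hcore r hr)
      (hle.trans (Subgroup.le_normalizer.trans (normalizer_le_pCoreOf r D))) (isPGroup_pCoreOf r D)
  · exact le_pCoreOf' ((pCoreOf_le_part hr).trans hle)
      (hDW.trans (Subgroup.le_normalizer.trans (normalizer_le_pCoreOf r W))) (isPGroup_pCoreOf r W)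

end CfsgLib.CoreKill
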