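import Cfsg.Agent.Lib.CoreKill.OddPart
import Cfsg.Agent.Lib.SolvSF.Minimal

/-!
The end of the core theorem: all involutions of `S` bad and conjugate in `M = N(W)`, with `θ = O(C(·))`.

`FinishHyp` is what the Bender analysis of the centralisers must deliver.

Blueprint: `blueprint/bender/CoreKill.md` 5.
-/

set_option autoImplicit false
set_option linter.unusedSectionVars false
set_option linter.style.haveILetI false

universe u

namespace CfsgLib.CoreKill

open Cfsg Subgroup CfsgLib.Bender.Ext CfsgLib.Bender.B1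
open scoped Pointwise

variable {G : Type u} [Group G] [Finite G]

/-- The hypotheses of the last step. -/
structure FinishHyp (S : Sylow 2 G) (E W : Subgroup G) (t : G) : Prop where
  coreFree : qOf 2 (⊤ : Subgroup G) = ⊥
  le : E ≤ (S : Subgroup G)
  ea : IsElementaryAbelian 2 E
  eight : 8 ≤ Nat.card E
  odd : Odd (Nat.card W)
  ne : W ≠ ⊥
  inv : (S : Subgroup G) ≤ normalizer (W : Set G)
  cent : ∀ v ∈ (S : Subgroup G), orderOf v = 2 → W ⊓ centralizer ({v} : Set G) = centralizerPPrimeCore 2 v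
  bad : ∀ v ∈ (S : Subgroup G), orderOf v = 2 → ¬ centralizer ({v} : Set G) ≤ normalizer (W : Set G)
  conj : ∀ u ∈ (S : Subgroup G), orderOf u = 2 → ∀ v ∈ (S : Subgroup G), orderOf v = 2 →
    ∃ m ∈ normalizer (W : Set G), m * u * m⁻¹ = v
  ind : ∀ J : Subgroup G, (S : Subgroup G) ≤ J → J ≠ ⊤ → W ⊓ J ≤ qOf 2 J
  kill : ∀ v ∈ (S : Subgroup G), orderOf v = 2 → v ≠ t →
    ∀ A : Subgroup G, Odd (Nat.card A) → centralizerPPrimeCore 2 v ≤ A → A ≤ centralizer ({v} : Set G) →
      centralizer ({v} : Set G) ⊓ centralizer ({t} : Set G) ≤ normalizer (A : Set G) →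
      A ⊓ centralizer ({t} : Set G) ≤ centralizerPPrimeCore 2 v → A ≤ centralizerPPrimeCore 2 v

theorem odd_qOf (K : Subgroup G) : Odd (Nat.card (qOf 2 K)) :=
  Nat.coprime_two_right.mp (card_qOf_coprime 2 K)

theorem odd_of_le {A B : Subgroup G} (h : A ≤ B) (hB : Odd (Nat.card B)) : Odd (Nat.card A) :=
  hB.of_dvd_nat (Subgroup.card_dvd_of_le h)

theorem odd_sup {Y X : Subgroup G} (hn : Y ≤ normalizer (X : Set G)) (hY : Odd (Nat.card Y))
    (hX : Odd (Nat.card X)) : Odd (Nat.card ↥(Y ⊔ X)) := by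
  rw [sup_comm]
  exact (hY.mul hX).of_dvd_nat (Signalizer.card_sup_dvd hn)

theorem mul_self_of_orderOf {v : G} (hv : orderOf v = 2) : v * v = 1 := by
  rw [← pow_two, ← hv, pow_orderOf_eq_one]

theorem orderOf_eq_two_of_ea {A : Subgroup G} (hA : IsElementaryAbelian 2 A) {a : G} (ha : a ∈ A) (ha1 : a ≠ 1) :
    orderOf a = 2 := by
  haveI := Fact.mk Nat.prime_two
  exact orderOf_eq_prime (hA.2 a ha) ha1

theorem conj_mem_centralizer {j t a : G} (hj : j * t = t * j) (ha : a * t = t * a) :
    j * a * j⁻¹ * t = t * (j * a * j⁻¹) := by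
  have h1 : j⁻¹ * t = t * j⁻¹ := (Commute.inv_left (show Commute j t from hj)).eq
  calc j * a * j⁻¹ * t = j * (a * (j⁻¹ * t)) := by group
    _ = j * (a * t) * j⁻¹ := by rw [h1]; group
    _ = j * (t * a) * j⁻¹ := by rw [ha]
    _ = (j * t) * a * j⁻¹ := by group
    _ = _ := by rw [hj]; group

variable {S : Sylow 2 G} {E W : Subgroup G}

namespace FinishHyp

variable {t : G} (h : FinishHyp S E W t) (ht : orderOf t = 2) (htS : t ∈ (S : Subgroup G))
  (hcen : ∀ s ∈ (S : Subgroup G), s * t = t * s)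

include h

theorem solvable : Group.IsSolvable W := Cfsg.Agent.S0205.result h.odd

theorem core_le {v : G} (hvS : v ∈ (S : Subgroup G)) (hv : orderOf v = 2) : centralizerPPrimeCore 2 v ≤ W :=
  (h.cent v hvS hv).ge.trans inf_le_left

theorem core_inf_le {u v : G} (huS : u ∈ (S : Subgroup G)) (hu : orderOf u = 2) (hvS : v ∈ (S : Subgroup G))
    (hv : orderOf v = 2) : centralizerPPrimeCore 2 u ⊓ centralizer ({v} : Set G) ≤ centralizerPPrimeCore 2 v :=
  (inf_le_inf_right _ (h.core_le huS hu)).trans (h.cent v hvS hv).le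

theorem norm_ne_top {K : Subgroup G} (hK : Odd (Nat.card K)) (hne : K ≠ ⊥) : normalizer (K : Set G) ≠ ⊤ :=
  fun e => hne (le_bot_iff.mp (h.coreFree ▸ le_qOf le_top (by rw [e]) (Nat.coprime_two_right.mpr hK)))

include htS in
/-- A nontrivial subgroup of `W` normalised by `N(W)` meets the centraliser of `t`. -/
theorem meet {O : Subgroup G} (hO : O ≤ W) (hn : normalizer (W : Set G) ≤ normalizer (O : Set G)) (hne : O ≠ ⊥)
    (ht : orderOf t = 2) : O ⊓ centralizer ({t} : Set G) ≠ ⊥ := by
  intro hbot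
  haveI := Fact.mk Nat.prime_two
  have hfix : ∀ v ∈ E, v ≠ 1 → ∀ y ∈ O, y * v = v * y → y = 1 := by
    intro v hv hv1 y hy hyv
    obtain ⟨m, hm, hmv⟩ := h.conj v (h.le hv) (orderOf_eq_two_of_ea h.ea hv hv1) t htS ht
    have h1 : m * y * m⁻¹ ∈ O ⊓ centralizer ({t} : Set G) := by
      refine ⟨(Subgroup.mem_normalizer_iff.mp (hn hm) y).mp hy, Subgroup.mem_centralizer_singleton_iff.mpr ?_⟩
      rw [← hmv]
      calc m * y * m⁻¹ * (m * v * m⁻¹) = m * (y * v) * m⁻¹ := by group
        _ = m * (v * y) * m⁻¹ := by rw [hyv]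
        _ = _ := by group
    rw [hbot, Subgroup.mem_bot, mul_inv_eq_one, mul_eq_left] at h1
    exact h1
  have hOE : E ≤ normalizer (O : Set G) := h.le.trans (h.inv.trans hn)
  refine hne (le_bot_iff.mp (SolvSF.gen_le h.ea (by have := h.eight; omega) ?_ hOE fun a ha ha1 y hy =>
    Subgroup.mem_bot.mpr (hfix a ha ha1 y hy.1 (Subgroup.mem_centralizer_singleton_iff.mp hy.2))))
  exact (odd_of_le hO h.odd).not_two_dvd_nat

include htS in
theorem core_ne (ht : orderOf t = 2) : centralizerPPrimeCore 2 t ≠ ⊥ := by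
  rw [← h.cent t htS ht]
  exact h.meet htS le_rfl le_rfl h.ne ht

/-- `J` covers `C(t)` modulo its core. -/
def Covers (t : G) (J : Subgroup G) : Prop :=
  ∀ x ∈ centralizer ({t} : Set G), ∃ j ∈ J, ∃ o ∈ centralizerPPrimeCore 2 t, j * t = t * j ∧ x = j * o

include ht htS hcen in
/-- Covering for pairs of commuting involutions. -/
theorem covers_pair {J : Subgroup G} (hSJ : (S : Subgroup G) ≤ J) (hc : Covers t J) {v : G}
    (hvS : v ∈ (S : Subgroup G)) (hv : orderOf v = 2) {x : G} (hxv : x * v = v * x) (hxt : x * t = t * x) :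
    ∃ j ∈ J, ∃ o ∈ centralizerPPrimeCore 2 v, j * t = t * j ∧ j * v = v * j ∧ x = j * o := by
  obtain ⟨j, hj, o, ho, hjt, rfl⟩ := hc x (Subgroup.mem_centralizer_singleton_iff.mpr hxt)
  have hvv := mul_self_of_orderOf hv
  have hvi : v⁻¹ = v := inv_eq_of_mul_eq_one_right hvv
  have hvt : v * t = t * v := hcen v hvS
  have hvo : v * o * v ∈ centralizerPPrimeCore 2 t := by
    have := CharTwoEarly.conj_mem_core hvt ho
    rwa [hvi] at this
  -- `w = j⁻¹ (v j v)` lies in the core of `t` and in `J`, and `v` inverts it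
  set w := j⁻¹ * (v * j * v) with hw
  have hjo : v * j * v * (v * o * v) = j * o := by
    calc v * j * v * (v * o * v) = v * j * (v * v) * o * v := by group
      _ = v * (j * o * v) := by rw [hvv]; group
      _ = v * (v * (j * o)) := by rw [hxv]
      _ = j * o := by rw [← mul_assoc, hvv, one_mul]
  have hw1 : w = o * (v * o * v)⁻¹ := by
    rw [hw, eq_mul_inv_iff_mul_eq, mul_assoc, hjo, inv_mul_cancel_left]
  have hwK : w ∈ centralizerPPrimeCore 2 t ⊓ J := by
    refine Subgroup.mem_inf.mpr ⟨hw1 ▸ mul_mem ho (inv_mem hvo), mul_mem (inv_mem hj) ?_⟩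
    exact mul_mem (mul_mem (hSJ hvS) hj) (hSJ hvS)
  have hodd : Odd (Nat.card (zpowers w)) :=
    odd_of_le (Subgroup.zpowers_le.mpr (Subgroup.mem_inf.mp hwK).1) (CharTwoEarly.odd_core t)
  obtain ⟨r, hr, hrw⟩ := CharTwoEarly.exists_sq hodd (mem_zpowers w)
  have hinv : ∀ y ∈ zpowers w, v * y * v = y⁻¹ := by
    intro y hy
    obtain ⟨i, rfl⟩ := mem_zpowers_iff.mp hy
    have h1 : v * w * v = w⁻¹ := by
      rw [hw]
      calc v * (j⁻¹ * (v * j * v)) * v = v * j⁻¹ * v * j * (v * v) := by group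
        _ = v⁻¹ * j⁻¹ * v⁻¹ * j := by rw [hvv, hvi, mul_one]
        _ = _ := by group
    have h2 := congrArg (fun z => z ^ i) h1
    rw [inv_zpow] at h2
    rw [← h2]
    conv_lhs => rw [show v * w ^ i * v = v * w ^ i * v⁻¹ by rw [hvi]]
    conv_rhs => rw [show v * w * v = v * w * v⁻¹ by rw [hvi]]
    rw [conj_zpow]
  have hrt : r * t = t * r := by
    have := (Subgroup.zpowers_le.mpr (Subgroup.map_subtype_le _ (Subgroup.mem_inf.mp hwK).1)) hr
    exact Subgroup.mem_centralizer_singleton_iff.mp this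
  have hjrt : j * r * t = t * (j * r) := ((show Commute j t from hjt).mul_left (show Commute r t from hrt)).eq
  have hjrv : j * r * v = v * (j * r) := by
    have h1 : v * j * v = j * w := by rw [hw, mul_inv_cancel_left]
    have h2 : v * (j * r) * v = j * r := by
      calc v * (j * r) * v = v * j * (v * v) * r * v := by rw [hvv]; group
        _ = (v * j * v) * (v * r * v) := by group
        _ = j * r := by rw [h1, hinv r hr, ← hrw]; group
    calc j * r * v = v * (j * r) * v * v := by rw [h2]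
      _ = _ := by rw [mul_assoc, hvv, mul_one]
  refine ⟨j * r, mul_mem hj ((Subgroup.zpowers_le.mpr (Subgroup.mem_inf.mp hwK).2) hr), (j * r)⁻¹ * (j * o), ?_, hjrt, hjrv, by group⟩
  refine h.core_inf_le htS ht hvS hv ⟨?_, Subgroup.mem_centralizer_singleton_iff.mpr ?_⟩
  · rw [show (j * r)⁻¹ * (j * o) = r⁻¹ * o by group]
    exact Subgroup.mul_mem _ (Subgroup.inv_mem _ ((Subgroup.zpowers_le.mpr (Subgroup.mem_inf.mp hwK).1) hr)) ho
  · exact ((show Commute (j * r) v from hjrv).inv_left.mul_left (show Commute (j * o) v from hxv)).eq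

include ht htS hcen in
/-- `(J)`: a proper subgroup over `S` covering `C(t)` has core `W ⊓ J`. -/
theorem core_covering {J : Subgroup G} (hSJ : (S : Subgroup G) ≤ J) (hne : J ≠ ⊤) (hc : Covers t J) :
    qOf 2 J = W ⊓ J := by
  haveI := Fact.mk Nat.prime_two
  set O := qOf 2 J
  have hOJ : J ≤ normalizer (O : Set G) := Subgroup.le_normalizer.trans (normalizer_le_qOf 2 J)
  refine le_antisymm (le_inf ?_ (qOf_le 2 J)) (h.ind J hSJ hne)
  -- `C_O(t)` is in the core of `t`
  have hOt : O ⊓ centralizer ({t} : Set G) ≤ centralizerPPrimeCore 2 t := by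
    set B := (O ⊓ centralizer ({t} : Set G)) ⊔ centralizerPPrimeCore 2 t
    have hθn : centralizer ({t} : Set G) ≤ normalizer (centralizerPPrimeCore 2 t : Set G) := fun g hg =>
      Subgroup.mem_normalizer_fintype fun y hy =>
        CharTwoEarly.conj_mem_core (Subgroup.mem_centralizer_singleton_iff.mp hg) hy
    have hBn : centralizer ({t} : Set G) ≤ normalizer (B : Set G) := by
      intro x hx
      obtain ⟨j, hj, o, ho, hjt, rfl⟩ := hc x hx
      refine mul_mem ?_ (Subgroup.le_normalizer (mem_sup_right ho))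
      refine Comp.mem_normalizer_of_maps fun y hy => ?_
      have hle : B ≤ B.comap (MulAut.conj j).toMonoidHom := sup_le (fun a ha =>
        Subgroup.mem_comap.mpr (mem_sup_left ⟨(Subgroup.mem_normalizer_iff.mp (hOJ hj) a).mp ha.1,
          Subgroup.mem_centralizer_singleton_iff.mpr
            (conj_mem_centralizer hjt (Subgroup.mem_centralizer_singleton_iff.mp ha.2))⟩)) fun a ha =>
        Subgroup.mem_comap.mpr (mem_sup_right (CharTwoEarly.conj_mem_core hjt ha))
      exact hle hy
    have hBC : B ≤ centralizer ({t} : Set G) := sup_le inf_le_right (Subgroup.map_subtype_le _)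
    have hBodd : Odd (Nat.card B) :=
      odd_sup (inf_le_right.trans hθn) (odd_of_le inf_le_left (odd_qOf J)) (CharTwoEarly.odd_core t)
    exact le_sup_left.trans (le_qOf hBC hBn (Nat.coprime_two_right.mpr hBodd))
  refine SolvSF.gen_le h.ea (by have := h.eight; omega) (odd_qOf J).not_two_dvd_nat
    ((h.le.trans hSJ).trans hOJ) fun v hvE hv1 => ?_
  have hvS := h.le hvE
  have hv := orderOf_eq_two_of_ea h.ea hvE hv1
  refine le_trans ?_ (h.core_le hvS hv)
  by_cases hvt : t = v
  · exact hvt ▸ hOt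
  set θ := centralizerPPrimeCore 2 v
  set A := (O ⊓ centralizer ({v} : Set G)) ⊔ θ
  have hθn : centralizer ({v} : Set G) ≤ normalizer (θ : Set G) := fun g hg =>
    Subgroup.mem_normalizer_fintype fun y hy =>
      CharTwoEarly.conj_mem_core (Subgroup.mem_centralizer_singleton_iff.mp hg) hy
  refine le_sup_left.trans (h.kill v hvS hv (Ne.symm hvt) A ?_ le_sup_right
    (sup_le inf_le_right (Subgroup.map_subtype_le _)) ?_ ?_)
  · exact odd_sup (inf_le_right.trans hθn) (odd_of_le inf_le_left (odd_qOf J)) (CharTwoEarly.odd_core v)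
  · rintro x ⟨hxv, hxt⟩
    obtain ⟨j, hj, o, ho, -, hjv, rfl⟩ := h.covers_pair ht htS hcen hSJ hc hvS hv
      (Subgroup.mem_centralizer_singleton_iff.mp hxv) (Subgroup.mem_centralizer_singleton_iff.mp hxt)
    refine mul_mem ?_ (Subgroup.le_normalizer (mem_sup_right ho))
    refine Comp.mem_normalizer_of_maps fun y hy => ?_
    have hle : A ≤ A.comap (MulAut.conj j).toMonoidHom := sup_le (fun a ha =>
      Subgroup.mem_comap.mpr (mem_sup_left ⟨(Subgroup.mem_normalizer_iff.mp (hOJ hj) a).mp ha.1,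
        Subgroup.mem_centralizer_singleton_iff.mpr
          (conj_mem_centralizer hjv (Subgroup.mem_centralizer_singleton_iff.mp ha.2))⟩)) fun a ha =>
      Subgroup.mem_comap.mpr (mem_sup_right (CharTwoEarly.conj_mem_core hjv ha))
    exact hle hy
  · -- fixed points of `t` on `A`
    rintro a ⟨haA, hat⟩
    have hat' := Subgroup.mem_centralizer_singleton_iff.mp hat
    obtain ⟨c, hc', o, ho, rfl⟩ : ∃ c ∈ O ⊓ centralizer ({v} : Set G), ∃ o ∈ θ, a = c * o := by
      have h2 : ((A : Subgroup G) : Set G) =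
          ((O ⊓ centralizer ({v} : Set G) : Subgroup G) : Set G) * ((θ : Subgroup G) : Set G) :=
        Subgroup.coe_mul_of_left_le_normalizer_right _ _ (inf_le_right.trans hθn)
      obtain ⟨c, hc, o, ho, e⟩ := Set.mem_mul.mp (h2 ▸ haA)
      exact ⟨c, hc, o, ho, e.symm⟩
    have htt := mul_self_of_orderOf ht
    have hti : t⁻¹ = t := inv_eq_of_mul_eq_one_right htt
    have htv : t * v = v * t := (hcen v hvS).symm
    have hto : t * o * t ∈ θ := by
      have := CharTwoEarly.conj_mem_core htv ho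
      rwa [hti] at this
    have htc : t * c * t ∈ O ⊓ centralizer ({v} : Set G) := by
      constructor
      · simpa [hti] using (Subgroup.mem_normalizer_iff.mp (hOJ (hSJ htS)) c).mp hc'.1
      · refine Subgroup.mem_centralizer_singleton_iff.mpr ?_
        simpa [hti] using conj_mem_centralizer htv (Subgroup.mem_centralizer_singleton_iff.mp hc'.2)
    -- `c⁻¹ (t c t)` is in the core and inverted by `t`
    set w := c⁻¹ * (t * c * t)
    have hcto : t * c * t * (t * o * t) = c * o := by
      calc t * c * t * (t * o * t) = t * c * (t * t) * o * t := by group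
        _ = t * (c * o * t) := by rw [htt]; group
        _ = t * (t * (c * o)) := by rw [hat']
        _ = c * o := by rw [← mul_assoc, htt, one_mul]
    have hwK : w ∈ θ ⊓ O := by
      refine Subgroup.mem_inf.mpr ⟨?_, mul_mem (inv_mem (Subgroup.mem_inf.mp hc').1) (Subgroup.mem_inf.mp htc).1⟩
      have : w = o * (t * o * t)⁻¹ := by
        rw [eq_mul_inv_iff_mul_eq, show w = c⁻¹ * (t * c * t) from rfl, mul_assoc, hcto, inv_mul_cancel_left]
      exact this ▸ mul_mem ho (inv_mem hto)
    obtain ⟨r, hr, hrw⟩ := CharTwoEarly.exists_sq (odd_of_le (Subgroup.zpowers_le.mpr (Subgroup.mem_inf.mp hwK).1)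
      (CharTwoEarly.odd_core v)) (mem_zpowers w)
    have htr : t * r * t = r⁻¹ := by
      obtain ⟨i, rfl⟩ := mem_zpowers_iff.mp hr
      have h1 : t * w * t = w⁻¹ := by
        calc t * (c⁻¹ * (t * c * t)) * t = t * c⁻¹ * t * c * (t * t) := by group
          _ = t⁻¹ * c⁻¹ * t⁻¹ * c := by rw [htt, hti, mul_one]
          _ = w⁻¹ := by simp only [w]; group
      rw [show t * w ^ i * t = t * w ^ i * t⁻¹ by rw [hti], ← conj_zpow, hti, h1, inv_zpow]
    have hcr : t * (c * r) * t = c * r := by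
      calc t * (c * r) * t = t * c * (t * t) * r * t := by rw [htt]; group
        _ = (t * c * t) * (t * r * t) := by group
        _ = c * r := by rw [show t * c * t = c * w by simp only [w]; group, htr, ← hrw]; group
    have hcrt : c * r * t = t * (c * r) := by
      calc c * r * t = t * (c * r) * t * t := by rw [hcr]
        _ = _ := by rw [mul_assoc, htt, mul_one]
    have h1 : c * r ∈ centralizerPPrimeCore 2 t := hOt
      ⟨mul_mem hc'.1 ((Subgroup.zpowers_le.mpr (Subgroup.mem_inf.mp hwK).2) hr), Subgroup.mem_centralizer_singleton_iff.mpr hcrt⟩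
    have hrθ := (Subgroup.zpowers_le.mpr (Subgroup.mem_inf.mp hwK).1) hr
    have h2 : c * r ∈ θ := h.core_inf_le htS ht hvS hv ⟨h1, mul_mem hc'.2 (Subgroup.map_subtype_le _ hrθ)⟩
    have h3 : c ∈ θ := by simpa using mul_mem h2 (inv_mem hrθ)
    exact mul_mem h3 ho

include ht htS hcen in
/-- **The contradiction.** -/
theorem false : False := by
  classical
  haveI := h.solvable
  have hθne := h.core_ne htS ht
  have hSC : (S : Subgroup G) ≤ centralizer ({t} : Set G) := fun s hs =>
    Subgroup.mem_centralizer_singleton_iff.mpr (hcen s hs)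
  have hCne : centralizer ({t} : Set G) ≠ ⊤ := fun e => h.norm_ne_top (CharTwoEarly.odd_core t) hθne
    (eq_top_iff.mpr fun g _ => Subgroup.mem_normalizer_fintype fun y hy => CharTwoEarly.conj_mem_core
      (Subgroup.mem_centralizer_singleton_iff.mp (e.symm ▸ Subgroup.mem_top g)) hy)
  have hθW := h.core_le htS ht
  -- no covering subgroup normalises `W`
  have hnoW : ∀ J : Subgroup G, Covers t J → ¬ J ≤ normalizer (W : Set G) := fun J hc hle =>
    h.bad t htS ht fun x hx => by
      obtain ⟨j, hj, o, ho, -, rfl⟩ := hc x hx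
      exact mul_mem (hle hj) (Subgroup.le_normalizer (hθW ho))
  have hnorm : ∀ J : Subgroup G, (S : Subgroup G) ≤ J → J ≠ ⊤ → Covers t J →
      J ≤ normalizer ((W ⊓ J : Subgroup G) : Set G) := fun J hS hne hc => by
    rw [← h.core_covering ht htS hcen hS hne hc]
    exact Subgroup.le_normalizer.trans (normalizer_le_qOf 2 J)
  -- a maximal subgroup over `C(t)`
  obtain ⟨H, hH, hXH⟩ := (IsCoatomic.eq_top_or_exists_le_coatom (centralizer ({t} : Set G))).resolve_left hCne
  have hHc : Covers t H := fun x hx => ⟨x, hXH hx, 1, one_mem _,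
    Subgroup.mem_centralizer_singleton_iff.mp hx, (mul_one x).symm⟩
  set D := W ⊓ H
  have hθD : centralizerPPrimeCore 2 t ≤ D := le_inf hθW ((Subgroup.map_subtype_le _).trans hXH)
  have hDodd : Odd (Nat.card D) := odd_of_le inf_le_left h.odd
  have hNmax : ∀ K : Subgroup G, K ≤ D → K ≠ ⊥ → H ≤ normalizer (K : Set G) → normalizer (K : Set G) = H :=
    fun K hK hne hle => (eq_or_lt_of_le hle).elim Eq.symm fun hlt =>
      absurd (hH.2 _ hlt) (h.norm_ne_top (odd_of_le hK hDodd) hne)
  have hsn : ∀ r : ℕ, r.Prime → pCoreOf r D ≠ ⊥ → W ⊓ normalizer (pCoreOf r D : Set G) = D := fun r _ hr => by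
    rw [hNmax _ (pCoreOf_le r D) hr
      (((hnorm H (hSC.trans hXH) hH.1 hHc)).trans (normalizer_le_pCoreOf r D))]
  have hmeet : ∀ r : ℕ, r.Prime → pCoreOf r W ≠ ⊥ → pCoreOf r D ≠ ⊥ := fun r hr hne hbot => by
    refine h.meet htS (pCoreOf_le r W) (normalizer_le_pCoreOf r W) hne ht (le_bot_iff.mp ?_)
    have hsub : pCoreOf r W ⊓ D ≤ pCoreOf r D := le_pCoreOf' inf_le_right
      (fun d hd => Subgroup.mem_normalizer_iff.mpr fun x => by
        simp only [Subgroup.mem_inf]
        exact and_congr (Subgroup.mem_normalizer_iff.mp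
          ((Subgroup.le_normalizer.trans (normalizer_le_pCoreOf r W)) hd.1) x)
          (Subgroup.mem_normalizer_iff.mp (Subgroup.le_normalizer hd) x))
      ((isPGroup_pCoreOf r W).to_le inf_le_left)
    intro x hx
    refine hbot ▸ hsub ⟨hx.1, hθD ?_⟩
    exact (h.cent t htS ht).le ⟨pCoreOf_le r W hx.1, hx.2⟩
  obtain ⟨p, hp, hpW⟩ : ∃ p : ℕ, p.Prime ∧ pCoreOf p W ≠ ⊥ := by
    by_contra hno
    push Not at hno
    exact h.ne (eq_bot_of_cores hno)
  haveI := Fact.mk hp
  have hone : ∀ s : ℕ, s.Prime → s ≠ p → pCoreOf s W = ⊥ := by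
    intro s hs hsp
    by_contra hsW
    have heq := pCoreOf_eq (D := D) inf_le_left hmeet hsn hp hs (Ne.symm hsp) hsW
    have hN := hNmax _ (pCoreOf_le p D) (hmeet p hp hpW)
      (((hnorm H (hSC.trans hXH) hH.1 hHc)).trans (normalizer_le_pCoreOf p D))
    have hWH : W ≤ H := by
      rw [← hN, heq]
      exact Subgroup.le_normalizer.trans (normalizer_le_pCoreOf p W)
    refine hnoW H hHc ?_
    have := hnorm H (hSC.trans hXH) hH.1 hHc
    rwa [inf_eq_left.mpr hWH] at this
  -- `O_{p'}(W) = 1`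
  have hq : pPrimeCore p W = ⊥ := by
    have h1 : qOf p W = ⊥ := by
      haveI : Group.IsSolvable (qOf p W) := isSolvable_of_le (qOf_le p W)
      refine eq_bot_of_cores fun s hs => ?_
      haveI := Fact.mk hs
      have h2 : pCoreOf s (qOf p W) ≤ pCoreOf s W :=
        le_pCoreOf' ((pCoreOf_le s _).trans (qOf_le p W))
          ((Subgroup.le_normalizer.trans (normalizer_le_qOf p W)).trans (normalizer_le_pCoreOf s _))
          (isPGroup_pCoreOf s _)
      rcases eq_or_ne s p with rfl | hsp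
      · refine (Subgroup.eq_bot_iff_forall _).mpr fun x hx => ?_
        obtain ⟨k, hk⟩ := IsPGroup.iff_card.mp (isPGroup_pCoreOf s (qOf s W))
        exact orderOf_eq_one_iff.mp (Nat.eq_one_of_dvd_coprimes ((card_qOf_coprime s W).pow_right k)
          (Subgroup.orderOf_dvd_natCard _ (pCoreOf_le s _ hx)) (hk ▸ Subgroup.orderOf_dvd_natCard _ hx))
      · exact le_bot_iff.mp (h2.trans (hone s hs hsp).le)
    exact (Subgroup.map_eq_bot_iff_of_injective _ W.subtype_injective).mp h1
  -- the covering subgroup with the largest `p`-part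
  let n : Subgroup G → ℕ := fun J => (Nat.card ↥(W ⊓ J)).factorization p
  obtain ⟨J, ⟨hSJ, hJne, hJc⟩, hmax⟩ := (Set.toFinite {J : Subgroup G | (S : Subgroup G) ≤ J ∧ J ≠ ⊤ ∧
    Covers t J}).exists_maximalFor n _ ⟨H, hSC.trans hXH, hH.1, hHc⟩
  set O := W ⊓ J
  have hJO : J ≤ normalizer (O : Set G) := hnorm J hSJ hJne hJc
  have hSO : (S : Subgroup G) ≤ normalizer (O : Set G) := hSJ.trans hJO
  have hcop : ∀ K : Subgroup G, K ≤ W → (Nat.card (S : Subgroup G)).Coprime (Nat.card K) := fun K hK => by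
    obtain ⟨k, hk⟩ := IsPGroup.iff_card.mp S.isPGroup'
    rw [hk]
    exact (Nat.coprime_two_left.mpr (odd_of_le hK h.odd)).pow_left k
  have hsS : Group.IsSolvable (S : Subgroup G) := by
    haveI := Fact.mk Nat.prime_two
    haveI := S.isPGroup'.isNilpotent
    infer_instance
  obtain ⟨P₁, hP₁⟩ := coprime_exists_invariant_sylow hSO (hcop O inf_le_left) (Or.inl hsS) p
  set P := (P₁ : Subgroup O).map O.subtype
  have hPp : IsPGroup p P := P₁.isPGroup'.map _
  have hPO : P ≤ O := Subgroup.map_subtype_le _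
  have hPne : P ≠ ⊥ := by
    intro e
    have h0 : n J = 0 := by
      have h1 := P₁.card_eq_multiplicity
      rw [show Nat.card (P₁ : Subgroup O) = 1 by
        rw [← Subgroup.card_map_of_injective O.subtype_injective]
        exact Subgroup.card_eq_one.mpr e] at h1
      rcases (Nat.pow_eq_one.mp h1.symm) with h2 | h2
      · exact absurd h2 hp.ne_one
      · exact h2
    have h1 : 1 ≤ n H := by
      refine hp.dvd_iff_one_le_factorization Nat.card_pos.ne' |>.mp ?_
      obtain ⟨k, hk⟩ := IsPGroup.iff_card.mp (isPGroup_pCoreOf p D)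
      have hk0 : k ≠ 0 := fun e => hmeet p hp hpW (Subgroup.card_eq_one.mp (by rw [hk, e, pow_zero]))
      exact ((dvd_pow_self p hk0).trans (hk ▸ dvd_rfl)).trans (Subgroup.card_dvd_of_le (pCoreOf_le p D))
    have := hmax ⟨hSC.trans hXH, hH.1, hHc⟩ (by omega)
    omega
  have hPodd : Odd (Nat.card P) := odd_of_le (hPO.trans inf_le_left) h.odd
  set J' := normalizer (P : Set G)
  have hJ'c : Covers t J' := by
    intro x hx
    obtain ⟨j, hj, o, ho, hjt, rfl⟩ := hJc x hx
    have htA : zpowers t ≤ normalizer (O : Set G) := Subgroup.zpowers_le.mpr (hSO htS)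
    have htP : ∀ Q : Subgroup G, (S : Subgroup G) ≤ normalizer (Q : Set G) → zpowers t ≤ normalizer (Q : Set G) :=
      fun Q hQ => Subgroup.zpowers_le.mpr (hQ htS)
    let φ : MulAut O :=
      { toFun := fun c => ⟨j * c * j⁻¹, (Subgroup.mem_normalizer_iff.mp (hJO hj) c).mp c.2⟩
        invFun := fun c => ⟨j⁻¹ * c * j, by
          simpa using (Subgroup.mem_normalizer_iff.mp (inv_mem (hJO hj)) c).mp c.2⟩
        left_inv := fun c => Subtype.ext (by simp [mul_assoc])
        right_inv := fun c => Subtype.ext (by simp [mul_assoc])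
        map_mul' := fun c d => Subtype.ext (by simp [mul_assoc]) }
    set P₂ := P₁.mapSurjective (f := φ.toMonoidHom) φ.surjective
    have hP₂ : (P₂ : Subgroup O).map O.subtype = P.map (MulAut.conj j).toMonoidHom := by
      rw [show (P₂ : Subgroup O) = (P₁ : Subgroup O).map φ.toMonoidHom from rfl, Subgroup.map_map, Subgroup.map_map]
      rfl
    have hinv₂ : zpowers t ≤ normalizer ((P₂ : Subgroup O).map O.subtype : Set G) := by
      rw [hP₂]
      refine Subgroup.zpowers_le.mpr (Comp.mem_normalizer_of_maps ?_)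
      rintro _ ⟨y, hy, rfl⟩
      refine ⟨t * y * t⁻¹, (Subgroup.mem_normalizer_iff.mp (hP₁ htS) y).mp hy, ?_⟩
      simp only [MulEquiv.coe_toMonoidHom, MulAut.conj_apply]
      have hjt' : j * t = t * j := hjt
      calc j * (t * y * t⁻¹) * j⁻¹ = (j * t) * y * (j * t)⁻¹ := by group
        _ = (t * j) * y * (t * j)⁻¹ := by rw [hjt']
        _ = _ := by group
    have hcop' : (Nat.card (zpowers t)).Coprime (Nat.card O) := by
      rw [Nat.card_zpowers, ht]
      exact Nat.coprime_two_left.mpr (odd_of_le inf_le_left h.odd)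
    haveI : Group.IsSolvable O := isSolvable_of_le inf_le_left
    obtain ⟨c, hct, hcP⟩ := coprime_invariant_sylow_conj htA hcop' (Or.inr inferInstance) P₁ P₂
      (htP _ hP₁) hinv₂
    have hct' : (c : G) * t = t * c := (hct t (mem_zpowers t)).symm
    have hcθ : (c : G) ∈ centralizerPPrimeCore 2 t :=
      (h.cent t htS ht).le ⟨c.2.1, Subgroup.mem_centralizer_singleton_iff.mpr hct'⟩
    have hn : (c : G)⁻¹ * j ∈ J' := by
      refine Subgroup.mem_normalizer_fintype fun y hy => ?_
      have h1 : j * y * j⁻¹ ∈ (P₂ : Subgroup O).map O.subtype := hP₂ ▸ ⟨y, hy, rfl⟩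
      rw [← hcP] at h1
      obtain ⟨_, ⟨z, hz, rfl⟩, he⟩ := h1
      show (c : G)⁻¹ * j * y * ((c : G)⁻¹ * j)⁻¹ ∈ P
      refine ⟨z, hz, ?_⟩
      have he' : (c : G) * (z : G) * (c : G)⁻¹ = j * y * j⁻¹ := he
      calc (z : G) = (c : G)⁻¹ * ((c : G) * z * (c : G)⁻¹) * c := by group
        _ = (c : G)⁻¹ * (j * y * j⁻¹) * c := by rw [he']
        _ = _ := by group
    refine ⟨(c : G)⁻¹ * j, hn, j⁻¹ * c * j * o, mul_mem ?_ ho, ?_, by group⟩
    · have := CharTwoEarly.conj_mem_core (t := t) (r := j⁻¹)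
        ((Commute.inv_left (show Commute j t from hjt)).eq) hcθ
      rwa [inv_inv] at this
    · exact ((show Commute (c : G) t from hct').inv_left.mul_left (show Commute j t from hjt)).eq
  -- `P` is a Sylow subgroup of `W`
  have hJ'ne : J' ≠ ⊤ := h.norm_ne_top hPodd hPne
  have hPsyl : IsSylowOf p P W := by
    obtain ⟨Q, hPQ, hSQ⟩ := coprime_le_invariant_sylow h.inv (hcop W le_rfl) (Or.inl hsS)
      (hPO.trans inf_le_left) hPp hP₁
    set Q' := (Q : Subgroup W).map W.subtype
    suffices hQP : Q' ≤ P by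
      have := isSylowOf_map Q
      exact le_antisymm hQP hPQ ▸ this
    by_contra hnot
    have hQp : IsPGroup p Q' := Q.isPGroup'.map _
    haveI := hQp.isNilpotent
    have hlt : P.subgroupOf Q' < ⊤ := lt_top_iff_ne_top.mpr fun e => hnot (Subgroup.subgroupOf_eq_top.mp e)
    have hgrow := Group.normalizerCondition_of_isNilpotent _ hlt
    obtain ⟨y, hy, hyP⟩ := SetLike.exists_of_lt hgrow
    have hyJ' : (y : G) ∈ J' := Subgroup.mem_normalizer_fintype fun z hz =>
      (Subgroup.mem_normalizer_iff.mp hy ⟨z, hPQ hz⟩).mp hz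
    set R := P ⊔ zpowers (y : G)
    have hRW : R ≤ W ⊓ J' := sup_le (le_inf (hPO.trans inf_le_left) Subgroup.le_normalizer)
      (Subgroup.zpowers_le.mpr ⟨Subgroup.map_subtype_le _ y.2, hyJ'⟩)
    have hRp : IsPGroup p R := hQp.to_le (sup_le hPQ (Subgroup.zpowers_le.mpr y.2))
    have hPR : P < R := lt_of_le_of_ne le_sup_left fun e => hyP (e ▸ mem_sup_right (mem_zpowers (y : G)))
    obtain ⟨a, ha⟩ := IsPGroup.iff_card.mp hPp
    obtain ⟨b, hb⟩ := IsPGroup.iff_card.mp hRp
    have hab : a < b := by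
      by_contra hle
      push Not at hle
      refine hPR.ne (Subgroup.eq_of_le_of_card_ge hPR.le ?_)
      rw [ha, hb]
      exact Nat.pow_le_pow_right hp.pos hle
    have h1 : b ≤ n J' := (hp.pow_dvd_iff_le_factorization Nat.card_pos.ne').mp
      (hb ▸ Subgroup.card_dvd_of_le hRW)
    have h2 : a = n J := by
      have h3 := P₁.card_eq_multiplicity
      rw [← Subgroup.card_map_of_injective O.subtype_injective, ha] at h3
      exact Nat.pow_right_injective hp.two_le h3
    have := hmax (show (S : Subgroup G) ≤ J' ∧ J' ≠ ⊤ ∧ Covers t J' from ⟨hP₁, hJ'ne, hJ'c⟩) (by omega)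
    omega
  -- `Z(J(P))`
  set Z := ZJ.zj 0 P
  have hp2 : p ≠ 2 := by
    rintro rfl
    obtain ⟨k, hk⟩ := IsPGroup.iff_card.mp hPp
    have hk0 : k ≠ 0 := fun e0 => hPne (Subgroup.card_eq_one.mp (by rw [hk, e0, pow_zero]))
    exact hPodd.not_two_dvd_nat (hk ▸ dvd_pow_self 2 hk0)
  have hZ : normalizer (W : Set G) ≤ normalizer (Z : Set G) :=
    zj_normalized (abTwo_of_odd h.odd) hp2 (hq.le.trans bot_le) hPsyl
  have hNne : normalizer (Z : Set G) ≠ ⊤ :=
    h.norm_ne_top (odd_of_le (ZJ.zj_le 0 P) hPodd) (ZJ.zj_ne_bot (Or.inl rfl) hPp hPne)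
  have hNc : Covers t (normalizer (Z : Set G)) := fun x hx => by
    obtain ⟨j, hj, r⟩ := hJ'c x hx
    exact ⟨j, ZJ.normalizer_le_normalizer_zj 0 P hj, r⟩
  have hWN : W ≤ normalizer (Z : Set G) := Subgroup.le_normalizer.trans hZ
  refine hnoW _ hNc ?_
  have := hnorm _ (h.inv.trans hZ) hNne hNc
  rwa [inf_eq_left.mpr hWN] at this

end FinishHyp

end CfsgLib.CoreKill
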