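import Cfsg.Agent.Lib.CoreKill.FinishCtx

/-!
Theorem CK from the impossibility of a minimal counterexample: the quotient by `O(G)` and the induction.

Blueprint: `blueprint/bender/CoreKill.md`, THEOREM CK.
-/

set_option autoImplicit false
set_option linter.unusedSectionVars false
set_option linter.style.haveILetI false

universe u

namespace CfsgLib.CoreKill

open Cfsg Subgroup CfsgLib.Signalizer
open CfsgLib.Bender.TwoClosed (IsInv)
open CfsgLib.Bender.Assembly (orderOf_two isInv_of_orderOf)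

variable {G : Type u} [Group G] [Finite G]

/-- The square root trick: `s` inverts `n` in an odd subgroup, so half of it moves a point to a fixed one. -/
theorem exists_root {s n : G} {K : Subgroup G} (hK : Odd (Nat.card K)) (hn : n ∈ K) (hs : s * s = 1)
    (hinv : s * n * s = n⁻¹) : ∃ r ∈ K, r * r = n ∧ s * r * s = r⁻¹ := by
  have hodd : Odd (Nat.card (zpowers n)) := odd_of_le (Subgroup.zpowers_le.mpr hn) hK
  obtain ⟨r, hr, hrn⟩ := CharTwoEarly.exists_sq hodd (mem_zpowers n)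
  refine ⟨r, Subgroup.zpowers_le.mpr hn hr, hrn, ?_⟩
  obtain ⟨i, rfl⟩ := mem_zpowers_iff.mp hr
  have hsi : s⁻¹ = s := inv_eq_of_mul_eq_one_right hs
  rw [show s * n ^ i * s = s * n ^ i * s⁻¹ by rw [hsi], ← conj_zpow, hsi, hinv, inv_zpow]

/-- Fixed points of an involution modulo a normal subgroup of odd order. -/
theorem exists_fixed_lift {N : Subgroup G} [N.Normal] (hN : Odd (Nat.card N)) {W : Subgroup G} {s w : G}
    (hs : s * s = 1) (hsW : ∀ y ∈ W, s * y * s ∈ W) (hw : w ∈ W) (hfix : w⁻¹ * (s * w * s) ∈ N) :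
    ∃ r ∈ W ⊓ N, (w * r) * s = s * (w * r) := by
  have hinv : s * (w⁻¹ * (s * w * s)) * s = (w⁻¹ * (s * w * s))⁻¹ := by
    have hsi : s⁻¹ = s := inv_eq_of_mul_eq_one_right hs
    calc s * (w⁻¹ * (s * w * s)) * s = s * w⁻¹ * s * w * (s * s) := by group
      _ = s⁻¹ * w⁻¹ * s⁻¹ * w := by rw [hs, hsi, mul_one]
      _ = _ := by group
  obtain ⟨r, hr, hrn, hrs⟩ := exists_root (K := W ⊓ N)
    (odd_of_le inf_le_right hN) (Subgroup.mem_inf.mpr ⟨mul_mem (inv_mem hw) (hsW w hw), hfix⟩) hs hinv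
  refine ⟨r, hr, ?_⟩
  have h1 : s * (w * r) * s = w * r := by
    calc s * (w * r) * s = s * w * (s * s) * r * s := by rw [hs]; group
      _ = (s * w * s) * (s * r * s) := by group
      _ = w * r := by
        rw [show s * w * s = w * (w⁻¹ * (s * w * s)) by group, hrs, ← hrn]
        group
  calc w * r * s = s * (w * r) * s * s := by rw [h1]
    _ = _ := by rw [mul_assoc, hs, mul_one]

/-- Involutions congruent modulo a normal subgroup of odd order are conjugate under it. -/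
theorem exists_conj_of_mk_eq {N : Subgroup G} [N.Normal] (hN : Odd (Nat.card N)) {s v : G} (hs : IsInv s)
    (hv : IsInv v) (h : QuotientGroup.mk' N v = QuotientGroup.mk' N s) : ∃ r ∈ N, r * s * r⁻¹ = v := by
  have hn : v * s ∈ N := by
    rw [← QuotientGroup.eq_one_iff, QuotientGroup.mk_mul]
    have h1 : (QuotientGroup.mk' N) v * (QuotientGroup.mk' N) s = 1 := by
      rw [h, ← map_mul, hs.2, map_one]
    exact h1
  have hinv : s * (v * s) * s = (v * s)⁻¹ := by
    rw [mul_inv_rev, inv_eq_of_mul_eq_one_right hs.2, inv_eq_of_mul_eq_one_right hv.2]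
    calc s * (v * s) * s = s * v * (s * s) := by group
      _ = s * v := by rw [hs.2, mul_one]
  obtain ⟨r, hr, hrn, hrs⟩ := exists_root hN hn hs.2 hinv
  refine ⟨r, hr, ?_⟩
  calc r * s * r⁻¹ = r * (s * r⁻¹ * s) * s⁻¹ := by group
    _ = r * (s * r * s)⁻¹ * s⁻¹ := by
      rw [show (s * r * s)⁻¹ = s⁻¹ * r⁻¹ * s⁻¹ by group, inv_eq_of_mul_eq_one_right hs.2]
    _ = r * r * s := by rw [hrs, inv_inv, inv_eq_of_mul_eq_one_right hs.2]
    _ = v * (s * s) := by rw [hrn]; group
    _ = v := by rw [hs.2, mul_one]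

/-- The quotient data. -/
theorem Data.quotient {S : Sylow 2 G} {E W : Subgroup G} {θ : G → Subgroup G} (D : Data S E W θ) :
    ∃ θ' : G ⧸ oddCore G → Subgroup (G ⧸ oddCore G),
      Data (S.mapSurjective (QuotientGroup.mk'_surjective (oddCore G))) (E.map (QuotientGroup.mk' (oddCore G)))
        (W.map (QuotientGroup.mk' (oddCore G))) θ' := by
  haveI := Fact.mk Nat.prime_two
  set N := oddCore G
  have hN : Odd (Nat.card N) := CfsgLib.odd_card_oddCore
  set π := QuotientGroup.mk' N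
  have hker : ∀ s ∈ (S : Subgroup G), π s = 1 → s = 1 := by
    intro s hs h1
    obtain ⟨k, hk⟩ := IsPGroup.iff_card.mp S.isPGroup'
    exact orderOf_eq_one_iff.mp (Nat.eq_one_of_dvd_coprimes ((Nat.coprime_two_left.mpr hN).pow_left k)
      (hk ▸ Subgroup.orderOf_dvd_natCard _ hs) (Subgroup.orderOf_dvd_natCard _ ((QuotientGroup.eq_one_iff s).mp h1)))
  have hinj : Function.Injective (π.subgroupMap (S : Subgroup G)) := by
    rw [injective_iff_map_eq_one]
    exact fun s hs => Subtype.ext (hker s s.2 (congrArg Subtype.val hs))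
  refine ⟨fun c => ⨆ v : {v : G // IsInv v ∧ π v = c}, (θ v).map π, ?_⟩
  refine ⟨Subgroup.map_mono D.E_le, ?_, ?_, ?_, ?_, ?_, ?_, ?_⟩
  · intro c hc
    obtain ⟨g, rfl⟩ := QuotientGroup.mk'_surjective N c
    -- an involution over the given one
    have hg2 : g * g ∈ N := (QuotientGroup.eq_one_iff _).mp (by exact (map_mul π g g).trans hc.2)
    obtain ⟨i, hi⟩ := hN.of_dvd_nat (Subgroup.orderOf_dvd_natCard _ hg2)
    have ht : g ^ (2 * i + 1) * g ^ (2 * i + 1) = 1 := by
      rw [← (Commute.refl g).mul_pow, ← hi, pow_orderOf_eq_one]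
    have hπ : π (g ^ (2 * i + 1)) = π g := by
      rw [map_pow, pow_succ, pow_mul, pow_two, hc.2, one_pow, one_mul]
    obtain ⟨B, hB, hB8, htB⟩ := D.deep _ ⟨fun e => hc.1 (by rw [← hπ, e, map_one]), ht⟩
    refine ⟨B.map π, SolvSF.ea_of_comm ?_ ?_, hB8.trans (le_of_eq ?_), _, htB, hπ⟩
    · rintro _ ⟨x, hx, rfl⟩ _ ⟨y, hy, rfl⟩
      rw [← map_mul, ea_comm hB hx hy, map_mul]
    · rintro _ ⟨x, hx, rfl⟩
      rw [← map_pow, hB.2 x hx, map_one]
    · refine Nat.card_eq_of_bijective (π.subgroupMap B) ⟨?_, π.subgroupMap_surjective B⟩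
      rw [injective_iff_map_eq_one]
      intro s hs
      have h1 : (s : G) ∈ N := (QuotientGroup.eq_one_iff _).mp (congrArg Subtype.val hs)
      refine Subtype.ext (orderOf_eq_one_iff.mp (Nat.eq_one_of_dvd_coprimes (Nat.coprime_two_left.mpr hN)
        (orderOf_dvd_of_pow_eq_one (hB.2 _ s.2)) (Subgroup.orderOf_dvd_natCard _ h1)))
  · refine SolvSF.ea_of_comm ?_ ?_
    · rintro _ ⟨x, hx, rfl⟩ _ ⟨y, hy, rfl⟩
      rw [← map_mul, ea_comm D.E_elem hx hy, map_mul]
    · rintro _ ⟨x, hx, rfl⟩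
      rw [← map_pow, D.E_elem.2 x hx, map_one]
  · refine D.E_card.trans (le_of_eq ?_)
    refine Nat.card_eq_of_bijective (π.subgroupMap E) ⟨?_, π.subgroupMap_surjective E⟩
    rw [injective_iff_map_eq_one]
    exact fun s hs => Subtype.ext (hker s (D.E_le s.2) (congrArg Subtype.val hs))
  · exact D.W_odd.of_dvd_nat (Subgroup.card_map_dvd _ _)
  · rintro _ ⟨s, hs, rfl⟩
    refine Comp.mem_normalizer_of_maps ?_
    rintro _ ⟨w, hw, rfl⟩
    exact ⟨s * w * s⁻¹, (Subgroup.mem_normalizer_iff.mp (D.W_inv hs) w).mp hw, by simp⟩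
  · intro c a
    obtain ⟨g, rfl⟩ := QuotientGroup.mk'_surjective N c
    rw [Subgroup.map_iSup]
    refine le_antisymm (iSup_le fun v => ?_) (iSup_le fun v => ?_)
    · have h1 : π (g⁻¹ * v * g) = a := by
        rw [map_mul, map_mul, map_inv, v.2.2]
        show (π g)⁻¹ * (π g * a * (π g)⁻¹) * π g = a
        group
      refine le_iSup_of_le (⟨g⁻¹ * v * g, by simpa using v.2.1.conj g⁻¹, h1⟩ : {v : G // IsInv v ∧ π v = a}) ?_
      rintro _ ⟨x, hx, rfl⟩
      rw [show ((v : G)) = g * (g⁻¹ * v * g) * g⁻¹ by group, D.equiv] at hx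
      obtain ⟨y, hy, rfl⟩ := hx
      exact ⟨π y, ⟨y, hy, rfl⟩, by simp [π]⟩
    · refine le_iSup_of_le (⟨g * v * g⁻¹, v.2.1.conj g, by rw [map_mul, map_mul, map_inv, v.2.2]⟩ :
        {w : G // IsInv w ∧ π w = π g * a * (π g)⁻¹}) ?_
      rintro _ ⟨_, ⟨y, hy, rfl⟩, rfl⟩
      exact ⟨g * y * g⁻¹, by rw [D.equiv]; exact ⟨y, hy, rfl⟩, by simp [π]⟩
  · rintro _ ⟨s, hs, rfl⟩ hsi
    have hss : s * s = 1 := hker _ (mul_mem hs hs) (by rw [map_mul]; exact hsi.2)
    have hs' : IsInv s := ⟨fun e => hsi.1 (by rw [e, map_one]), hss⟩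
    have hsinv : s⁻¹ = s := inv_eq_of_mul_eq_one_right hss
    have hsW : ∀ y ∈ W, s * y * s ∈ W := fun y hy => by
      simpa [hsinv] using (Subgroup.mem_normalizer_iff.mp (D.W_inv hs) y).mp hy
    refine le_antisymm ?_ (iSup_le fun v => ?_)
    · rintro _ ⟨⟨w, hw, rfl⟩, hc⟩
      have hc' := Subgroup.mem_centralizer_singleton_iff.mp hc
      have hfix : w⁻¹ * (s * w * s) ∈ N := by
        refine (QuotientGroup.eq_one_iff _).mp ?_
        show π (w⁻¹ * (s * w * s)) = 1
        rw [map_mul, map_mul, map_mul, map_inv, ← hc', mul_assoc (π w), hsi.2, mul_one, inv_mul_cancel]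
      obtain ⟨r, hr, hfx⟩ := exists_fixed_lift hN hss hsW hw hfix
      refine Subgroup.mem_iSup_of_mem (⟨s, hs', rfl⟩ : {v : G // IsInv v ∧ π v = π s}) ⟨w * r, ?_, ?_⟩
      · rw [← D.cent s hs hs']
        exact ⟨mul_mem hw hr.1, Subgroup.mem_centralizer_singleton_iff.mpr hfx⟩
      · rw [map_mul, show π r = 1 from (QuotientGroup.eq_one_iff r).mpr hr.2, mul_one]
    · obtain ⟨r, hr, e⟩ := exists_conj_of_mk_eq hN hs' v.2.1 v.2.2
      rw [← e, D.equiv, ← D.cent s hs hs']
      rintro _ ⟨_, ⟨y, hy, rfl⟩, rfl⟩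
      have hr1 : π r = 1 := (QuotientGroup.eq_one_iff r).mpr hr
      have he : π ((MulAut.conj r) y) = π y := by simp [hr1]
      show π ((MulAut.conj r) y) ∈ _
      rw [he]
      refine ⟨⟨y, hy.1, rfl⟩, Subgroup.mem_centralizer_singleton_iff.mpr ?_⟩
      rw [← map_mul, ← map_mul, Subgroup.mem_centralizer_singleton_iff.mp hy.2]

/-- THEOREM CK from the impossibility of a minimal counterexample. -/
theorem ck_of_ctx
    (h : ∀ (G : Type u) [Group G] [Finite G] (S : Sylow 2 G) (E W : Subgroup G) (θ : G → Subgroup G),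
      Ctx S E W θ → False) : CK.{u} := by
  suffices hb : ∀ n, Below.{u} n by
    intro G _ _ S E W θ D
    exact hb (Nat.card G + 1) G S E W θ (Nat.lt_succ_self _) D
  intro n
  induction n with
  | zero => intro G _ _ S E W θ hlt; omega
  | succ n ih =>
    intro G _ _ S E W θ hlt D
    haveI := Fact.mk Nat.prime_two
    obtain ⟨θ', D'⟩ := D.quotient
    have hle : Nat.card (G ⧸ oddCore G) ≤ n :=
      le_trans (Nat.le_of_dvd Nat.card_pos ⟨_, Subgroup.card_eq_card_quotient_mul_card_subgroup (oddCore G)⟩)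
        (Nat.lt_succ_iff.mp hlt)
    have hbot : W.map (QuotientGroup.mk' (oddCore G)) = ⊥ := by
      by_contra hne
      exact h _ _ _ _ θ' ⟨D', fun X _ _ S' E' W' θ'' hX D'' => ih X S' E' W' θ'' (lt_of_lt_of_le hX hle) D'',
        CfsgLib.pPrimeCore_quotient_eq_bot 2, hne⟩
    exact fun w hw => (QuotientGroup.eq_one_iff w).mp (Subgroup.mem_bot.mp (hbot ▸ ⟨w, hw, rfl⟩))

end CfsgLib.CoreKill
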