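import Cfsg.Agent.Lib.Comp.KBalanceLocal
import Cfsg.Agent.Lib.Comp.PComp

/-!
A group without an unbalancing triple is balanced.
-/

set_option autoImplicit false
set_option linter.unusedSectionVars false
set_option linter.style.haveILetI false

namespace CfsgLib.CoreKill

open Cfsg Subgroup CfsgLib.Comp
open scoped commutatorElement

universe u
variable {G : Type u} [Group G] [Finite G]

/-- A subgroup normalising a component and not centralising it has the component as commutator. -/
theorem commutator_eq_of_ne {L X : Subgroup G} (hL : IsComponent L) (hXL : X ≤ normalizer (L : Set G))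
    (hne : ⁅L, X⁆ ≠ ⊥) : ⁅L, X⁆ = L := by
  by_contra h'
  have hle : ⁅L, X⁆ ≤ L := CfsgLib.commutator_le_of_le_normalizer hXL
  haveI : (⁅L, X⁆.subgroupOf L).Normal :=
    (Subgroup.normal_subgroupOf_iff_le_normalizer hle).mpr (CfsgLib.left_le_normalizer_commutator X L)
  rcases quasisimple_normal_le_center_or_eq_top hL.2 (⁅L, X⁆.subgroupOf L) with h | h
  · refine hne (centralizes_of_commutator_le_center hL ?_)
    rw [Subgroup.commutator_comm]
    calc ⁅L, X⁆ = (⁅L, X⁆.subgroupOf L).map L.subtype := (Subgroup.map_subgroupOf_eq_of_le hle).symm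
      _ ≤ _ := Subgroup.map_mono h
  · exact h' (le_antisymm hle (Subgroup.subgroupOf_eq_top.mp h))

/-- A core-free group: a nontrivial part of the core of `C(x)` moves a component normalised by `x`. -/
theorem exists_component {M : Type u} [Group M] [Finite M] (hO : pPrimeCore 2 M = ⊥) {x : M} (hx : orderOf x = 2)
    {D : Subgroup M} (hD : D ≤ centralizerPPrimeCore 2 x) (hne : D ≠ ⊥) :
    ∃ L : Subgroup M, IsComponent L ∧ x ∈ normalizer (L : Set M) ∧ D ≤ normalizer (L : Set M) ∧ ⁅L, D⁆ = L := by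
  haveI := Fact.mk Nat.prime_two
  by_contra hno
  push Not at hno
  have hall : ∀ L : Subgroup M, IsComponent L → ⁅L, D⁆ = ⊥ := by
    intro L hL
    by_contra hbot
    have hDN : D ≤ normalizer (L : Set M) := hD.trans (centralizerCore_normalizes hO hx hL)
    refine hno L hL ?_ hDN (commutator_eq_of_ne hL hDN hbot)
    have hxL : ⁅L, zpowers x⁆ = L := by
      by_contra h
      exact hbot (le_bot_iff.mp ((Subgroup.commutator_mono le_rfl hD).trans
        (centralizerCore_centralizes hO hx hL h).le))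
    have h1 := CfsgLib.right_le_normalizer_commutator (zpowers x) L (mem_zpowers x)
    rwa [hxL] at h1
  have hDF : D ≤ centralizer (generalizedFittingSubgroup M : Set M) := by
    rw [Subgroup.le_centralizer_iff]
    refine sup_le (sSup_le fun L hL => ?_) ?_
    · rw [← Subgroup.commutator_eq_bot_iff_le_centralizer]
      exact hall L hL
    · rw [fitting_eq_pCore Nat.prime_two hO, Subgroup.le_centralizer_iff]
      exact hD.trans (centralizerCore_centralizes_pCore hx)
  refine hne ((Subgroup.eq_bot_iff_forall _).mpr fun d hd => ?_)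
  have h1 : d ∈ fittingSubgroup M := le_fittingSubgroup
    (N := centralizer (generalizedFittingSubgroup M : Set M))
    (nilpotent_of_comm fun a ha b hb => hb a (centralizer_generalizedFitting_le ha)) (hDF hd)
  rw [fitting_eq_pCore Nat.prime_two hO] at h1
  obtain ⟨n, hn⟩ := isPGroup_pCore (G := M) 2 ⟨d, h1⟩
  exact pElement_eq_one_of_coprime (card_centralizerCore_coprime x) (hD hd) (congrArg Subtype.val hn)

/-- The unbalancing triples. -/
def HasTriple (G : Type u) [Group G] : Prop :=
  ∃ (a x : G) (L : Subgroup ↥(centralizer ({a} : Set G))), orderOf a = 2 ∧ orderOf x = 2 ∧ Commute a x ∧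
    IsPComponent 2 L ∧ (∀ l ∈ L.map (centralizer ({a} : Set G)).subtype,
      x * l * x⁻¹ ∈ L.map (centralizer ({a} : Set G)).subtype) ∧
    L.map (centralizer ({a} : Set G)).subtype =
      (oddCore ↥L).map ((centralizer ({a} : Set G)).subtype.comp L.subtype) ⊔
        ⁅L.map (centralizer ({a} : Set G)).subtype, centralizerPPrimeCore 2 x ⊓ centralizer ({a} : Set G)⁆

/-- Without a triple the cores are balanced on a pair of commuting involutions. -/
theorem core_inf_le_of_no_triple (hno : ¬ HasTriple G) {a x : G} (ha : orderOf a = 2) (hx : orderOf x = 2)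
    (hax : a * x = x * a) :
    centralizerPPrimeCore 2 x ⊓ centralizer ({a} : Set G) ≤ centralizerPPrimeCore 2 a := by
  haveI := Fact.mk Nat.prime_two
  set C := centralizer ({a} : Set G) with hC
  set D₀ : Subgroup ↥C := (centralizerPPrimeCore 2 x).subgroupOf C with hD₀
  by_contra hnle
  have hxC : x ∈ C := Subgroup.mem_centralizer_singleton_iff.mpr hax.symm
  set x' : ↥C := ⟨x, hxC⟩
  have hx' : orderOf x' = 2 := by rw [← Subgroup.orderOf_coe]; exact hx
  have hD₀le : D₀ ≤ centralizerPPrimeCore 2 x' := by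
    intro d hd
    refine le_centralizerCore (W := D₀ ⊓ centralizer ({x'} : Set ↥C)) inf_le_right ?_ ?_
      (Subgroup.mem_inf.mpr ⟨hd, ?_⟩)
    · intro g hg
      refine mem_normalizer_of_maps fun w hw => Subgroup.mem_inf.mpr ⟨?_, ?_⟩
      · exact centralizerCore_conj (Subgroup.mem_centralizer_singleton_iff.mpr
          (congrArg Subtype.val (Subgroup.mem_centralizer_singleton_iff.mp hg))) (Subgroup.mem_inf.mp hw).1
      · exact mul_mem (mul_mem hg (Subgroup.mem_inf.mp hw).2) (inv_mem hg)
    · exact Nat.Coprime.coprime_dvd_left ((Subgroup.card_dvd_of_le inf_le_left).trans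
        (Subgroup.card_dvd_of_injective (C.subtype.subgroupComap (centralizerPPrimeCore 2 x))
          (fun u v e => Subtype.ext (Subtype.ext (congrArg (fun z : centralizerPPrimeCore 2 x => (z : G)) e)))))
        (card_centralizerCore_coprime _)
    · exact Subgroup.mem_centralizer_singleton_iff.mpr
        (Subtype.ext (Subgroup.mem_centralizer_singleton_iff.mp (centralizerCore_le _ hd)))
  have hbx : orderOf (bar 2 ↥C x') = 2 := by
    refine orderOf_eq_prime (by rw [← map_pow, ← hx', pow_orderOf_eq_one, map_one]) fun e => ?_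
    have h1 := pElement_eq_one_of_coprime (card_pPrimeCore_coprime 2) ((QuotientGroup.eq_one_iff _).mp e) (n := 1)
      (by rw [pow_one, ← hx', pow_orderOf_eq_one])
    rw [h1, orderOf_one] at hx'
    omega
  have hne : D₀.map (bar 2 ↥C) ≠ ⊥ := fun e => hnle (by
    rintro d ⟨hd1, hd2⟩
    have h1 : bar 2 ↥C ⟨d, hd2⟩ ∈ D₀.map (bar 2 ↥C) := ⟨_, hd1, rfl⟩
    rw [e, Subgroup.mem_bot] at h1
    exact ⟨⟨d, hd2⟩, (QuotientGroup.eq_one_iff _).mp h1, rfl⟩)
  obtain ⟨Lb, hLb, hxL, hDL, hcomm⟩ := exists_component (pPrimeCore_quotient_eq_bot 2) hbx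
    ((Subgroup.map_mono hD₀le).trans (centralizerCore_bar_le hx')) hne
  set L := pEl 2 (Lb.comap (bar 2 ↥C)) with hLdef
  have hL : IsPComponent 2 L := (isPComponent_iff 2).mpr ⟨Lb, hLb, rfl⟩
  have hnorm : ∀ g : ↥C, bar 2 ↥C g ∈ normalizer (Lb : Set _) → g ∈ normalizer (L : Set ↥C) := fun g hg =>
    normalizer_le_normalizer_pEl _ (mem_normalizer_of_maps fun y hy => by
      rw [Subgroup.mem_comap, map_mul, map_mul, map_inv]
      exact (Subgroup.mem_normalizer_iff.mp hg _).mp hy)
  have hD₀N : D₀ ≤ normalizer (L : Set ↥C) := fun d hd => hnorm d (hDL ⟨d, hd, rfl⟩)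
  set O := (oddCore ↥L).map L.subtype
  have hOL : O ≤ L := Subgroup.map_subtype_le _
  have hcL : ⁅L, D₀⁆ ≤ L := CfsgLib.commutator_le_of_le_normalizer hD₀N
  have hle : O ⊔ ⁅L, D₀⁆ ≤ L := sup_le hOL hcL
  have hn : L ≤ normalizer ((O ⊔ ⁅L, D₀⁆ : Subgroup ↥C) : Set ↥C) := by
    intro l hl
    refine mem_normalizer_of_maps fun y hy => ?_
    have hsub : O ⊔ ⁅L, D₀⁆ ≤ (O ⊔ ⁅L, D₀⁆).comap (MulAut.conj l).toMonoidHom := by
      refine sup_le ?_ fun z hz => Subgroup.mem_comap.mpr (Subgroup.mem_sup_right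
        ((Subgroup.mem_normalizer_iff.mp (CfsgLib.left_le_normalizer_commutator D₀ L hl) z).mp hz))
      rintro _ ⟨z, hz, rfl⟩
      exact Subgroup.mem_comap.mpr (Subgroup.mem_sup_left
        ⟨⟨l, hl⟩ * z * ⟨l, hl⟩⁻¹, (inferInstance : (oddCore ↥L).Normal).conj_mem z hz _, rfl⟩)
    exact hsub hy
  have hmap : (O ⊔ ⁅L, D₀⁆).map (bar 2 ↥C) = L.map (bar 2 ↥C) := by
    refine le_antisymm (Subgroup.map_mono hle) ?_
    rw [map_pEl_comap 2 hLb, Subgroup.map_sup, Subgroup.map_commutator, map_pEl_comap 2 hLb, hcomm]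
    exact le_sup_right
  have heq : O ⊔ ⁅L, D₀⁆ = L := by
    refine hL.2.2 _ ?_ hle hmap
    haveI : ((O ⊔ ⁅L, D₀⁆).subgroupOf L).Normal := (Subgroup.normal_subgroupOf_iff_le_normalizer hle).mpr hn
    exact Subgroup.IsSubnormal.step _ L hle hL.1 inferInstance
  refine hno ⟨a, x, L, ha, hx, hax, hL, ?_, ?_⟩
  · rintro _ ⟨l, hl, rfl⟩
    exact ⟨x' * l * x'⁻¹, (Subgroup.mem_normalizer_iff.mp (hnorm x' hxL) l).mp hl, rfl⟩
  · conv_lhs => rw [← heq]
    rw [Subgroup.map_sup, Subgroup.map_commutator, Subgroup.map_map, hD₀, Subgroup.subgroupOf_map_subtype]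

/-- A group without an unbalancing triple is balanced. -/
theorem isBalanced_of_no_triple (hno : ¬ HasTriple G) : IsBalanced G := fun x y hx hy hxy =>
  le_antisymm (le_inf (core_inf_le_of_no_triple hno hy hx hxy.symm) (inf_le_left.trans (centralizerCore_le x)))
    (le_inf (core_inf_le_of_no_triple hno hx hy hxy) (inf_le_left.trans (centralizerCore_le y)))

end CfsgLib.CoreKill
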