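import Cfsg.Agent.Lib.CoreKill.FinishCtx
import Cfsg.Agent.Lib.CoreKill.Triple

/-!
The rows over theorem CK.

Blueprint: `blueprint/bender/CoreKill.md`, rows.
-/

set_option autoImplicit false
set_option linter.unusedSectionVars false
set_option linter.style.haveILetI false

universe u

namespace CfsgLib.CoreKill

open Cfsg Subgroup CfsgLib.Signalizer

variable {G : Type u} [Group G] [Finite G]

/-- The involutions of a self-centralising abelian normal subgroup of rank at least three give a normal `E_8`. -/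
theorem exists_normal_eight (S : Sylow 2 G) (A : Subgroup ↥(S : Subgroup G)) [hn : A.Normal]
    (hab : IsMulCommutative ↥A) (h3 : ¬ PRankLE 2 2 ↥A) :
    ∃ E : Subgroup G, E ≤ (S : Subgroup G) ∧ (S : Subgroup G) ≤ normalizer (E : Set G) ∧
      IsElementaryAbelian 2 E ∧ 8 ≤ Nat.card E := by
  haveI := Fact.mk Nat.prime_two
  haveI := hab
  let K : Subgroup ↥(S : Subgroup G) :=
    { carrier := {a | a ∈ A ∧ a * a = 1}
      one_mem' := ⟨one_mem _, one_mul _⟩
      mul_mem' := fun {a b} ha hb => ⟨mul_mem ha.1 hb.1, by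
        have hab' : a * b = b * a := congrArg Subtype.val (mul_comm' (⟨a, ha.1⟩ : A) ⟨b, hb.1⟩)
        calc a * b * (a * b) = a * (b * a) * b := by group
          _ = a * (a * b) * b := by rw [hab']
          _ = (a * a) * (b * b) := by group
          _ = 1 := by rw [ha.2, hb.2, one_mul]⟩
      inv_mem' := fun {a} ha => ⟨inv_mem ha.1, by rw [← mul_inv_rev, ha.2, inv_one]⟩ }
  set E := K.map (S : Subgroup G).subtype
  have hE : IsElementaryAbelian 2 E := by
    refine SolvSF.ea_of_comm ?_ ?_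
    · rintro _ ⟨a, ha, rfl⟩ _ ⟨b, hb, rfl⟩
      exact congrArg (fun z : A => ((z : ↥(S : Subgroup G)) : G)) (mul_comm' (⟨a, ha.1⟩ : A) ⟨b, hb.1⟩)
    · rintro _ ⟨a, ha, rfl⟩
      rw [← map_pow, pow_two, ha.2, map_one]
  refine ⟨E, Subgroup.map_subtype_le _, fun s hs => ?_, hE, ?_⟩
  · refine Comp.mem_normalizer_of_maps ?_
    rintro _ ⟨a, ha, rfl⟩
    refine ⟨⟨s, hs⟩ * a * ⟨s, hs⟩⁻¹, ⟨hn.conj_mem _ ha.1 _, ?_⟩, rfl⟩
    rw [show (⟨s, hs⟩ : ↥(S : Subgroup G)) * a * ⟨s, hs⟩⁻¹ * (⟨s, hs⟩ * a * ⟨s, hs⟩⁻¹) =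
      ⟨s, hs⟩ * (a * a) * ⟨s, hs⟩⁻¹ by group, ha.2]
    group
  · refine TwoLocalSignalizer.eight_le_of_four_lt (isPGroup_ea hE) ?_
    simp only [PRankLE, not_forall, not_le] at h3
    obtain ⟨V, hVc, hVe, hVlt⟩ := h3
    refine lt_of_lt_of_le (by simpa using hVlt) ?_
    rw [Subgroup.card_map_of_injective (S : Subgroup G).subtype_injective,
      ← Subgroup.card_map_of_injective A.subtype_injective]
    refine Subgroup.card_le_of_le ?_
    rintro _ ⟨v, hv, rfl⟩
    exact ⟨v.2, congrArg Subtype.val ((pow_two v).symm.trans (hVe v hv))⟩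

/-- The functor of an assignment given on the abelian 2-subgroups of rank at least three. -/
theorem sig_of_abelian {θ : G → Subgroup G}
    (heq : ∀ g a : G, θ (g * a * g⁻¹) = (θ a).map (MulAut.conj g).toMonoidHom)
    (hθ : ∀ B : Subgroup G, IsMulCommutative ↥B → IsPGroup 2 ↥B → ¬ PRankLE 2 2 ↥B →
      IsSignalizerFunctor 2 B θ) : Sig θ := by
  haveI := Fact.mk Nat.prime_two
  exact ⟨heq, fun B hB h8 => hθ B hB.1 (isPGroup_ea hB)
    (SolvSF.not_prankle_of_le hB (by simpa using h8) le_rfl)⟩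

/-- S3112 from theorem CK. -/
theorem s3112 (hCK : CK.{u}) (hO : oddCore G = ⊥)
    (S : Sylow 2 G) (A : Subgroup ↥(S : Subgroup G)) (hAn : A.Normal) (hAab : IsMulCommutative ↥A)
    (hA3 : ¬ PRankLE 2 2 ↥A)
    {θ : G → Subgroup G} (heq : ∀ g a : G, θ (g * a * g⁻¹) = (θ a).map (MulAut.conj g).toMonoidHom)
    (hθ : ∀ B : Subgroup G, IsMulCommutative ↥B → IsPGroup 2 ↥B → ¬ PRankLE 2 2 ↥B →
      IsSignalizerFunctor 2 B θ) {a : G} (ha : orderOf a = 2) : θ a = ⊥ := by
  obtain ⟨E, hES, hEn, hE, hE8⟩ := exists_normal_eight S A hAab hA3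
  exact (sig_of_abelian heq hθ).eq_bot_everywhere hCK hO hES hE hE8
    (isFourConnected_of_normal_eight hES hEn hE hE8) ha

theorem oddCore_eq_bot_of_simple [IsSimpleGroup G] (hG : ¬ IsMulCommutative G) : oddCore G = ⊥ := by
  refine ((inferInstance : (oddCore G).Normal).eq_bot_or_eq_top).resolve_right fun e => hG ?_
  haveI := Cfsg.Agent.S0205.result (G := G) (by
    have := CfsgLib.odd_card_oddCore (G := G)
    rwa [e, Subgroup.card_top] at this)
  exact ⟨⟨fun a b => IsSimpleGroup.comm_iff_isSolvable.mpr inferInstance a b⟩⟩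

/-- S3111 from theorem CK. -/
theorem s3111 (hCK : CK.{u}) [IsSimpleGroup G] (hG : ¬ IsMulCommutative G)
    (S : Sylow 2 G) (A : Subgroup ↥(S : Subgroup G)) (hAn : A.Normal) (hAab : IsMulCommutative ↥A)
    (hA3 : ¬ PRankLE 2 2 ↥A) :
    (∀ t : G, orderOf t = 2 → centralizerPPrimeCore 2 t = ⊥) ∨ HasTriple G := by
  by_cases hT : HasTriple G
  · exact Or.inr hT
  obtain ⟨E, hES, hEn, hE, hE8⟩ := exists_normal_eight S A hAab hA3
  exact Or.inl fun t ht => (sig_core (isBalanced_of_no_triple hT)).eq_bot_everywhere hCK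
    (oddCore_eq_bot_of_simple hG) hES hE hE8 (isFourConnected_of_normal_eight hES hEn hE hE8) ht

/-- S1291 from theorem CK. -/
theorem s1291 (hCK : CK.{u}) (hbal : IsBalanced G) (hO : oddCore G = ⊥) (hrank : ¬ PRankLE 2 2 G)
    (hconn : IsFourConnected G ∨ ∃ S : Sylow 2 G, IsFourConnected ↥(S : Subgroup G)) {t : G}
    (ht : orderOf t = 2) : centralizerPPrimeCore 2 t = ⊥ := by
  haveI := Fact.mk Nat.prime_two
  have hsig := sig_core hbal
  rcases hconn with hG | ⟨S, hS⟩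
  · obtain ⟨R, hR⟩ := (IsPGroup.of_card (n := 1) (by rw [Nat.card_zpowers, ht, pow_one]) :
      IsPGroup 2 (zpowers t)).exists_le_sylow
    obtain ⟨E, hER, hE, hE8⟩ := exists_eight_in R hrank
    obtain ⟨U, hUR, hU, hU4, htU⟩ := exists_four_with hER hE hE8 (hR (mem_zpowers t)) ht
    have ht1 : t ≠ 1 := fun e => by rw [e, orderOf_one] at ht; omega
    obtain ⟨B, hB, hB8, hUB⟩ := exists_eight_over hG hU hU4 (not_prank_two_of_eight hE hE8)
    exact hsig.eq_bot_of_connected hO hG hB hB8 (hUB htU) ht1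
  · obtain ⟨E, hES, hE, hE8⟩ := exists_eight_in S hrank
    exact hsig.eq_bot_everywhere hCK hO hES hE hE8 hS ht

end CfsgLib.CoreKill
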