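import Cfsg.Agent.Lib.CoreKill.NoFail
import Cfsg.Agent.Lib.CoreKill.Rows
import Cfsg.Agent.Lib.CoreKill.Main
import Cfsg.Agent.Lib.CoreKill.Local.Defs
import Cfsg.Agent.Lib.CoreKill.CentralConn

/-!
Section 3 over the local interface: the structure of the centralisers of the bad involutions closes theorem CK.

Blueprint: `blueprint/bender/CoreKill.md` 3.
-/

set_option autoImplicit false
set_option linter.unusedSectionVars false
set_option linter.style.haveILetI false

universe u

namespace CfsgLib.CoreKill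

open Cfsg Subgroup CfsgLib.Signalizer
open CfsgLib.Bender.TwoClosed (IsInv)
open CfsgLib.Bender.Assembly (orderOf_two isInv_of_orderOf)

variable {G : Type u} [Group G] [Finite G]

/-- The involution `t` as an element of its centralizer. -/
def inCent (t : G) : ↥(centralizer ({t} : Set G)) := ⟨t, Subgroup.mem_centralizer_singleton_iff.mpr rfl⟩

/-- What the local analysis delivers at every bad involution of `M`. -/
def LocalOutcome (W : Subgroup G) : Prop :=
  ∀ (t : G), IsInv t → t ∈ normalizer (W : Set G) → ¬ IsGood W t → ∀ P : Sylow 2 ↥(centralizer ({t} : Set G)),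
    Local.Pt ((normalizer (W : Set G)).subgroupOf (centralizer ({t} : Set G))) P (inCent t) →
    Local.Struct ((normalizer (W : Set G)).subgroupOf (centralizer ({t} : Set G))) P (inCent t) ∨
      (Local.Pairs P (inCent t) ∧ Local.SquaresEq (inCent t)) ∨
      (Local.Wide ((normalizer (W : Set G)).subgroupOf (centralizer ({t} : Set G))) P (inCent t) ∧
        Local.Over P (inCent t))

theorem isInv_sub {K : Subgroup G} {x : K} : IsInv x ↔ IsInv (x : G) :=
  ⟨fun h => ⟨fun e => h.1 (Subtype.ext e), congrArg Subtype.val h.2⟩,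
    fun h => ⟨fun e => h.1 (congrArg Subtype.val e), Subtype.ext h.2⟩⟩

theorem inCent_comm {t : G} (x : ↥(centralizer ({t} : Set G))) : Commute x (inCent t) :=
  Subtype.ext (Subgroup.mem_centralizer_singleton_iff.mp x.2)

/-- The Sylow subgroup of `C(t)` whose carrier a maximal 2-subgroup of `C(t)` is. -/
theorem IsTwoMaxIn.exists_sylow {T : Subgroup G} {t : G} (h : IsTwoMaxIn T t) :
    ∃ P : Sylow 2 ↥(centralizer ({t} : Set G)), (P : Subgroup _) = T.subgroupOf (centralizer ({t} : Set G)) := by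
  haveI := Fact.mk Nat.prime_two
  obtain ⟨P, hP⟩ := (h.1.comap_subtype (K := centralizer ({t} : Set G))).exists_le_sylow
  have h1 : (P : Subgroup _).map (centralizer ({t} : Set G)).subtype = T :=
    h.2.2 _ (P.isPGroup'.map _) (fun x hx => ⟨⟨x, h.2.1 hx⟩, hP hx, rfl⟩) (Subgroup.map_subtype_le _)
  refine ⟨P, le_antisymm (fun x hx => ?_) hP⟩
  rw [Subgroup.mem_subgroupOf, ← h1]
  exact ⟨x, hx, rfl⟩

variable {S : Sylow 2 G} {E W : Subgroup G} {θ : G → Subgroup G}

namespace Ctx

variable (C : Ctx S E W θ)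
include C

/-- The point `t` lies in every maximal 2-subgroup of its centralizer. -/
theorem mem_of_max {t : G} (ht : IsInv t) {T : Subgroup G} (hT : IsTwoMaxIn T t) : t ∈ T := by
  haveI := Fact.mk Nat.prime_two
  have h1 : IsPGroup 2 ↥(T ⊔ zpowers t) := hT.1.to_sup_of_normal_left' (zpowers_inv ht)
    (Subgroup.zpowers_le.mpr (Subgroup.mem_normalizer_fintype fun a ha => by
      rw [← Subgroup.mem_centralizer_singleton_iff.mp (hT.2.1 ha)]
      simpa using ha))
  exact hT.2.2 _ h1 le_sup_left (sup_le hT.2.1 (Subgroup.zpowers_le.mpr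
    (Subgroup.mem_centralizer_singleton_iff.mpr rfl))) ▸ mem_sup_right (mem_zpowers t)

/-- A maximal 2-subgroup `T ≤ M` of the centralizer of a bad `t` gives the local setting. -/
theorem pt_of_max {t : G} (ht : IsInv t) (htM : t ∈ normalizer (W : Set G)) (hbad : ¬ IsGood W t) {T : Subgroup G}
    (hT : IsTwoMaxIn T t) (hTM : T ≤ normalizer (W : Set G)) {P : Sylow 2 ↥(centralizer ({t} : Set G))}
    (hP : (P : Subgroup _) = T.subgroupOf (centralizer ({t} : Set G))) :
    Local.Pt ((normalizer (W : Set G)).subgroupOf (centralizer ({t} : Set G))) P (inCent t) := by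
  haveI := Fact.mk Nat.prime_two
  have D := C.data
  refine ⟨⟨fun e => hbad (Subgroup.subgroupOf_eq_top.mp e), fun x hx => hTM (show (x : G) ∈ T by
      rw [hP] at hx; exact hx), isInv_sub.mpr ht, inCent_comm, fun v hv hvi hvt x hxv => ?_⟩, ?_⟩
  · have hxt : (x : G) * t * (x : G)⁻¹ = t := by
      rw [Subgroup.mem_centralizer_singleton_iff.mp x.2, mul_inv_cancel_right]
    exact D.mem_of_pair ht (isInv_sub.mp hvi) (fun e => hvt (Subtype.ext e.symm))
      (Subgroup.mem_centralizer_singleton_iff.mp v.2).symm htM hv (hxt.symm ▸ htM) hxv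
  · obtain ⟨B, hB, hB8, htB⟩ := D.deep t ht
    have hBC : B ≤ centralizer ({t} : Set G) := fun b hb =>
      Subgroup.mem_centralizer_singleton_iff.mpr (ea_comm hB hb htB)
    set B' := B.subgroupOf (centralizer ({t} : Set G)) with hB'
    have hB'e : IsElementaryAbelian 2 B' := SolvSF.ea_of_comm (fun a ha b hb => Subtype.ext (ea_comm hB ha hb))
      fun a ha => Subtype.ext (hB.2 _ ha)
    obtain ⟨c, -, hcP⟩ := Bender.Q.exists_conj_sylow (S := P) le_top (isPGroup_ea hB'e) le_top
    refine ⟨B'.map (MulAut.conj c).toMonoidHom, ?_, SolvSF.ea_of_comm ?_ ?_, ?_⟩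
    · rintro _ ⟨b, hb, rfl⟩; exact hcP b hb
    · rintro _ ⟨a, ha, rfl⟩ _ ⟨b, hb, rfl⟩; rw [← map_mul, ← map_mul, ea_comm hB'e ha hb]
    · rintro _ ⟨a, ha, rfl⟩; rw [← map_pow, hB'e.2 a ha, map_one]
    · rw [Subgroup.card_map_of_injective (MulAut.conj c).injective, hB',
        Nat.card_congr (Subgroup.subgroupOfEquivOfLe hBC).toEquiv]
      exact hB8

variable (hout : LocalOutcome W)
include hout

/-- The exceptional outcome does not occur. -/
theorem false_of_pairs {t : G} (ht : IsInv t) (htM : t ∈ normalizer (W : Set G))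
    (P : Sylow 2 ↥(centralizer ({t} : Set G))) (hp : Local.Pairs P (inCent t)) (hsq : Local.SquaresEq (inCent t)) :
    False := by
  haveI := Fact.mk Nat.prime_two
  refine C.false_of_isolated ht htM fun g hg => ?_
  by_contra hne
  let u : ↥(centralizer ({t} : Set G)) := ⟨g * t * g⁻¹, Subgroup.mem_centralizer_singleton_iff.mpr hg.eq.symm⟩
  obtain ⟨c, -, hcP⟩ := Bender.Q.exists_conj_sylow (S := P) le_top (zpowers_inv (isInv_sub.mpr (ht.conj g) : IsInv u))
    le_top
  have hu' := hcP u (mem_zpowers u)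
  have hne' : c * u * c⁻¹ ≠ inCent t := fun e => hne (by
    have h1 : u = c⁻¹ * inCent t * c := by rw [← e]; group
    rw [(inCent_comm c⁻¹).eq, mul_assoc, inv_mul_cancel, mul_one] at h1
    exact congrArg Subtype.val h1)
  obtain ⟨p, q, hp1, hq1, hpu, hqu, hpq⟩ := hp _ hu' ((isInv_sub.mpr (ht.conj g) : IsInv u).conj c) hne'
  set k := (c : G) * g with hk
  have hku : ((c * u * c⁻¹ : ↥(centralizer ({t} : Set G))) : G) = k * t * k⁻¹ := by
    show (c : G) * (g * t * g⁻¹) * (c : G)⁻¹ = _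
    rw [hk]; group
  have hmem : ∀ r : ↥(centralizer ({t} : Set G)), Commute r (c * u * c⁻¹) →
      k⁻¹ * (r : G) * k⁻¹⁻¹ ∈ centralizer ({t} : Set G) := by
    intro r hr
    have h1 : (r : G) * (k * t * k⁻¹) = k * t * k⁻¹ * r := by
      rw [← hku]
      exact congrArg Subtype.val hr.eq
    refine Subgroup.mem_centralizer_singleton_iff.mpr ?_
    calc k⁻¹ * (r : G) * k⁻¹⁻¹ * t = k⁻¹ * ((r : G) * (k * t * k⁻¹)) * k := by group
      _ = k⁻¹ * (k * t * k⁻¹ * r) * k := by rw [h1]
      _ = t * (k⁻¹ * (r : G) * k⁻¹⁻¹) := by group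
  let p' : ↥(centralizer ({t} : Set G)) := ⟨_, hmem p hpu⟩
  let q' : ↥(centralizer ({t} : Set G)) := ⟨_, hmem q hqu⟩
  have hpq' : (p : G) * q * ((p : G) * q) = t := congrArg Subtype.val hpq
  have hsq' : ((p' * q' * (p' * q') : ↥(centralizer ({t} : Set G))) : G) = k⁻¹ * t * k⁻¹⁻¹ := by
    show (k⁻¹ * (p : G) * k⁻¹⁻¹) * (k⁻¹ * (q : G) * k⁻¹⁻¹) *
      ((k⁻¹ * (p : G) * k⁻¹⁻¹) * (k⁻¹ * (q : G) * k⁻¹⁻¹)) = _
    calc _ = k⁻¹ * ((p : G) * q * ((p : G) * q)) * k⁻¹⁻¹ := by group
      _ = _ := by rw [hpq']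
  have h1 := hsq p' q' (isInv_sub.mpr ((isInv_sub.mp hp1).conj k⁻¹)) (isInv_sub.mpr ((isInv_sub.mp hq1).conj k⁻¹))
    (isInv_sub.mpr (hsq'.symm ▸ ht.conj k⁻¹))
  have h2 : k⁻¹ * t * k⁻¹⁻¹ = t := hsq'.symm.trans (congrArg Subtype.val h1)
  refine hne' (Subtype.ext (hku.trans ?_))
  show k * t * k⁻¹ = t
  calc k * t * k⁻¹ = k * (k⁻¹ * t * k⁻¹⁻¹) * k⁻¹ := by rw [h2]
    _ = t := by group

/-- Balance and rigidity at a maximal 2-subgroup. -/
theorem bal_rigid_of_max {t : G} (ht : IsInv t) (htM : t ∈ normalizer (W : Set G)) (hbad : ¬ IsGood W t)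
    {T : Subgroup G} (hT : IsTwoMaxIn T t) (hTM : T ≤ normalizer (W : Set G)) :
    ∃ P : Sylow 2 ↥(centralizer ({t} : Set G)),
      (∀ y ∈ (P : Subgroup _), IsInv y → y ≠ inCent t → ∀ A : Subgroup ↥(centralizer ({t} : Set G)),
        Odd (Nat.card A) → A ≤ centralizer ({y} : Set _) → centralizer ({y} : Set _) ≤ normalizer (A : Set _) →
        A ≤ oddCore _) ∧
      ∀ y ∈ (P : Subgroup _), IsInv y → y ≠ inCent t → ∀ B : Subgroup ↥(centralizer ({t} : Set G)),
        Odd (Nat.card B) → oddCore _ ≤ B → centralizer ({y} : Set _) ≤ normalizer (B : Set _) →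
        B ⊓ centralizer ({y} : Set _) ≤ oddCore _ → B ≤ oddCore _ := by
  obtain ⟨P, hP⟩ := hT.exists_sylow
  have hPt := C.pt_of_max ht htM hbad hT hTM hP
  rcases hout t ht htM hbad P hPt with h | ⟨h1, h2⟩ | ⟨h, hOv⟩
  · exact ⟨P, h.bal, h.rigid⟩
  · exact (C.false_of_pairs hout ht htM P h1 h2).elim
  · exact ⟨P, h.bal, h.rigid⟩

/-- The rigid local structure at a central involution, all involutions of `S` being bad and conjugate to it. -/
theorem rigid_of_local {t : G} (htS : t ∈ (S : Subgroup G)) (ht : IsInv t)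
    (htc : ∀ s ∈ (S : Subgroup G), Commute s t) (hallbad : ∀ u ∈ (S : Subgroup G), IsInv u → ¬ IsGood W u)
    (hfused : ∀ u ∈ (S : Subgroup G), IsInv u → ∃ g : G, g * t * g⁻¹ = u) : Rigid S t := by
  haveI := Fact.mk Nat.prime_two
  have hSC : (S : Subgroup G) ≤ centralizer ({t} : Set G) := fun s hs =>
    Subgroup.mem_centralizer_singleton_iff.mpr (htc s hs)
  obtain ⟨P, hbalP, hrigP⟩ := C.bal_rigid_of_max hout ht (C.data.W_inv htS) (hallbad t htS ht)
    (⟨S.isPGroup', hSC, fun Q hQ hSQ _ => S.is_maximal' hQ hSQ⟩ : IsTwoMaxIn (S : Subgroup G) t) C.data.W_inv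
  -- every pair can be moved to `t` and a member of `P`
  have hmove : ∀ a b : G, IsInv a → IsInv b → a ≠ b → Commute a b → ∃ k : G, k * a * k⁻¹ = t ∧
      ∃ y : ↥(centralizer ({t} : Set G)), y ∈ (P : Subgroup _) ∧ IsInv y ∧ y ≠ inCent t ∧
        k * b * k⁻¹ = (y : G) := by
    intro a b ha hb hne hc
    obtain ⟨Q, hQ⟩ := (zpowers_inv ha).exists_le_sylow
    obtain ⟨g₀, hg₀⟩ := MulAction.exists_smul_eq G Q S
    have h1 : g₀ * a * g₀⁻¹ ∈ (S : Subgroup G) := by
      rw [← hg₀]
      exact ⟨a, hQ (mem_zpowers a), rfl⟩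
    obtain ⟨g₁, hg₁⟩ := hfused _ h1 (ha.conj g₀)
    set g := g₁⁻¹ * g₀ with hg
    have hga : g * a * g⁻¹ = t := by
      calc g * a * g⁻¹ = g₁⁻¹ * (g₀ * a * g₀⁻¹) * g₁ := by rw [hg]; group
        _ = g₁⁻¹ * (g₁ * t * g₁⁻¹) * g₁ := by rw [hg₁]
        _ = t := by group
    have hgb : g * b * g⁻¹ ∈ centralizer ({t} : Set G) := by
      rw [← hga]
      exact Subgroup.mem_centralizer_singleton_iff.mpr (Bender.Q.conj_comm hc.eq.symm)
    let b' : ↥(centralizer ({t} : Set G)) := ⟨_, hgb⟩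
    obtain ⟨c, -, hcP⟩ := Bender.Q.exists_conj_sylow (S := P) le_top
      (zpowers_inv (isInv_sub.mpr (hb.conj g) : IsInv b')) le_top
    have hk1 : (c : G) * g * a * ((c : G) * g)⁻¹ = t := by
      calc (c : G) * g * a * ((c : G) * g)⁻¹ = c * (g * a * g⁻¹) * (c : G)⁻¹ := by group
        _ = c * t * (c : G)⁻¹ := by rw [hga]
        _ = t := by rw [Subgroup.mem_centralizer_singleton_iff.mp c.2, mul_inv_cancel_right]
    have hk2 : (c : G) * g * b * ((c : G) * g)⁻¹ = ((c * b' * c⁻¹ : ↥(centralizer ({t} : Set G))) : G) := by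
      show _ = (c : G) * (g * b * g⁻¹) * (c : G)⁻¹
      group
    refine ⟨_, hk1, _, hcP b' (mem_zpowers b'), (isInv_sub.mpr (hb.conj g) : IsInv b').conj c, fun e => hne ?_, hk2⟩
    have h2 : (c : G) * g * b * ((c : G) * g)⁻¹ = t := hk2.trans (congrArg Subtype.val e)
    exact mul_left_cancel (mul_right_cancel (hk1.trans h2.symm))
  have hpush : ∀ (k : G) (A : Subgroup G) {x : G}, k * x * k⁻¹ ∈ A.map (MulAut.conj k).toMonoidHom → x ∈ A := by
    rintro k A x ⟨z, hz, e⟩
    have e' : k * z * k⁻¹ = k * x * k⁻¹ := e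
    exact mul_left_cancel (mul_right_cancel e') ▸ hz
  refine ⟨htS, ht, htc, hfused, ?_, ?_⟩
  · have key : ∀ a b : G, IsInv a → IsInv b → Commute a b →
        centralizerPPrimeCore 2 b ⊓ centralizer ({a} : Set G) ≤ centralizerPPrimeCore 2 a := by
      intro a b ha hb hc
      by_cases hne : a = b
      · exact hne ▸ inf_le_left
      obtain ⟨k, hka, y, hyP, hyi, hyt, hkb⟩ := hmove a b ha hb hne hc
      intro x hx
      obtain ⟨hxb, hxa⟩ := Subgroup.mem_inf.mp hx
      have hx1 : k * x * k⁻¹ ∈ centralizerPPrimeCore 2 (y : G) := by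
        rw [← hkb, core_equi]
        exact ⟨x, hxb, rfl⟩
      have hx2 : k * x * k⁻¹ ∈ centralizer ({t} : Set G) := by
        rw [← hka]
        exact Subgroup.mem_centralizer_singleton_iff.mpr
          (Bender.Q.conj_comm (Subgroup.mem_centralizer_singleton_iff.mp hxa))
      set A := (centralizerPPrimeCore 2 (y : G)).subgroupOf (centralizer ({t} : Set G))
      have h1 : A ≤ oddCore _ := by
        refine hbalP y hyP hyi hyt A ?_ (fun z hz => Subgroup.mem_centralizer_singleton_iff.mpr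
          (Subtype.ext (CharTwoEarly.core_comm hz))) fun z hz => Comp.mem_normalizer_of_maps fun w hw => ?_
        · exact (CharTwoEarly.odd_core (y : G)).of_dvd_nat (Subgroup.card_dvd_of_injective
            ((centralizer ({t} : Set G)).subtype.subgroupComap _)
            (fun u v e => Subtype.ext (Subtype.ext (congrArg (fun z : centralizerPPrimeCore 2 (y : G) => (z : G)) e))))
        · exact CharTwoEarly.conj_mem_core (congrArg Subtype.val (Subgroup.mem_centralizer_singleton_iff.mp hz)) hw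
      have h2 : k * x * k⁻¹ ∈ centralizerPPrimeCore 2 t := ⟨⟨_, hx2⟩, h1 hx1, rfl⟩
      refine hpush k _ ?_
      rw [← core_equi, hka]
      exact h2
    intro a b ha hb hc
    exact le_antisymm
      (le_inf (key b a (isInv_of_orderOf hb) (isInv_of_orderOf ha) hc.symm)
        (inf_le_left.trans (CharTwoEarly.core_le a)))
      (le_inf (key a b (isInv_of_orderOf ha) (isInv_of_orderOf hb) hc)
        (inf_le_left.trans (CharTwoEarly.core_le b)))
  · intro v hvS hv hvt B hvB hBv hBo hnorm hBt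
    obtain ⟨k, hkv, y, hyP, hyi, hyt, hkt⟩ := hmove v t hv ht hvt (htc v hvS)
    set φ := (MulAut.conj k).toMonoidHom
    have hB'C : B.map φ ≤ centralizer ({t} : Set G) := by
      rintro _ ⟨x, hx, rfl⟩
      show k * x * k⁻¹ ∈ centralizer ({t} : Set G)
      rw [← hkv]
      exact Subgroup.mem_centralizer_singleton_iff.mpr
        (Bender.Q.conj_comm (Subgroup.mem_centralizer_singleton_iff.mp (hBv hx)))
    have hcore : ∀ x : G, k * x * k⁻¹ ∈ centralizerPPrimeCore 2 t ↔ x ∈ centralizerPPrimeCore 2 v := fun x => by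
      rw [← hkv, core_equi]
      exact ⟨fun h => hpush k _ h, fun h => ⟨x, h, rfl⟩⟩
    have h1 : (B.map φ).subgroupOf (centralizer ({t} : Set G)) ≤ oddCore _ := by
      refine hrigP y hyP hyi hyt _ ?_ ?_ ?_ ?_
      · rw [Nat.card_congr (Subgroup.subgroupOfEquivOfLe hB'C).toEquiv,
          Subgroup.card_map_of_injective (MulAut.conj k).injective]
        exact hBo
      · intro x hx
        have h2 : (x : G) ∈ centralizerPPrimeCore 2 t := ⟨x, hx, rfl⟩
        refine ⟨k⁻¹ * x * k, hvB ((hcore _).mp ?_), ?_⟩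
        · convert h2 using 1; group
        · show k * (k⁻¹ * (x : G) * k) * k⁻¹ = x
          group
      · intro z hz
        refine Comp.mem_normalizer_of_maps fun w hw => ?_
        obtain ⟨x, hx, e⟩ := hw
        have e' : k * x * k⁻¹ = (w : G) := e
        have hzy : (z : G) * y = y * z := congrArg Subtype.val (Subgroup.mem_centralizer_singleton_iff.mp hz)
        have hzt : (z : G) * t = t * z := Subgroup.mem_centralizer_singleton_iff.mp z.2
        have hz' : k⁻¹ * z * k ∈ centralizer ({v} : Set G) ⊓ centralizer ({t} : Set G) := by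
          refine Subgroup.mem_inf.mpr ⟨Subgroup.mem_centralizer_singleton_iff.mpr ?_,
            Subgroup.mem_centralizer_singleton_iff.mpr ?_⟩
          · calc k⁻¹ * z * k * v = k⁻¹ * ((z : G) * (k * v * k⁻¹)) * k := by group
              _ = k⁻¹ * (t * z) * k := by rw [hkv, hzt]
              _ = k⁻¹ * (k * v * k⁻¹ * z) * k := congrArg (fun a => k⁻¹ * (a * (z : G)) * k) hkv.symm
              _ = v * (k⁻¹ * z * k) := by group
          · calc k⁻¹ * z * k * t = k⁻¹ * ((z : G) * (k * t * k⁻¹)) * k := by group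
              _ = k⁻¹ * (y * z) * k := by rw [hkt, hzy]
              _ = t * (k⁻¹ * z * k) := by rw [← hkt]; group
        refine ⟨(k⁻¹ * z * k) * x * (k⁻¹ * z * k)⁻¹, (Subgroup.mem_normalizer_iff.mp (hnorm hz') x).mp hx, ?_⟩
        show k * ((k⁻¹ * z * k) * x * (k⁻¹ * z * k)⁻¹) * k⁻¹ = (z : G) * (w : G) * (z : G)⁻¹
        rw [← e']; group
      · intro w hw
        obtain ⟨hwB, hwy⟩ := Subgroup.mem_inf.mp hw
        obtain ⟨x, hx, e⟩ := hwB
        have e' : k * x * k⁻¹ = (w : G) := e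
        have hwy' : (w : G) * y = y * w := congrArg Subtype.val (Subgroup.mem_centralizer_singleton_iff.mp hwy)
        have h2 : x ∈ centralizerPPrimeCore 2 v := hBt (Subgroup.mem_inf.mpr
          ⟨hx, Subgroup.mem_centralizer_singleton_iff.mpr (by
            calc x * t = k⁻¹ * ((k * x * k⁻¹) * (k * t * k⁻¹)) * k := by group
              _ = k⁻¹ * ((y : G) * (k * x * k⁻¹)) * k := by rw [e', hkt, hwy']
              _ = t * x := by rw [← hkt]; group)⟩)
        obtain ⟨w', hw', e''⟩ := (hcore x).mpr h2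
        exact (Subtype.ext (e''.trans e') : w' = w) ▸ hw'
    intro x hx
    have h2 : k * x * k⁻¹ ∈ centralizer ({t} : Set G) := hB'C ⟨x, hx, rfl⟩
    exact (hcore x).mp ⟨⟨_, h2⟩, h1 ⟨x, hx, rfl⟩, rfl⟩

/-- The wide outcome does not occur. -/
theorem false_of_wide {t : G} (ht : IsInv t) (htM : t ∈ normalizer (W : Set G)) (hbad : ¬ IsGood W t)
    {T : Subgroup G} (hT : IsTwoMaxIn T t) (hTM : T ≤ normalizer (W : Set G))
    {P : Sylow 2 ↥(centralizer ({t} : Set G))} (hP : (P : Subgroup _) = T.subgroupOf (centralizer ({t} : Set G)))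
    (hWd : Local.Wide ((normalizer (W : Set G)).subgroupOf (centralizer ({t} : Set G))) P (inCent t))
    (hOv : Local.Over P (inCent t)) : False := by
  haveI := Fact.mk Nat.prime_two
  have D := C.data
  have htT := C.mem_of_max ht hT
  -- `t` is the central involution of a Sylow subgroup over `T`, which is then `T`
  obtain ⟨S', hS'⟩ := hT.1.exists_le_sylow
  obtain ⟨z, hzS, hz2, hzc⟩ := Comp.exists_central_in_normal (p := 2) S'.isPGroup' (le_refl (S' : Subgroup G))
    Subgroup.le_normalizer fun e => ht.1 (Subgroup.mem_bot.mp (e ▸ hS' htT))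
  have hzi := isInv_of_orderOf hz2
  have hzC : z ∈ centralizer ({t} : Set G) :=
    Subgroup.mem_centralizer_singleton_iff.mpr (hzc t (hS' htT)).symm
  have hzT : z ∈ T := (hT.2.2 (T ⊔ zpowers z) (S'.isPGroup'.to_le (sup_le hS' (zpowers_le.mpr hzS))) le_sup_left
    (sup_le hT.2.1 (zpowers_le.mpr hzC))) ▸ mem_sup_right (mem_zpowers z)
  have hzt : z = t := by
    by_contra hne
    obtain ⟨s, hsP, hs⟩ := hWd.noCentral ⟨z, hzC⟩ (by rw [hP]; exact hzT) (isInv_sub.mpr hzi)
      (fun e => hne (congrArg Subtype.val e))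
    rw [hP] at hsP
    exact hs (Subtype.ext (hzc _ (hS' hsP)).symm)
  have hTS : T = (S' : Subgroup G) := (hT.2.2 _ S'.isPGroup' hS' fun s hs =>
    Subgroup.mem_centralizer_singleton_iff.mpr (hzt ▸ hzc s hs)).symm
  obtain ⟨m, hm, hmS⟩ := Bender.Q.exists_conj_sylow D.S_le hT.1 hTM
  have hcard : ∀ s ∈ (S : Subgroup G), ∃ x ∈ T, m * x * m⁻¹ = s := by
    have h1 : T.map (MulAut.conj m).toMonoidHom = (S : Subgroup G) := Subgroup.eq_of_le_of_card_ge
      (by rintro _ ⟨x, hx, rfl⟩; exact hmS x hx) (by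
        rw [Subgroup.card_map_of_injective (MulAut.conj m).injective, hTS, S'.card_eq_multiplicity,
          S.card_eq_multiplicity])
    intro s hs
    obtain ⟨x, hx, rfl⟩ := h1.ge hs
    exact ⟨x, hx, rfl⟩
  have ht'S := hmS t htT
  have htc : ∀ s ∈ (S : Subgroup G), Commute s (m * t * m⁻¹) := fun s hs => by
    obtain ⟨x, hx, rfl⟩ := hcard s hs
    exact Bender.Q.conj_comm (Subgroup.mem_centralizer_singleton_iff.mp (hT.2.1 hx))
  -- some other conjugate of `t` is a member, so all are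
  obtain ⟨g, hgc, hg⟩ : ∃ g : G, Commute t (g * t * g⁻¹) ∧ g * t * g⁻¹ ≠ t := by
    by_contra hno
    push Not at hno
    exact C.false_of_isolated ht htM hno
  have hfusedT : ∀ u ∈ T, IsInv u → ∃ k : G, k * t * k⁻¹ = u := by
    intro u hu hui
    by_cases hut : u = t
    · exact ⟨1, by simp [hut]⟩
    obtain ⟨x, hx⟩ := hWd.oneClass ⟨g * t * g⁻¹, Subgroup.mem_centralizer_singleton_iff.mpr hgc.eq.symm⟩
      ⟨u, hT.2.1 hu⟩ (isInv_sub.mpr (ht.conj g)) (fun e => hg (congrArg Subtype.val e)) (isInv_sub.mpr hui)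
      (fun e => hut (congrArg Subtype.val e))
    refine ⟨(x : G) * g, ?_⟩
    have h1 : (x : G) * (g * t * g⁻¹) * (x : G)⁻¹ = u := congrArg Subtype.val hx
    rw [← h1]; group
  have hfused : ∀ u ∈ (S : Subgroup G), IsInv u → ∃ k : G, k * (m * t * m⁻¹) * k⁻¹ = u := by
    intro u hu hui
    obtain ⟨x, hx, rfl⟩ := hcard u hu
    obtain ⟨k, hk⟩ := hfusedT x hx (by simpa [mul_assoc] using hui.conj m⁻¹)
    exact ⟨m * k * m⁻¹, by rw [← hk]; group⟩
  have hbad' : ¬ IsGood W (m * t * m⁻¹) := fun h => hbad ((C.good_conj_iff hm).mp h)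
  have hallbad : ∀ u ∈ (S : Subgroup G), IsInv u → ¬ IsGood W u := fun u hu hui h => by
    obtain ⟨k, hk⟩ := hfused u hu hui
    obtain ⟨m', hm', he⟩ := D.fused (ht.conj m) (D.W_inv ht'S) (g := k) (hk ▸ D.W_inv hu)
    exact hbad' ((C.good_conj_iff hm').mp (by rw [he, hk]; exact h))
  have hconn : IsFourConnected ↥(S : Subgroup G) := by
    refine isFourConnected_of_central S.isPGroup' (z := ⟨_, ht'S⟩) (isInv_sub.mpr (ht.conj m))
      (fun s => Subtype.ext (htc s s.2)) (E := E.subgroupOf (S : Subgroup G))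
      (SolvSF.ea_of_comm (fun a ha b hb => Subtype.ext (ea_comm D.E_elem ha hb)) fun a ha =>
        Subtype.ext (D.E_elem.2 _ ha))
      (by rw [Nat.card_congr (Subgroup.subgroupOfEquivOfLe D.E_le).toEquiv]; exact D.E_card)
      fun v hv hvt => ?_
    obtain ⟨x, hx, hxv⟩ := hcard v v.2
    obtain ⟨B, hBP, hB, hB8, htB, hxB⟩ := hOv ⟨x, hT.2.1 hx⟩ (by rw [hP]; exact hx)
      (isInv_sub.mpr (by
        have h1 := (isInv_sub.mp hv).conj m⁻¹
        rwa [← hxv, show m⁻¹ * (m * x * m⁻¹) * m⁻¹⁻¹ = x by group] at h1))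
      (fun e => hvt (Subtype.ext (by rw [← hxv, show x = t from congrArg Subtype.val e])))
    set f : ↥(centralizer ({t} : Set G)) →* G := (MulAut.conj m).toMonoidHom.comp (centralizer ({t} : Set G)).subtype
    have hf : Function.Injective f := (MulAut.conj m).injective.comp Subtype.val_injective
    have hBS : B.map f ≤ (S : Subgroup G) := by
      rintro _ ⟨b, hb, rfl⟩
      have h1 := hBP hb
      rw [hP] at h1
      exact hmS _ h1
    refine ⟨(B.map f).subgroupOf (S : Subgroup G), SolvSF.ea_of_comm ?_ ?_, ?_, ⟨inCent t, htB, rfl⟩,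
      ⟨_, hxB, hxv⟩⟩
    · rintro a ⟨a', ha', ea⟩ b ⟨b', hb', eb⟩
      refine Subtype.ext ?_
      show (a : G) * b = b * a
      rw [show (a : G) = f a' from ea.symm, show (b : G) = f b' from eb.symm, ← map_mul, ea_comm hB ha' hb', map_mul]
    · rintro a ⟨a', ha', ea⟩
      refine Subtype.ext ?_
      show (a : G) ^ 2 = 1
      rw [show (a : G) = f a' from ea.symm, ← map_pow, hB.2 a' ha', map_one]
    · rw [Nat.card_congr (Subgroup.subgroupOfEquivOfLe hBS).toEquiv, Subgroup.card_map_of_injective hf]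
      exact hB8
  exact C.false_of_rigid hconn (C.rigid_of_local hout ht'S (ht.conj m) htc hallbad hfused)

/-- The structure at a maximal 2-subgroup. -/
theorem struct_of_max {t : G} (ht : IsInv t) (htM : t ∈ normalizer (W : Set G)) (hbad : ¬ IsGood W t)
    {T : Subgroup G} (hT : IsTwoMaxIn T t) (hTM : T ≤ normalizer (W : Set G)) :
    ∃ P : Sylow 2 ↥(centralizer ({t} : Set G)), (P : Subgroup _) = T.subgroupOf (centralizer ({t} : Set G)) ∧
      Local.Pt ((normalizer (W : Set G)).subgroupOf (centralizer ({t} : Set G))) P (inCent t) ∧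
      Local.Struct ((normalizer (W : Set G)).subgroupOf (centralizer ({t} : Set G))) P (inCent t) := by
  obtain ⟨P, hP⟩ := hT.exists_sylow
  have hPt := C.pt_of_max ht htM hbad hT hTM hP
  rcases hout t ht htM hbad P hPt with h | ⟨h1, h2⟩ | ⟨h, hOv⟩
  · exact ⟨P, hP, hPt, h⟩
  · exact (C.false_of_pairs hout ht htM P h1 h2).elim
  · exact (C.false_of_wide hout ht htM hbad hT hTM hP h hOv).elim

theorem localStruct {t : G} (ht : IsInv t) (htM : t ∈ normalizer (W : Set G)) (hbad : ¬ IsGood W t)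
    {T : Subgroup G} (hT : IsTwoMaxIn T t) (hTM : T ≤ normalizer (W : Set G)) : LocalStruct W t T := by
  haveI := Fact.mk Nat.prime_two
  obtain ⟨P, hP, hPt, hS⟩ := C.struct_of_max hout ht htM hbad hT hTM
  have hmemP : ∀ x (hx : x ∈ T), (⟨x, hT.2.1 hx⟩ : ↥(centralizer ({t} : Set G))) ∈ (P : Subgroup _) :=
    fun x hx => by rw [hP]; exact hx
  have htT : t ∈ T := by
    obtain ⟨c, -, hcP⟩ := Bender.Q.exists_conj_sylow (S := P) le_top (zpowers_inv hPt.inv) le_top
    have h1 := hcP _ (mem_zpowers _)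
    rw [(inCent_comm c).eq, mul_inv_cancel_right, hP] at h1
    exact h1
  have hcomm : ∀ a ∈ T, ∀ b ∈ T, a * a = 1 → b * b = 1 → a * b = b * a := by
    intro a ha b hb ha2 hb2
    by_cases ha1 : a = 1
    · simp [ha1]
    by_cases hb1 : b = 1
    · simp [hb1]
    exact congrArg Subtype.val (hS.comm _ (hmemP a ha) _ (hmemP b hb) (isInv_sub.mpr ⟨ha1, ha2⟩)
      (isInv_sub.mpr ⟨hb1, hb2⟩)).eq
  let Y : Subgroup G :=
    { carrier := {a | a ∈ T ∧ a * a = 1}
      one_mem' := ⟨one_mem _, one_mul 1⟩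
      mul_mem' := fun {a b} ha hb => ⟨mul_mem ha.1 hb.1, by
        calc a * b * (a * b) = a * (b * a) * b := by group
          _ = a * (a * b) * b := by rw [hcomm a ha.1 b hb.1 ha.2 hb.2]
          _ = (a * a) * (b * b) := by group
          _ = 1 := by rw [ha.2, hb.2, one_mul]⟩
      inv_mem' := fun {a} ha => ⟨inv_mem ha.1, by rw [← mul_inv_rev, ha.2, inv_one]⟩ }
  refine ⟨Y, SolvSF.ea_of_comm (fun a ha b hb => hcomm a ha.1 b hb.1 ha.2 hb.2)
    (fun a ha => (pow_two a).trans ha.2), ⟨htT, ht.2⟩, fun a ha => ha.1, ?_, fun u hu hui => ⟨hu, hui.2⟩, ?_⟩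
  · obtain ⟨B, hBP, hB, hB8⟩ := hPt.eight
    have h1 := Nat.card_le_card_of_injective
      (fun b : B => (⟨(b : ↥(centralizer ({t} : Set G))), by
        have h2 := hBP b.2
        rw [hP] at h2
        exact ⟨h2, by rw [← pow_two]; exact congrArg Subtype.val (hB.2 _ b.2)⟩⟩ : Y))
      (fun a b e => Subtype.ext (Subtype.ext (congrArg (fun z : Y => (z : G)) e)))
    omega
  · intro u hu hu1 hut v hv hv1 hvt
    obtain ⟨h, hhH, hnorm, he⟩ := hS.trans _ (hmemP u hu.1) _ (hmemP v hv.1) (isInv_sub.mpr ⟨hu1, hu.2⟩)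
      (fun e => hut (congrArg Subtype.val e)) (isInv_sub.mpr ⟨hv1, hv.2⟩) (fun e => hvt (congrArg Subtype.val e))
    refine ⟨(h : G), Subgroup.mem_inf.mpr ⟨Subgroup.mem_inf.mpr ⟨hhH, Comp.mem_normalizer_of_maps fun a ha => ?_⟩,
      h.2⟩, ?_⟩
    · by_cases ha1 : a = 1
      · simp [ha1]
      have h1 := hnorm _ (hmemP a ha.1) (isInv_sub.mpr ⟨ha1, ha.2⟩)
      rw [hP] at h1
      exact ⟨h1, ((show IsInv a from ⟨ha1, ha.2⟩).conj (h : G)).2⟩
    · rcases he with e | e
      · exact Or.inl (congrArg Subtype.val e)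
      · refine Or.inr ((congrArg Subtype.val e).trans ?_)
        exact Subgroup.mem_centralizer_singleton_iff.mp (hT.2.1 hv.1)

/-- **Theorem CK from the local analysis.** -/
theorem false_of_outcome : False :=
  C.false_of_local (fun _ _ ht htM hbad hT hTM => C.localStruct hout ht htM hbad hT hTM)
    fun _ htS ht htc hallbad hfused => C.rigid_of_local hout htS ht htc hallbad hfused

end Ctx

/-- Theorem CK from the local analysis at the bad involutions. -/
theorem ck_of_outcome (h : ∀ (G : Type u) [Group G] [Finite G] (S : Sylow 2 G) (E W : Subgroup G)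
    (θ : G → Subgroup G), Ctx S E W θ → LocalOutcome W) : CK.{u} :=
  ck_of_ctx fun G _ _ S E W θ C => C.false_of_outcome (h G S E W θ C)

end CfsgLib.CoreKill
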