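import Cfsg.Agent.Lib.Bender.GoodAll
import Cfsg.Agent.Lib.Bender.Q.FixCount
import Cfsg.Agent.Lib.SuzukiRankOne.Basics
import Cfsg.Agent.Lib.L34Sylow.ThreeOdd

/-!
An involution normalising a group with Bender's one-fix action and fixing one point only belongs to it.

Blueprint: `blueprint/bender/CoreKill.md`, 2 (a).
-/

set_option autoImplicit false
set_option linter.unusedSectionVars false
set_option linter.style.haveILetI false

namespace CfsgLib.CoreKill

open Cfsg MulAction
open CfsgLib.Bender.TwoClosed (IsInv InvAt Swap)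

universe u

section RankOne

variable {G Ω : Type u} [Group G] [Finite G] [MulAction G Ω] [FaithfulSMul G Ω] {a : Ω} {t : G} {Q : Subgroup G}

/-- The inverted element conjugating one involution of the stabiliser to another is unique. -/
theorem inverted_unique (hS : IsRankOneSetup G Ω a t Q) {g : G} (hg : g ∈ involutionsIn (stabilizer G a : Set G))
    {k k' : G} (hk : k ∈ invertedBy (RankOne.D a t) t) (hk' : k' ∈ invertedBy (RankOne.D a t) t)
    (h : k⁻¹ * g * k = k'⁻¹ * g * k') : k = k' := by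
  obtain ⟨⟨s, r⟩, ⟨hs, hr, he⟩, -⟩ := RankOne.structure_eq hS
  obtain ⟨k1, hk1, e⟩ := RankOne.exists_conj_inverted hS hs hg
  refine RankOne.inverted_inj hS hs hr he hk1 hk hk' ?_
  calc (k1 * k)⁻¹ * s * (k1 * k) = k⁻¹ * (k1⁻¹ * s * k1) * k := by group
    _ = k'⁻¹ * (k1⁻¹ * s * k1) * k' := by rw [e]; exact h
    _ = _ := by group

/-- The set-up with another involution exchanging the same two points. -/
theorem setup_swap (hS : IsRankOneSetup G Ω a t Q) {σ : G} (hσ : IsInv σ) (h : σ • a = t • a) :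
    IsRankOneSetup G Ω a σ Q := by
  refine ⟨hS.two_transitive, hσ.2, hσ.1, fun e => hS.not_mem ?_, hS.le, hS.conj_mem, ?_, ?_, hS.even_card, ?_⟩
  · rw [mem_stabilizer_iff] at e ⊢
    rw [← h, e]
  · rw [h]; exact hS.inf_eq_bot
  · rw [h]; exact hS.sup_eq
  · rw [h]; exact hS.odd_card

end RankOne

variable {X Ω : Type u} [Group X] [Finite X] [MulAction X Ω] [FaithfulSMul X Ω]

/-- An involution with one fixed point normalising `L` lies in `L`. -/
theorem mem_of_one_fix (L : Subgroup X) [hLn : L.Normal] (hF : Bender.OneFix ↥L Ω) {u : X} (hu : IsInv u)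
    (hu1 : ∃! c : Ω, u • c = c) : u ∈ L := by
  classical
  by_contra huL
  haveI : FaithfulSMul ↥L Ω := ⟨fun {p q} e => Subtype.ext (FaithfulSMul.eq_of_smul_eq_smul e)⟩
  obtain ⟨a, hua, huniq⟩ := hu1
  have hinv : ∀ {z : ↥L}, IsInv z → IsInv (z : X) := fun {z} hz =>
    ⟨fun e => hz.1 (Subtype.ext e), congrArg Subtype.val hz.2⟩
  -- a product with `u` fixing a second point
  have hcover : ∀ b : Ω, b ≠ a → ∃ e : ↥L, IsInv e ∧ e • a = a ∧ u * (e : X) = (e : X) * u ∧
      (u * (e : X)) • b = b := by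
    intro b hb
    obtain ⟨c, hc, hcb⟩ := hF.exists_inv_at b
    have hcx : (c : X) * c = 1 := (hinv hc).2
    have hucu : u * (c : X) * u ∈ L := by
      have := hLn.conj_mem _ c.2 u
      rwa [hu.inv] at this
    have hsq : ∀ k : ℕ, (u * (c : X)) ^ (2 * k) ∈ L := fun k => by
      rw [pow_mul, pow_two, show u * (c : X) * (u * (c : X)) = u * (c : X) * u * c by group]
      exact pow_mem (mul_mem hucu c.2) k
    have he : Even (orderOf (u * (c : X))) := by
      rw [← Nat.not_odd_iff_even]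
      rintro ⟨k, hk⟩
      refine huL ?_
      have h1 : (u * (c : X)) ^ (2 * k) * (u * (c : X)) = 1 := by
        rw [← pow_succ, ← hk, pow_orderOf_eq_one]
      have h2 : u * (c : X) ∈ L := by
        rw [eq_inv_of_mul_eq_one_right h1]; exact inv_mem (hsq k)
      simpa [mul_assoc, hcx] using mul_mem h2 c.2
    obtain ⟨h1, h2⟩ := CfsgLib.Involutions.central_half hu.2 hcx he
    obtain ⟨hw2, hw1⟩ := CfsgLib.Involutions.orderOf_eq_two_iff'.mp (CfsgLib.Involutions.orderOf_half he)
    set w := (u * (c : X)) ^ (orderOf (u * (c : X)) / 2) with hw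
    have hwa : w • a = a := huniq _ (show u • w • a = w • a by rw [← mul_smul, ← h1.eq, mul_smul, hua])
    have hwb : w • b = b := hF.eq_of_fix hc (show c • w • b = w • b by
      show (c : X) • w • b = w • b
      rw [← mul_smul, ← h2.eq, mul_smul]
      exact congrArg _ hcb) hcb
    rcases Nat.even_or_odd' (orderOf (u * (c : X)) / 2) with ⟨k, hk | hk⟩
    · exfalso
      have hwL : w ∈ L := by rw [hw, hk]; exact hsq k
      exact hb (hF.eq_of_fix (x := ⟨w, hwL⟩) ⟨fun e => hw1 (congrArg Subtype.val e), Subtype.ext hw2⟩ hwb hwa)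
    · have hwL : u * w ∈ L := by
        rw [hw, hk, pow_succ', ← mul_assoc, ← mul_assoc, hu.2, one_mul]
        exact mul_mem c.2 (hsq k)
      have huw : Commute u w := h1.symm
      refine ⟨⟨u * w, hwL⟩, ⟨fun e => hb ?_, Subtype.ext ?_⟩, ?_, ?_, ?_⟩
      · have e' : u * w = 1 := congrArg Subtype.val e
        refine huniq b ?_
        show u • b = b
        rw [← (eq_inv_of_mul_eq_one_right e').trans hu.inv]
        exact hwb
      · show u * w * (u * w) = 1
        rw [huw.symm.mul_mul_mul_comm, hu.2, hw2, one_mul]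
      · show (u * w) • a = a
        rw [mul_smul, hwa, hua]
      · show u * (u * w) = u * w * u
        rw [mul_assoc u w u, ← huw.eq]
      · show (u * (u * w)) • b = b
        rw [← mul_assoc, hu.2, one_mul, hwb]
  obtain ⟨t, Q, hS0, hQ2⟩ := Bender.Assembly.goodAll ↥L Ω hF a
  set b0 := t • a with hb0
  have hb0a : b0 ≠ a := fun e => hS0.not_mem e
  obtain ⟨e0, he0, he0a, he0u, he0b⟩ := hcover b0 hb0a
  set w := u * (e0 : X) with hw
  have he0x := hinv he0
  have hw2 : w * w = 1 := by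
    rw [hw, (show Commute u (e0 : X) from he0u).symm.mul_mul_mul_comm, hu.2, he0x.2, one_mul]
  have hwinv : w⁻¹ = w := inv_eq_of_mul_eq_one_right hw2
  have hwa : w • a = a := by
    rw [hw, mul_smul, show (e0 : X) • a = a from he0a, hua]
  let cw : ↥L → ↥L := fun z => ⟨w * z * w⁻¹, hLn.conj_mem _ z.2 w⟩
  have hcwinj : Function.Injective cw := fun p q e =>
    Subtype.ext (mul_left_cancel (mul_right_cancel (congrArg Subtype.val e :)))
  have hcw1 : cw 1 = 1 := Subtype.ext (by simp [cw])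
  have hcwmul : ∀ p q, cw (p * q) = cw p * cw q := fun p q => Subtype.ext (by simp [cw, mul_assoc])
  have hcwcw : ∀ p, cw (cw p) = p := fun p => Subtype.ext (by
    show w * (w * (p : X) * w⁻¹) * w⁻¹ = p
    calc w * (w * (p : X) * w⁻¹) * w⁻¹ = (w * w) * p * (w * w)⁻¹ := by group
      _ = p := by rw [hw2, inv_one, one_mul, mul_one])
  have hcwinv : ∀ {z : ↥L}, IsInv z → IsInv (cw z) := fun {z} hz =>
    ⟨fun e => hz.1 (hcwinj (e.trans hcw1.symm)), by rw [← hcwmul, hz.2, hcw1]⟩
  have hcwfix : ∀ {z : ↥L} {c : Ω}, w • c = c → z • c = c → cw z • c = c := fun {z c} hc hz => by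
    show (w * (z : X) * w⁻¹) • c = c
    rw [hwinv, mul_smul, mul_smul, hc, show (z : X) • c = c from hz, hc]
  -- a swapper commuting with `w`
  obtain ⟨σ, hσ, hσa, hσw⟩ : ∃ σ : ↥L, IsInv σ ∧ σ • a = b0 ∧ cw σ = σ := by
    let f : Swap ↥L a b0 → Swap ↥L a b0 := fun s => ⟨cw s.1, hcwinv s.2.1, by
      show (w * ((s.1 : ↥L) : X) * w⁻¹) • a = b0
      rw [hwinv, mul_smul, mul_smul, hwa, show ((s.1 : ↥L) : X) • a = b0 from s.2.2, he0b]⟩
    obtain ⟨s, hs⟩ := L34Sylow.involutive_fixed_of_odd (α := Swap ↥L a b0)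
      (by rw [hF.card_swap hb0a]; exact hF.odd_invAt a) f fun s => Subtype.ext (hcwcw s.1)
    exact ⟨s.1, s.2.1, s.2.2, congrArg Subtype.val hs⟩
  have hS := setup_swap hS0 hσ hσa
  have h4 : SuzukiRankOne.Four ↥L := hF.four
  have hI : ∀ {z : ↥L}, IsInv z → z • a = a → z ∈ involutionsIn (stabilizer ↥L a : Set ↥L) := fun hz hza =>
    ⟨mem_stabilizer_iff.mpr hza, hz.1, hz.2⟩
  have hI' : ∀ {z : ↥L}, z ∈ involutionsIn (stabilizer ↥L a : Set ↥L) → IsInv z ∧ z • a = a := fun hz =>
    ⟨⟨hz.2.1, hz.2.2⟩, mem_stabilizer_iff.mp hz.1⟩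
  have he0I := hI he0 he0a
  have hcwe0 : cw e0 = e0 := Subtype.ext (by
    show w * (e0 : X) * w⁻¹ = e0
    rw [mul_inv_eq_iff_eq_mul, hw, ← mul_assoc, ← he0u])
  -- `w` centralises the inverted elements
  have hk : ∀ k ∈ invertedBy (RankOne.D a σ) σ, cw k = k := by
    intro k hk
    obtain ⟨hka, hkb⟩ := (RankOne.mem_D hS).mp hk.1
    have hk' : cw k ∈ invertedBy (RankOne.D a σ) σ := by
      refine ⟨(RankOne.mem_D hS).mpr ⟨hcwfix hwa hka, hcwfix (by rw [hσa]; exact he0b) hkb⟩, ?_⟩
      have h1 : cw (σ * k * σ⁻¹) = cw k⁻¹ := congrArg cw hk.2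
      have hinv' : ∀ p, cw p⁻¹ = (cw p)⁻¹ := fun p => eq_inv_of_mul_eq_one_left (by rw [← hcwmul, inv_mul_cancel, hcw1])
      rwa [hcwmul, hcwmul, hinv', hσw, hinv'] at h1
    -- both move some involution to the same one fixed by `w`
    obtain ⟨hi, hia⟩ := hI' (SuzukiRankOne.invol_conj_mem hS (show k • a = a from hka) he0I)
    have hcwg : cw (k * e0 * k⁻¹) = k * e0 * k⁻¹ → cw k = k := fun hg =>
      inverted_unique hS (hI hi hia) hk' hk (by
        have h2 : cw (k⁻¹ * (k * e0 * k⁻¹) * k) = cw e0 := congrArg cw (by group)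
        have hinv' : cw k⁻¹ = (cw k)⁻¹ := eq_inv_of_mul_eq_one_left (by rw [← hcwmul, inv_mul_cancel, hcw1])
        rw [hcwmul, hcwmul, hinv', hg, hcwe0] at h2
        rw [h2]; group)
    by_contra hne
    refine hne (hcwg ?_)
    by_contra hg
    -- `w` would be conjugate to `u`
    set f := k * e0 * k⁻¹ with hf
    have hfI : f ∈ involutionsIn (stabilizer ↥L a : Set ↥L) := hI hi hia
    have hwfI : cw f ∈ involutionsIn (stabilizer ↥L a : Set ↥L) := hI (hcwinv hi) (hcwfix hwa hia)
    have hcomm := SuzukiRankOne.invol_comm hS h4 hfI hwfI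
    set g := f * cw f with hgdef
    have hgi : IsInv g := ⟨fun e => hg (by rw [eq_inv_of_mul_eq_one_right e, inv_eq_of_mul_eq_one_right hi.2]),
      by rw [(show Commute f (cw f) from hcomm).symm.mul_mul_mul_comm, hi.2, (hcwinv hi).2, one_mul]⟩
    have hga : g • a = a := by rw [mul_smul, hcwfix hwa hia, hia]
    have hgw : cw g = g := by rw [hgdef, hcwmul, hcwcw, ← hcomm]
    obtain ⟨l, hl, hle⟩ := RankOne.exists_conj_inverted hS (hI hgi hga) he0I
    obtain ⟨hla, hlb⟩ := (RankOne.mem_D hS).mp hl.1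
    have hl' : cw l = l := by
      have hinv' : ∀ p, cw p⁻¹ = (cw p)⁻¹ := fun p => eq_inv_of_mul_eq_one_left (by rw [← hcwmul, inv_mul_cancel, hcw1])
      refine inverted_unique hS (hI hgi hga) ⟨(RankOne.mem_D hS).mpr ⟨hcwfix hwa hla,
        hcwfix (by rw [hσa]; exact he0b) hlb⟩, ?_⟩ hl ?_
      · have h1 : cw (σ * l * σ⁻¹) = cw l⁻¹ := congrArg cw hl.2
        rwa [hcwmul, hcwmul, hinv', hσw, hinv'] at h1
      · have h2 : cw (l⁻¹ * g * l) = cw e0 := congrArg cw hle
        rwa [hcwmul, hcwmul, hinv', hgw, hcwe0, ← hle] at h2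
    set f' := l⁻¹ * f * l with hf'
    have hf'i : IsInv f' := by
      have := hi.conj l⁻¹
      rwa [inv_inv] at this
    have hf'a : f' • a = a := by
      rw [hf', mul_smul, mul_smul, hla, hia]
      exact inv_smul_eq_iff.mpr hla.symm
    have he0f : e0 = f' * cw f' := by
      have hcl : cw l⁻¹ = l⁻¹ := (eq_inv_of_mul_eq_one_left (by rw [← hcwmul, inv_mul_cancel, hcw1])).trans (by rw [hl'])
      have hcwf' : cw f' = l⁻¹ * cw f * l := by rw [hf', hcwmul, hcwmul, hcl, hl']
      rw [← hle, hcwf', hgdef, hf']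
      group
    have hwu : w = (f' : X) * u * (f' : X) := by
      have h1 : (e0 : X) = (f' : X) * (w * f' * w⁻¹) := congrArg Subtype.val he0f
      have h2 : u = w * e0 := by rw [hw, mul_assoc, he0x.2, mul_one]
      have hff := (hinv hf'i).2
      have hew : w * e0 = (e0 : X) * w := by rw [hw, ← mul_assoc, ← he0u]
      have h3 : u = (f' : X) * w * f' := by
        rw [h2, hew, h1]; group
      rw [h3, ← mul_assoc, ← mul_assoc, hff, one_mul, mul_assoc, hff, mul_one]
    refine hb0a (smul_left_cancel (f' : X) ?_)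
    rw [show (f' : X) • a = a from hf'a]
    refine huniq _ ?_
    show u • (f' : X) • b0 = (f' : X) • b0
    have h5 : u * (f' : X) = (f' : X) * w := by
      rw [hwu, ← mul_assoc, ← mul_assoc, (hinv hf'i).2, one_mul]
    rw [← mul_smul, h5, mul_smul, he0b]
  have hwf : ∀ {z : ↥L}, IsInv z → z • a = a → cw z = z := by
    intro z hz hza
    obtain ⟨k, hkI, hke⟩ := RankOne.exists_conj_inverted hS he0I (hI hz hza)
    rw [← hke, hcwmul, hcwmul, hk k hkI, hcwe0,
      show cw k⁻¹ = k⁻¹ from (eq_inv_of_mul_eq_one_left (by rw [← hcwmul, inv_mul_cancel, hcw1])).trans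
        (by rw [hk k hkI])]
  -- the displacement of `Q`
  have hcQ : ∀ q ∈ Q, cw q ∈ Q := by
    intro q hq
    obtain ⟨i, hi⟩ := hQ2 ⟨q, hq⟩
    refine Bender.Q.mem_Q_of_pow_two hS (i := i) (hcwfix hwa (hS.le hq)) ?_
    have hp : ∀ n : ℕ, cw q ^ n = cw (q ^ n) := fun n => by
      induction n with
      | zero => rw [pow_zero, pow_zero, hcw1]
      | succ n ih => rw [pow_succ, pow_succ, hcwmul, ih]
    rw [hp, show q ^ 2 ^ i = 1 from congrArg Subtype.val hi, hcw1]
  have hwb : w • b0 = b0 := he0b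
  have hphi : ∀ q ∈ Q, q⁻¹ * cw q = 1 ∨ (q⁻¹ * cw q ∈ involutionsIn (stabilizer ↥L a : Set ↥L) ∧ q⁻¹ * cw q ≠ e0) := by
    intro q hq
    by_cases hfix : q⁻¹ * cw q = 1
    · exact Or.inl hfix
    set b := q • b0 with hb
    have hba : b ≠ a := fun e => hb0a (smul_left_cancel q (e.trans (show q • a = a from hS.le hq).symm))
    obtain ⟨e, he, hea, heu, heb⟩ := hcover b hba
    have hez : IsInv e ∧ e • a = a := ⟨he, hea⟩
    set z := e0 * e with hzdef
    have hc := SuzukiRankOne.invol_comm hS h4 he0I (hI he hea)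
    have hz2 : z * z = 1 := by
      rw [hzdef, (show Commute e0 e from hc).symm.mul_mul_mul_comm, he0.2, he.2, one_mul]
    have hue : u * (e : X) = w * z := by
      rw [hw]
      show u * (e : X) = u * (e0 : X) * ((e0 : X) * e)
      rw [mul_assoc, ← mul_assoc (e0 : X), he0x.2, one_mul]
    have hzQ : z ∈ Q := mul_mem (SuzukiRankOne.invol_mem hS he0I) (SuzukiRankOne.invol_mem hS (hI he hea))
    have hwz : cw z = z := by rw [hzdef, hcwmul, hcwe0, hwf he hea]
    have hkey : z * cw q = q := by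
      refine RankOne.Q_ta_inj hS (mul_mem hzQ (hcQ q hq)) hq ?_
      rw [hσa]
      show (((z : ↥L) : X) * (w * (q : X) * w⁻¹)) • b0 = (q : X) • b0
      have h6 : (z : X) * w = w * z := by
        have := congrArg Subtype.val hwz
        calc (z : X) * w = (w * (z : X) * w⁻¹) * w := by rw [show w * (z : X) * w⁻¹ = z from this]
          _ = w * z := inv_mul_cancel_right _ _
      rw [← mul_assoc, ← mul_assoc, h6, hwinv, mul_smul, hwb, mul_smul, ← hue]
      exact heb
    have hval : q⁻¹ * cw q = z := by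
      have hzc : cw q = z * q := by
        calc cw q = z * (z * cw q) := by rw [← mul_assoc, hz2, one_mul]
          _ = z * q := by rw [hkey]
      rw [hzc]
      by_cases hz1 : z = 1
      · rw [hz1, one_mul, inv_mul_cancel]
      · have hzI : z ∈ involutionsIn (stabilizer ↥L a : Set ↥L) :=
          hI ⟨hz1, hz2⟩ (by rw [hzdef, mul_smul, hea, he0a])
        rw [RankOne.invol_central hS h4 hzI hq, inv_mul_cancel_left]
    rw [hval] at hfix ⊢
    refine Or.inr ⟨hI ⟨hfix, hz2⟩ (by rw [hzdef, mul_smul, hea, he0a]), fun e' => he.1 ?_⟩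
    exact mul_eq_left.mp e'
  have hall : ∀ q ∈ Q, cw q = q := by
    intro q hq
    rcases hphi q hq with h | ⟨h, -⟩
    · exact (inv_mul_eq_one.mp h).symm
    · exfalso
      obtain ⟨k, hkI, hke⟩ := RankOne.exists_conj_inverted hS h he0I
      have hka := ((RankOne.mem_D hS).mp hkI.1).1
      have hkq : k⁻¹ * q * k ∈ Q := RankOne.conj_Q' hS hka hq
      have he : (k⁻¹ * q * k)⁻¹ * cw (k⁻¹ * q * k) = e0 := by
        rw [← hke, hcwmul, hcwmul, hk k hkI,
          show cw k⁻¹ = k⁻¹ from (eq_inv_of_mul_eq_one_left (by rw [← hcwmul, inv_mul_cancel, hcw1])).trans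
            (by rw [hk k hkI])]
        group
      rcases hphi _ hkq with h1 | ⟨-, h1⟩
      · exact he0.1 (he.symm.trans h1)
      · exact h1 he
  -- `w` is trivial
  refine huL ?_
  suffices hw1 : w = 1 by
    rw [hw] at hw1
    rw [eq_inv_of_mul_eq_one_left hw1]
    exact L.inv_mem e0.2
  refine FaithfulSMul.eq_of_smul_eq_smul (α := Ω) fun c => ?_
  rw [one_smul]
  by_cases hca : c = a
  · rw [hca, hwa]
  obtain ⟨q, hq, hqc⟩ := RankOne.exists_Q_ta hS hca
  rw [hσa] at hqc
  rw [← hqc]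
  show w • (q : X) • b0 = (q : X) • b0
  have h7 : w * (q : X) = (q : X) * w := mul_inv_eq_iff_eq_mul.mp (congrArg Subtype.val (hall q hq) :)
  rw [← mul_smul, h7, mul_smul, hwb]

end CfsgLib.CoreKill
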