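import Cfsg.Agent.Lib.CoreKill.FinishCtx
import Cfsg.Agent.Lib.CoreKill.CentralConn

/-!
Section 3 of the core-killing theorem: from the local structure of the bad involutions to the rigid end game.

`LocalStruct` is what the Bender analysis of the centraliser of a bad involution must deliver.

Blueprint: `blueprint/bender/CoreKill.md` 3.
-/

set_option autoImplicit false
set_option linter.unusedSectionVars false
set_option linter.style.haveILetI false

universe u

namespace CfsgLib.CoreKill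

open Cfsg Subgroup CfsgLib.Signalizer
open CfsgLib.Bender.TwoClosed (IsInv)
open CfsgLib.Bender.Assembly (orderOf_two isInv_of_orderOf)

variable {G : Type u} [Group G] [Finite G]

/-- A maximal 2-subgroup of `C(t)`. -/
def IsTwoMaxIn (T : Subgroup G) (t : G) : Prop :=
  IsPGroup 2 T ∧ T ≤ centralizer ({t} : Set G) ∧
    ∀ P : Subgroup G, IsPGroup 2 P → T ≤ P → P ≤ centralizer ({t} : Set G) → P = T

/-- The involutions of `T` form with the identity an elementary abelian group `Y`; up to `t` its other involutions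
form one orbit of `N_M(Y) ∩ C(t)`. -/
def LocalStruct (W : Subgroup G) (t : G) (T : Subgroup G) : Prop :=
  ∃ Y : Subgroup G, IsElementaryAbelian 2 Y ∧ t ∈ Y ∧ Y ≤ T ∧ 4 ≤ Nat.card Y ∧
    (∀ u ∈ T, IsInv u → u ∈ Y) ∧
    ∀ u ∈ Y, u ≠ 1 → u ≠ t → ∀ v ∈ Y, v ≠ 1 → v ≠ t →
      ∃ x ∈ normalizer (W : Set G) ⊓ normalizer (Y : Set G) ⊓ centralizer ({t} : Set G),
        x * u * x⁻¹ = v ∨ x * u * x⁻¹ = t * v

theorem isInv_of_mem {Y : Subgroup G} (hY : IsElementaryAbelian 2 Y) {u : G} (hu : u ∈ Y) (hu1 : u ≠ 1) : IsInv u :=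
  ⟨hu1, mul_self_of_orderOf (orderOf_eq_two_of_ea hY hu hu1)⟩

/-- `Y` is invariant under whatever normalises `T`. -/
theorem normalizer_le_of_involutions {T Y : Subgroup G} (hY : IsElementaryAbelian 2 Y) (hYT : Y ≤ T)
    (hall : ∀ u ∈ T, IsInv u → u ∈ Y) : normalizer (T : Set G) ≤ normalizer (Y : Set G) := fun g hg =>
  Comp.mem_normalizer_of_maps fun u hu => by
    by_cases hu1 : u = 1
    · simp [hu1]
    exact hall _ ((Subgroup.mem_normalizer_iff.mp hg u).mp (hYT hu)) ((isInv_of_mem hY hu hu1).conj g)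

variable {S : Sylow 2 G} {E W : Subgroup G} {θ : G → Subgroup G}

namespace Ctx

variable (C : Ctx S E W θ)
include C

/-- A maximal 2-subgroup of `C(t)` over a pair lies in `M`. -/
theorem exists_max {t z : G} (ht : IsInv t) (htM : t ∈ normalizer (W : Set G)) (hz : IsInv z)
    (hzM : z ∈ normalizer (W : Set G)) (hne : t ≠ z) (hc : Commute t z) :
    ∃ T : Subgroup G, IsTwoMaxIn T t ∧ T ≤ normalizer (W : Set G) ∧ z ∈ T ∧ t ∈ T := by
  haveI := Fact.mk Nat.prime_two
  obtain ⟨U, -, -, hU2, htU, hzU, hU⟩ := pair_group ht hz hne hc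
  have hUC : U ≤ centralizer ({t} : Set G) := fun a ha => by
    rw [Subgroup.mem_centralizer_singleton_iff]
    rcases hU a ha with rfl | rfl | rfl | rfl
    · rw [one_mul, mul_one]
    · rfl
    · exact hc.eq.symm
    · rw [mul_assoc, ← hc.eq]
  obtain ⟨T, ⟨hT, hTC, hUT⟩, hmax⟩ := (Set.toFinite {P : Subgroup G |
    IsPGroup 2 P ∧ P ≤ centralizer ({t} : Set G) ∧ U ≤ P}).exists_maximal ⟨U, hU2, hUC, le_rfl⟩
  refine ⟨T, ⟨hT, hTC, fun P hP hTP hPC => le_antisymm (hmax ⟨hP, hPC, hUT.trans hTP⟩ hTP) hTP⟩,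
    C.data.two_le hT ht hz hne hc (hUT htU) (hUT hzU) htM hzM, hUT hzU, hUT htU⟩

/-- An involution central in a Sylow subgroup whose commuting conjugates equal it does not exist. -/
theorem false_of_isolated {t : G} (ht : IsInv t) (htM : t ∈ normalizer (W : Set G))
    (h : ∀ g : G, Commute t (g * t * g⁻¹) → g * t * g⁻¹ = t) : False := by
  have hzc : ∀ g : G, g * t * g⁻¹ = t := fun g => by
    have h1 := ZStar.inZStar (orderOf_two ht) h g
    change g * t * g⁻¹ * t⁻¹ ∈ oddCore G at h1
    rw [C.core, Subgroup.mem_bot, mul_inv_eq_one] at h1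
    exact h1
  refine C.M_ne_top (top_le_iff.mp fun x _ => C.data.good_of_central ht htM (fun w _ => ?_) ?_)
  · show w * t = t * w
    exact mul_inv_eq_iff_eq_mul.mp (hzc w)
  · exact Subgroup.mem_centralizer_singleton_iff.mpr (mul_inv_eq_iff_eq_mul.mp (hzc x))

theorem good_conj_iff {v g : G} (hg : g ∈ normalizer (W : Set G)) :
    IsGood W (g * v * g⁻¹) ↔ IsGood W v := by
  refine ⟨fun h => ?_, C.data.good_conj hg⟩
  have := C.data.good_conj (inv_mem hg) h
  simpa [mul_assoc] using this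

variable (hloc : ∀ (t : G) (T : Subgroup G), IsInv t → t ∈ normalizer (W : Set G) → ¬ IsGood W t →
  IsTwoMaxIn T t → T ≤ normalizer (W : Set G) → LocalStruct W t T)
include hloc

/-- No bad involution is the product of two good ones. -/
theorem false_of_good_pair {t z : G} (ht : IsInv t) (htM : t ∈ normalizer (W : Set G)) (hbad : ¬ IsGood W t)
    (hz : IsInv z) (hzM : z ∈ normalizer (W : Set G)) (hne : t ≠ z) (hc : Commute t z) (hgz : IsGood W z)
    (hgz' : IsGood W (t * z)) : False := by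
  haveI := Fact.mk Nat.prime_two
  obtain ⟨T, hT, hTM, hzT, htT⟩ := C.exists_max ht htM hz hzM hne hc
  obtain ⟨Y, hY, htY, hYT, -, hall, htrans⟩ := hloc t T ht htM hbad hT hTM
  have hzY := hall z hzT hz
  -- only `t` is bad in `Y`
  have honly : ∀ v ∈ Y, v ≠ 1 → v ≠ t → IsGood W v := by
    intro v hv hv1 hvt
    obtain ⟨x, hx, h⟩ := htrans z hzY hz.1 hne.symm v hv hv1 hvt
    have hxM := (Subgroup.mem_inf.mp (Subgroup.mem_inf.mp hx).1).1
    have hxt := Subgroup.mem_centralizer_singleton_iff.mp (Subgroup.mem_inf.mp hx).2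
    rcases h with h | h
    · exact h ▸ C.data.good_conj hxM hgz
    · have h2 : x * (t * z) * x⁻¹ = v := by
        calc x * (t * z) * x⁻¹ = (x * t) * x⁻¹ * (x * z * x⁻¹) := by group
          _ = (t * x) * x⁻¹ * (t * v) := by rw [hxt, h]
          _ = (t * t) * v := by group
          _ = v := by rw [ht.2, one_mul]
      exact h2 ▸ C.data.good_conj hxM hgz'
  have hfix : ∀ g ∈ normalizer (W : Set G), g * t * g⁻¹ ∈ Y → g * t * g⁻¹ = t := by
    intro g hg hgY
    by_contra hne'
    exact hbad ((C.good_conj_iff hg).mp (honly _ hgY (ht.conj g).1 hne'))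
  -- `T` is a Sylow subgroup of `G`
  obtain ⟨P, hP⟩ := hT.1.exists_le_sylow
  have hPM : (P : Subgroup G) ≤ normalizer (W : Set G) :=
    C.data.two_le P.isPGroup' ht hz hne hc (hP htT) (hP hzT) htM hzM
  have hTP : T = (P : Subgroup G) := by
    by_contra hTne
    haveI := P.isPGroup'.isNilpotent
    have hlt : T.subgroupOf (P : Subgroup G) < ⊤ :=
      lt_top_iff_ne_top.mpr fun e => hTne (le_antisymm hP (Subgroup.subgroupOf_eq_top.mp e))
    obtain ⟨y, hy, hyT⟩ := SetLike.exists_of_lt (Group.normalizerCondition_of_isNilpotent _ hlt)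
    have hyN : (y : G) ∈ normalizer (T : Set G) := Subgroup.mem_normalizer_fintype fun a ha =>
      (Subgroup.mem_normalizer_iff.mp hy ⟨a, hP ha⟩).mp ha
    have hyY := (Subgroup.mem_normalizer_iff.mp (normalizer_le_of_involutions hY hYT hall hyN) t).mp htY
    have hyt := hfix y (hPM y.2) hyY
    have h1 := hT.2.2 (T ⊔ zpowers (y : G))
      (P.isPGroup'.to_le (sup_le hP (Subgroup.zpowers_le.mpr y.2))) le_sup_left
      (sup_le hT.2.1 (Subgroup.zpowers_le.mpr
        (Subgroup.mem_centralizer_singleton_iff.mpr (mul_inv_eq_iff_eq_mul.mp hyt))))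
    exact hyT (h1 ▸ mem_sup_right (mem_zpowers (y : G)))
  refine C.false_of_isolated ht htM fun g hg => ?_
  set t' := g * t * g⁻¹ with ht'
  have ht'C : t' ∈ centralizer ({t} : Set G) := Subgroup.mem_centralizer_singleton_iff.mpr hg.eq.symm
  obtain ⟨c, hc', hcS⟩ := Bender.Q.exists_conj_sylow (S := P) (hTP ▸ hT.2.1) (zpowers_inv (ht.conj g))
    (Subgroup.zpowers_le.mpr ht'C)
  have h1 : c * t' * c⁻¹ ∈ (P : Subgroup G) := hcS _ (mem_zpowers t')
  have h2 : (c * g) * t * (c * g)⁻¹ = c * t' * c⁻¹ := by rw [ht']; group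
  have h3 : c * t' * c⁻¹ ∈ Y := hall _ (hTP ▸ h1) ((ht.conj g).conj c)
  obtain ⟨m, hm, he⟩ := C.data.fused ht htM (g := c * g) (h2 ▸ hPM h1)
  have h4 : c * t' * c⁻¹ = t := by
    have := hfix m hm (by rw [he, h2]; exact h3)
    rwa [he, h2] at this
  calc t' = c⁻¹ * (c * t' * c⁻¹) * c := by group
    _ = c⁻¹ * (c * t) := by
      rw [h4]
      have e := Subgroup.mem_centralizer_singleton_iff.mp hc'
      rw [mul_assoc, ← e]
    _ = t := inv_mul_cancel_left c t

/-- A good central involution closes the criterion. -/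
theorem false_of_good_central {z : G} (hz : IsInv z) (hzS : z ∈ (S : Subgroup G))
    (hzc : ∀ s ∈ (S : Subgroup G), Commute s z) (hgood : IsGood W z) : False := by
  have hzM : z ∈ normalizer (W : Set G) := C.data.W_inv hzS
  refine C.false_of_crit (Bender.Q.crit_class C.M_ne_top (orderOf_two hz) hzM ⟨S, hzS, hzc⟩
    (fun g hg => C.data.good_mem hz hzM hgood hg) fun g hg hne => ?_)
  have hz'M : g * z * g⁻¹ ∈ normalizer (W : Set G) :=
    hgood (Subgroup.mem_centralizer_singleton_iff.mpr hg.eq.symm)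
  by_contra hbad
  have hgood' : IsGood W (g * z * g⁻¹) := by
    obtain ⟨m, hm, he⟩ := C.data.fused hz hzM hz'M
    exact he ▸ C.data.good_conj hm hgood
  set p := z * (g * z * g⁻¹) with hp
  have hpi : IsInv p := ⟨fun e => hne (by
    have h1 := eq_inv_of_mul_eq_one_right e
    rwa [hz.inv] at h1), by rw [hp, hg.symm.mul_mul_mul_comm, hz.2, (hz.conj g).2, one_mul]⟩
  refine C.false_of_good_pair hloc hpi (mul_mem hzM hz'M) hbad hz hzM
    (fun e => (hz.conj g).1 (by rwa [hp, mul_eq_left] at e)) ((Commute.refl z).mul_left hg.symm) hgood ?_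
  rwa [hp, hg.eq, mul_assoc, hz.2, mul_one]

/-- **Section 3.** -/
theorem false_of_local
    (hrig : ∀ t ∈ (S : Subgroup G), IsInv t → (∀ s ∈ (S : Subgroup G), Commute s t) →
      (∀ u ∈ (S : Subgroup G), IsInv u → ¬ IsGood W u) →
      (∀ u ∈ (S : Subgroup G), IsInv u → ∃ g : G, g * t * g⁻¹ = u) → Rigid S t) : False := by
  classical
  haveI := Fact.mk Nat.prime_two
  have D := C.data
  obtain ⟨t, htS, ht2, htc⟩ := Comp.exists_central_in_normal (p := 2) S.isPGroup' (le_refl (S : Subgroup G))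
    Subgroup.le_normalizer fun e => by
      have := Subgroup.card_le_of_le (D.E_le.trans e.le)
      rw [Subgroup.card_bot] at this
      have := D.E_card
      omega
  have ht := isInv_of_orderOf ht2
  have htc' : ∀ s ∈ (S : Subgroup G), Commute s t := htc
  have htM : t ∈ normalizer (W : Set G) := D.W_inv htS
  have hbad : ¬ IsGood W t := fun hg => C.false_of_good_central hloc ht htS htc' hg
  have hSC : (S : Subgroup G) ≤ centralizer ({t} : Set G) := fun s hs =>
    Subgroup.mem_centralizer_singleton_iff.mpr (htc s hs)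
  obtain ⟨Y, hY, htY, hYS, hY4, hall, htrans⟩ := hloc t (S : Subgroup G) ht htM hbad
    ⟨S.isPGroup', hSC, fun P hP hSP _ => S.is_maximal' hP hSP⟩ D.W_inv
  have hnormY : (S : Subgroup G) ≤ normalizer (Y : Set G) :=
    Subgroup.le_normalizer.trans (normalizer_le_of_involutions hY hYS hall)
  have hcomm : ∀ v ∈ Y, Commute t v := fun v hv => (htc v (hYS hv)).symm
  have htY' : ∀ v ∈ Y, v ≠ 1 → v ≠ t → t * v ∈ Y ∧ t * v ≠ 1 ∧ t * v ≠ t := fun v hv hv1 hvt =>
    ⟨mul_mem htY hv, fun e => hvt (by rw [← ht.inv]; exact eq_inv_of_mul_eq_one_right e),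
      fun e => hv1 (mul_eq_left.mp e)⟩
  -- all involutions of `S` are bad
  have hallbad : ∀ u ∈ (S : Subgroup G), IsInv u → ¬ IsGood W u := by
    intro u huS hu hgu
    have huY := hall u huS hu
    have hut : u ≠ t := fun e => hbad (e ▸ hgu)
    -- exactly one member of each pair is good
    have hone : ∀ v ∈ Y, v ≠ 1 → v ≠ t → (IsGood W v ↔ ¬ IsGood W (t * v)) := by
      intro v hv hv1 hvt
      refine ⟨fun h1 h2 => C.false_of_good_pair hloc ht htM hbad (isInv_of_mem hY hv hv1) (D.W_inv (hYS hv))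
        (Ne.symm hvt) (hcomm v hv) h1 h2, fun h2 => ?_⟩
      obtain ⟨x, hx, h⟩ := htrans u huY hu.1 hut v hv hv1 hvt
      have hxM := (Subgroup.mem_inf.mp (Subgroup.mem_inf.mp hx).1).1
      rcases h with h | h
      · exact h ▸ D.good_conj hxM hgu
      · exact absurd (h ▸ D.good_conj hxM hgu) h2
    let Good := {v : G // v ∈ Y ∧ v ≠ 1 ∧ v ≠ t ∧ IsGood W v}
    let Mem := {v : G // v ∈ Y ∧ v ≠ 1 ∧ v ≠ t}
    have e : Good ⊕ Good ≃ Mem :=
      { toFun := Sum.elim (fun v => ⟨v.1, v.2.1, v.2.2.1, v.2.2.2.1⟩)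
          (fun v => ⟨t * v.1, htY' v.1 v.2.1 v.2.2.1 v.2.2.2.1⟩)
        invFun := fun v => if h : IsGood W v.1 then Sum.inl ⟨v.1, v.2.1, v.2.2.1, v.2.2.2, h⟩
          else Sum.inr ⟨t * v.1, (htY' v.1 v.2.1 v.2.2.1 v.2.2.2).1, (htY' v.1 v.2.1 v.2.2.1 v.2.2.2).2.1,
            (htY' v.1 v.2.1 v.2.2.1 v.2.2.2).2.2, by
              by_contra hn
              exact h ((hone v.1 v.2.1 v.2.2.1 v.2.2.2).mpr hn)⟩
        left_inv := by
          rintro (v | v)
          · simp [v.2.2.2.2]
          · have hnot : ¬ IsGood W (t * v.1) := (hone v.1 v.2.1 v.2.2.1 v.2.2.2.1).mp v.2.2.2.2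
            simp [hnot, ← mul_assoc, ht.2]
        right_inv := fun v => by
          by_cases h : IsGood W v.1
          · simp [h]
          · simp [h, ← mul_assoc, ht.2] }
    have hmem : Nat.card Mem + 2 = Nat.card Y := by
      haveI := Fintype.ofFinite G
      have h1 : Nat.card Mem = ((Finset.univ.filter (· ∈ Y)).erase 1 |>.erase t).card := by
        rw [Nat.card_eq_fintype_card]
        refine Fintype.card_of_subtype _ fun v => ?_
        simp [and_comm, and_left_comm, and_assoc]
      have h2 : Nat.card Y = (Finset.univ.filter (· ∈ Y)).card := by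
        rw [Nat.card_eq_fintype_card]
        exact Fintype.card_of_subtype _ fun v => by simp
      rw [h1, h2, Finset.card_erase_of_mem (by simp [htY, ht.1]), Finset.card_erase_of_mem (by simp)]
      omega
    have hodd : ¬ 2 ∣ Nat.card Good := by
      have h2 := Nat.card_congr e
      rw [Nat.card_sum] at h2
      obtain ⟨k, hk⟩ := IsPGroup.iff_card.mp (isPGroup_ea hY)
      have hk2 : 2 ≤ k := by
        by_contra hc
        have : Nat.card Y ≤ 2 := by
          rw [hk]
          calc 2 ^ k ≤ 2 ^ 1 := Nat.pow_le_pow_right (by norm_num) (by omega)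
            _ = 2 := pow_one 2
        omega
      obtain ⟨j, rfl⟩ : ∃ j, k = j + 2 := ⟨k - 2, by omega⟩
      intro hd
      obtain ⟨i, hi⟩ := hd
      rw [pow_add] at hk
      omega
    letI : MulAction ↥(S : Subgroup G) Good :=
      { smul := fun s v => ⟨(s : G) * v.1 * (s : G)⁻¹, (Subgroup.mem_normalizer_iff.mp (hnormY s.2) v.1).mp v.2.1,
          by simpa using v.2.2.1, fun e => v.2.2.2.1 (by
            have e' : v.1 = (s : G)⁻¹ * t * s := by
              calc v.1 = (s : G)⁻¹ * ((s : G) * v.1 * (s : G)⁻¹) * s := by group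
                _ = (s : G)⁻¹ * t * s := congrArg (fun a => (s : G)⁻¹ * a * s) e
            rw [e', mul_assoc, ← (htc' s s.2).eq, inv_mul_cancel_left]),
          (C.good_conj_iff (D.W_inv s.2)).mpr v.2.2.2.2⟩
        one_smul := fun v => Subtype.ext (by
          show ((1 : ↥(S : Subgroup G)) : G) * v.1 * ((1 : ↥(S : Subgroup G)) : G)⁻¹ = v.1
          simp)
        mul_smul := fun a b v => Subtype.ext (by
          show (a : G) * b * v.1 * ((a : G) * b)⁻¹ = (a : G) * ((b : G) * v.1 * (b : G)⁻¹) * (a : G)⁻¹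
          group) }
    obtain ⟨v, hv⟩ := S.isPGroup'.nonempty_fixed_point_of_prime_not_dvd_card (α := Good) hodd
    refine C.false_of_good_central hloc (isInv_of_mem hY v.2.1 v.2.2.1) (hYS v.2.1) (fun s hs => ?_) v.2.2.2.2
    have h1 : s * v.1 * s⁻¹ = v.1 := congrArg Subtype.val (hv ⟨s, hs⟩)
    exact mul_inv_eq_iff_eq_mul.mp h1
  -- they form one class
  have hfused : ∀ u ∈ (S : Subgroup G), IsInv u → ∃ g : G, g * t * g⁻¹ = u := by
    set K := normalizer (W : Set G) ⊓ normalizer (Y : Set G)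
    letI : MulAction ↥K G := MulAction.compHom G
      ((MulAut.conj : G →* MulAut G).comp K.subtype)
    have hsmul : ∀ (k : K) (g : G), k • g = (k : G) * g * (k : G)⁻¹ := fun _ _ => rfl
    -- conjugates of `t` in `Y` are conjugate under `K`
    have horb : ∀ g : G, g * t * g⁻¹ ∈ Y → g * t * g⁻¹ ∈ MulAction.orbit K t := by
      intro g hgY
      obtain ⟨m, hm, he⟩ := D.fused ht htM (g := g) (D.W_inv (hYS hgY))
      rw [← he] at hgY ⊢
      set y := m * t * m⁻¹
      have hmS : ∀ s ∈ (S : Subgroup G), m * s * m⁻¹ ∈ centralizer ({y} : Set G) ⊓ normalizer (W : Set G) :=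
        fun s hs => Subgroup.mem_inf.mpr ⟨Subgroup.mem_centralizer_singleton_iff.mpr (by
          show m * s * m⁻¹ * (m * t * m⁻¹) = m * t * m⁻¹ * (m * s * m⁻¹)
          rw [show m * s * m⁻¹ * (m * t * m⁻¹) = m * (s * t) * m⁻¹ by group, htc s hs]
          group), mul_mem (mul_mem hm (D.W_inv hs)) (inv_mem hm)⟩
      have hle : ((m • S : Sylow 2 G) : Subgroup G) ≤ centralizer ({y} : Set G) ⊓ normalizer (W : Set G) := by
        rintro _ ⟨s, hs, rfl⟩
        exact hmS s hs
      obtain ⟨c, hc, hcY⟩ := Bender.Q.exists_conj_sylow hle (isPGroup_ea hY) fun x hx =>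
        Subgroup.mem_inf.mpr ⟨Subgroup.mem_centralizer_singleton_iff.mpr (ea_comm hY hx hgY), D.W_inv (hYS hx)⟩
      obtain ⟨hcy, hcM⟩ := Subgroup.mem_inf.mp hc
      have hn : c⁻¹ * m ∈ K := by
        refine Subgroup.mem_inf.mpr ⟨mul_mem (inv_mem hcM) hm, ?_⟩
        have h1 : m⁻¹ * c ∈ normalizer (Y : Set G) := Comp.mem_normalizer_of_maps fun x hx => by
          by_cases hx1 : x = 1
          · simp [hx1]
          obtain ⟨s, hs, hse⟩ := hcY x hx
          have hse' : m * s * m⁻¹ = c * x * c⁻¹ := hse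
          have e2 : m⁻¹ * c * x * (m⁻¹ * c)⁻¹ = s := by
            calc m⁻¹ * c * x * (m⁻¹ * c)⁻¹ = m⁻¹ * (c * x * c⁻¹) * m := by group
              _ = m⁻¹ * (m * s * m⁻¹) * m := by rw [hse']
              _ = s := by group
          rw [e2]
          refine hall s hs ?_
          rw [← e2]
          exact (isInv_of_mem hY hx hx1).conj _
        simpa using inv_mem h1
      refine ⟨⟨_, hn⟩, ?_⟩
      show c⁻¹ * m * t * (c⁻¹ * m)⁻¹ = y
      have e := Subgroup.mem_centralizer_singleton_iff.mp hcy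
      calc c⁻¹ * m * t * (c⁻¹ * m)⁻¹ = c⁻¹ * (y * c) := by simp only [y]; group
        _ = c⁻¹ * (c * y) := by rw [e]
        _ = y := inv_mul_cancel_left c y
    have hsub : ∀ v ∈ MulAction.orbit K t, v ∈ Y ∧ v ≠ 1 := by
      rintro _ ⟨k, rfl⟩
      exact ⟨(Subgroup.mem_normalizer_iff.mp (Subgroup.mem_inf.mp k.2).2 t).mp htY, (ht.conj (k : G)).1⟩
    have hodd : ¬ 2 ∣ Nat.card (MulAction.orbit K t) := by
      rw [Nat.card_congr (MulAction.orbitEquivQuotientStabilizer K t)]
      intro hd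
      have hle : (S : Subgroup G).subgroupOf K ≤ MulAction.stabilizer K t := fun s hs => by
        rw [MulAction.mem_stabilizer_iff, hsmul, (htc' (s : G) hs).eq, mul_inv_cancel_right]
      have h1 : ¬ 2 ∣ ((S : Subgroup G).subgroupOf K).index :=
        (S.subtype (le_inf D.W_inv hnormY)).not_dvd_index
      exact h1 (hd.trans (Subgroup.index_dvd_of_le hle))
    by_contra hno
    push Not at hno
    obtain ⟨u, huS, hu, hune⟩ := hno
    have huY := hall u huS hu
    -- every pair meets the orbit exactly once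
    have hpair : ∀ v ∈ Y, v ≠ 1 → v ≠ t → ¬ (v ∈ MulAction.orbit K t ∧ t * v ∈ MulAction.orbit K t) := by
      rintro v hv hv1 hvt ⟨⟨k, hk⟩, ⟨l, hl⟩⟩
      have hut : u ≠ t := fun e => hune 1 (by simp [e])
      obtain ⟨x, hx, h⟩ := htrans v hv hv1 hvt u huY hu.1 hut
      have hxt := Subgroup.mem_centralizer_singleton_iff.mp (Subgroup.mem_inf.mp hx).2
      have hk' : (k : G) * t * (k : G)⁻¹ = v := hk
      have hl' : (l : G) * t * (l : G)⁻¹ = t * v := hl
      rcases h with h | h
      · exact hune (x * k) (by rw [← h, ← hk']; group)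
      · refine hune (x * l) ?_
        calc x * l * t * (x * (l : G))⁻¹ = x * ((l : G) * t * (l : G)⁻¹) * x⁻¹ := by group
          _ = (x * t) * x⁻¹ * (x * v * x⁻¹) := by rw [hl']; group
          _ = (t * x) * x⁻¹ * (t * u) := by rw [hxt, h]
          _ = (t * t) * u := by group
          _ = u := by rw [ht.2, one_mul]
    -- the orbit is `t` alone
    have honly : ∀ v ∈ MulAction.orbit K t, v = t := by
      by_contra hcon
      push Not at hcon
      obtain ⟨w, hw, hwt⟩ := hcon
      obtain ⟨k₀, hk₀⟩ := hw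
      obtain ⟨hwY, hw1⟩ := hsub w ⟨k₀, hk₀⟩
      refine hodd ?_
      haveI := Fintype.ofFinite G
      -- `t` is paired with `1`, the member `v` with `t v`
      let O := MulAction.orbit K t
      have hcl : ∀ v ∈ Y, v ≠ 1 → v ≠ t → v ∈ O ∨ t * v ∈ O := by
        intro v hv hv1 hvt
        obtain ⟨x, hx, h⟩ := htrans w hwY hw1 hwt v hv hv1 hvt
        have h' : x * w * x⁻¹ ∈ O :=
          ⟨(⟨x, (Subgroup.mem_inf.mp hx).1⟩ : ↥K) * k₀, by
            show ((⟨x, (Subgroup.mem_inf.mp hx).1⟩ : ↥K) * k₀) • t = _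
            rw [mul_smul, show k₀ • t = w from hk₀, hsmul]⟩
        rcases h with h | h
        · exact Or.inl (h ▸ h')
        · exact Or.inr (h ▸ h')
      have htO : t ∈ O := MulAction.mem_orbit_self t
      have e : O ⊕ O ≃ {v : G // v ∈ Y} :=
        Equiv.ofBijective (Sum.elim (fun v => ⟨v.1, (hsub v.1 v.2).1⟩)
            (fun v => ⟨t * v.1, mul_mem htY (hsub v.1 v.2).1⟩)) ⟨by
          rintro (a | a) (b | b) h
          · exact congrArg Sum.inl (Subtype.ext (congrArg Subtype.val h :))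
          · exfalso
            have h' : (a : G) = t * b := congrArg Subtype.val h
            obtain ⟨hbY, hb1⟩ := hsub b.1 b.2
            by_cases hbt : (b : G) = t
            · exact (hsub a.1 a.2).2 (by rw [h', hbt, ht.2])
            · exact hpair b hbY hb1 hbt ⟨b.2, h' ▸ a.2⟩
          · exfalso
            have h' : t * (a : G) = b := congrArg Subtype.val h
            obtain ⟨haY, ha1⟩ := hsub a.1 a.2
            by_cases hat : (a : G) = t
            · exact (hsub b.1 b.2).2 (by rw [← h', hat, ht.2])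
            · exact hpair a haY ha1 hat ⟨a.2, h' ▸ b.2⟩
          · exact congrArg Sum.inr (Subtype.ext (mul_left_cancel (congrArg Subtype.val h :))), by
          rintro ⟨v, hv⟩
          by_cases hv1 : v = 1
          · exact ⟨Sum.inr ⟨t, htO⟩, Subtype.ext (by simp [hv1, ht.2])⟩
          by_cases hvt : v = t
          · exact ⟨Sum.inl ⟨t, htO⟩, Subtype.ext hvt.symm⟩
          rcases hcl v hv hv1 hvt with h | h
          · exact ⟨Sum.inl ⟨v, h⟩, rfl⟩
          · exact ⟨Sum.inr ⟨_, h⟩, Subtype.ext (by simp [← mul_assoc, ht.2])⟩⟩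
      have h2 := Nat.card_congr e
      rw [Nat.card_sum] at h2
      obtain ⟨k, hk⟩ := IsPGroup.iff_card.mp (isPGroup_ea hY)
      have hk2 : 2 ≤ k := by
        by_contra hc
        have : Nat.card Y ≤ 2 := by
          rw [hk]
          calc 2 ^ k ≤ 2 ^ 1 := Nat.pow_le_pow_right (by norm_num) (by omega)
            _ = 2 := pow_one 2
        omega
      obtain ⟨j, rfl⟩ : ∃ j, k = j + 2 := ⟨k - 2, by omega⟩
      rw [pow_add] at hk
      have h3 : Nat.card {v : G // v ∈ Y} = Nat.card Y := rfl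
      exact ⟨2 ^ j, by show Nat.card O = 2 * 2 ^ j; omega⟩
    refine C.false_of_isolated ht htM fun g hg => ?_
    set t' := g * t * g⁻¹ with ht'
    obtain ⟨c, hc', hcS⟩ := Bender.Q.exists_conj_sylow hSC (zpowers_inv (ht.conj g))
      (Subgroup.zpowers_le.mpr (Subgroup.mem_centralizer_singleton_iff.mpr hg.eq.symm))
    have h1 : c * t' * c⁻¹ ∈ (S : Subgroup G) := hcS _ (mem_zpowers t')
    have h2 : (c * g) * t * (c * g)⁻¹ = c * t' * c⁻¹ := by rw [ht']; group
    have h3 : c * t' * c⁻¹ = t :=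
      honly _ (h2 ▸ horb (c * g) (h2 ▸ hall _ h1 ((ht.conj g).conj c)))
    calc t' = c⁻¹ * (c * t' * c⁻¹) * c := by group
      _ = c⁻¹ * (c * t) := by
        rw [h3, mul_assoc, ← Subgroup.mem_centralizer_singleton_iff.mp hc']
      _ = t := inv_mul_cancel_left c t
  -- the involutions of `S` form `Y`, so the four groups are connected
  have hEY : E ≤ Y := fun e he => by
    by_cases he1 : e = 1
    · exact he1 ▸ one_mem Y
    · exact hall e (D.E_le he) (isInv_of_mem D.E_elem he he1)
  have hconn : IsFourConnected ↥(S : Subgroup G) := by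
    have hYe : IsElementaryAbelian 2 (Y.subgroupOf (S : Subgroup G)) :=
      SolvSF.ea_of_comm (fun a ha b hb => Subtype.ext (ea_comm hY ha hb)) fun a ha => Subtype.ext (hY.2 _ ha)
    have hY8 : 8 ≤ Nat.card (Y.subgroupOf (S : Subgroup G)) := by
      rw [Nat.card_congr (Subgroup.subgroupOfEquivOfLe hYS).toEquiv]
      exact D.E_card.trans (Subgroup.card_le_of_le hEY)
    exact isFourConnected_of_central S.isPGroup' (z := ⟨t, htS⟩)
      ⟨fun e => ht.1 (congrArg Subtype.val e), Subtype.ext ht.2⟩ (fun s => Subtype.ext (htc s s.2)) hYe hY8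
      fun v hv _ => ⟨_, hYe, hY8, htY, hall v v.2 ⟨fun e => hv.1 (Subtype.ext e), congrArg Subtype.val hv.2⟩⟩
  exact C.false_of_rigid hconn (hrig t htS ht htc' hallbad hfused)

end Ctx

end CfsgLib.CoreKill
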