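import Cfsg.Agent.Lib.CoreKill.Assemble
import Cfsg.Agent.Lib.CoreKill.Rows
import Cfsg.Agent.Lib.CoreKill.Fail.Twin.Balance

/-!
Theorem CK.
-/

set_option autoImplicit false

universe u

namespace CfsgLib.CoreKill

/-- Theorem CK: the cores of the centralisers of the involutions die. -/
theorem ck : CK.{u} := ck_of_twinCore fun _ _ _ _ _ _ h _ _ T hone => Local.Twin.bal_rigid h T hone

end CfsgLib.CoreKill
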